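import Cfsg.Agent.Lib.Spor.OmegaEightThree.Double.Signs

/-!
The fixed points modulo `⟨t⟩` on `Y` of the sign changes and of `σ`.
-/

set_option autoImplicit false
set_option linter.unusedSectionVars false
set_option maxHeartbeats 1000000
set_option maxRecDepth 100000

namespace Cfsg.Agent.Spor.OmegaEightThree

open X (Vec wt mono dot hh hh_wt Sgn)

namespace Loc

theorem perm_sV : (∀ i : Fin 4, X.idx (sV (hh i)) = ![0, 2, 1, 3] i) ∧
    ∀ i : Fin 4, X.idx (mono 1 (-1) (sV (hh i))) = ![0, 2, 1, 3] i := by decide +kernel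

theorem neg_moves : ∀ i : Fin 4, ∃ u : Vec, dot (hh i) (mono 1 (-1) u - u) ≠ 0 := by decide +kernel

theorem negS_moves : ∀ i : Fin 4, i = 0 ∨ i = 3 →
    ∃ u : Vec, dot (hh i) (mono 1 (-1) (sV u) - u) ≠ 0 := by decide +kernel

theorem act_cover : ∀ ε : Sgn, ε ≠ 1 → ε ≠ -1 →
    ∃ i k : Fin 4, ∀ j, j = i ∨ j = X.act ε i ∨ j = k ∨ j = X.act ε k := by decide +kernel

theorem vz_fixed : sV vz = vz ∧ fV vz = vz ∧ dot vz vz = 0 ∧ mono 1 (![-1, 1, 1] : Sgn) (hh 0) = hh 3 := by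
  decide +kernel

namespace Dbl

variable {G : Type*} [Group G] [Finite G] {T : Loc G} (D : Dbl T)

/-- The elements normalising `Y` and centralising `t`. -/
def NT : Subgroup G := Subgroup.normalizer (D.Y : Set G) ⊓ Subgroup.centralizer {D.F.t}

theorem mem_NT {g : G} : g ∈ D.NT ↔ g ∈ Subgroup.normalizer (D.Y : Set G) ∧ g * D.F.t = D.F.t * g := by
  rw [NT, Subgroup.mem_inf, Subgroup.mem_centralizer_singleton_iff]

theorem NT_conj {g : G} (hg : g ∈ D.NT) {y : G} (hy : y ∈ D.Y) : g * y * g⁻¹ ∈ D.Y :=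
  (Subgroup.mem_normalizer_iff.1 (D.mem_NT.1 hg).1 y).1 hy

theorem Y_le_NT : D.Y ≤ D.NT := fun _ hy => D.mem_NT.2 ⟨Subgroup.le_normalizer hy, D.Y_comm_t hy⟩

theorem NA_le_NT : D.NA ≤ D.NT := fun _ hk => D.mem_NT.2 ⟨D.NA_norm_Y hk, (D.mem_NA.1 hk).1⟩

theorem NT_Zt {g : G} (hg : g ∈ D.NT) {z : G} (hz : z ∈ D.Zt) : g * z * g⁻¹ = z := by
  rw [D.Zt_comm hz (D.mem_NT.1 hg).2, mul_inv_cancel_right]

/-- The elements of `Y` fixed by `g` modulo `⟨t⟩`. -/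
def CV (g : G) : Subgroup G where
  carrier := {y | y ∈ D.Y ∧ y⁻¹ * (g * y * g⁻¹) ∈ D.Zt}
  one_mem' := ⟨one_mem _, by simp⟩
  mul_mem' {x y} hx hy := ⟨mul_mem hx.1 hy.1, by
    set z := x⁻¹ * (g * x * g⁻¹) with hz
    have h : y⁻¹ * z = z * y⁻¹ := D.Zt_comm hx.2 ((show Commute y D.F.t from D.Y_comm_t hy.1).inv_left).eq
    rw [show (x * y)⁻¹ * (g * (x * y) * g⁻¹) = y⁻¹ * z * (g * y * g⁻¹) by rw [hz]; group, h, mul_assoc]
    exact mul_mem hx.2 hy.2⟩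
  inv_mem' {x} hx := ⟨inv_mem hx.1, by
    set z := x⁻¹ * (g * x * g⁻¹) with hz
    rw [show x⁻¹⁻¹ * (g * x⁻¹ * g⁻¹) = (x * z * x⁻¹)⁻¹ by rw [hz]; group,
      D.Zt_comm hx.2 (D.Y_comm_t hx.1), mul_inv_cancel_right]
    exact inv_mem hx.2⟩

theorem mem_CV {g y : G} : y ∈ D.CV g ↔ y ∈ D.Y ∧ y⁻¹ * (g * y * g⁻¹) ∈ D.Zt := Iff.rfl

theorem CV_le (g : G) : D.CV g ≤ D.Y := fun _ h => h.1

theorem CV_mul {y g : G} (hy : y ∈ D.Y) (hg : g ∈ D.NT) : D.CV (y * g) = D.CV g := by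
  ext v
  simp only [mem_CV]
  refine and_congr_right fun hv => ?_
  have h := D.Y_comm_mod hy (D.NT_conj hg hv)
  rw [show v⁻¹ * (y * g * v * (y * g)⁻¹) =
    v⁻¹ * (g * v * g⁻¹) * ((g * v * g⁻¹)⁻¹ * (y * (g * v * g⁻¹) * y⁻¹)) by group]
  exact Subgroup.mul_mem_cancel_right _ h

theorem CV_conj_le {h : G} (hh' : h ∈ D.NT) (g : G) : Nat.card (D.CV g) ≤ Nat.card (D.CV (h * g * h⁻¹)) := by
  rw [← Subgroup.card_map_of_injective (K := D.CV g) (f := (MulAut.conj h).toMonoidHom) (MulAut.conj h).injective]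
  refine Subgroup.card_le_of_le ?_
  rintro _ ⟨v, hv, rfl⟩
  refine ⟨D.NT_conj hh' hv.1, ?_⟩
  show (h * v * h⁻¹)⁻¹ * (h * g * h⁻¹ * (h * v * h⁻¹) * (h * g * h⁻¹)⁻¹) ∈ D.Zt
  rw [show (h * v * h⁻¹)⁻¹ * (h * g * h⁻¹ * (h * v * h⁻¹) * (h * g * h⁻¹)⁻¹) =
    h * (v⁻¹ * (g * v * g⁻¹)) * h⁻¹ by group, D.NT_Zt hh' hv.2]
  exact hv.2

theorem CV_conj {h : G} (hh' : h ∈ D.NT) (g : G) : Nat.card (D.CV (h * g * h⁻¹)) = Nat.card (D.CV g) := by
  refine le_antisymm ?_ (D.CV_conj_le hh' g)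
  have := D.CV_conj_le (inv_mem hh') (h * g * h⁻¹)
  rwa [show h⁻¹ * (h * g * h⁻¹) * h⁻¹⁻¹ = g by group] at this

theorem card_CV_le {g : G} (h : Nat.card ((D.CV g).comap D.pr) ≤ 256) : Nat.card (D.CV g) ≤ 32 := by
  rw [D.card_preimage (D.CV_le g)] at h
  omega

/-- The components of a fixed element. -/
theorem comp_rel {g : G} {π : Equiv.Perm (Fin 4)} (hπ : ∀ i, ∀ x ∈ D.Rh i, g * x * g⁻¹ ∈ D.Rh (π i))
    {f : ∀ i, D.Rh i} (hf : D.pr f ∈ D.CV g) (i : Fin 4) : (f (π i) : G)⁻¹ * (g * f i * g⁻¹) ∈ D.Zt := by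
  obtain ⟨f', e1, e2⟩ := D.conj_pr hπ f
  rw [← e2 i]
  exact D.comp_congr (by rw [e1]; exact hf.2) (π i)

/-- A move fixing a component group acts nontrivially on it. -/
theorem card_small {g : G} {f : Vec → Vec} (hf : D.Move g f) {i : Fin 4}
    (hu : ∃ u, dot (hh i) (f u - u) ≠ 0) : Nat.card (D.Rh i ⊓ D.CV g : Subgroup G) ≤ 4 := by
  obtain ⟨u, hu⟩ := hu
  by_contra hlt
  push Not at hlt
  have h8 : Nat.card (D.Rh i) = 8 := D.card_R (hh_wt i)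
  have hd : Nat.card (D.Rh i ⊓ D.CV g : Subgroup G) ∣ 8 := h8 ▸ Subgroup.card_dvd_of_le inf_le_left
  have heq : D.Rh i ⊓ D.CV g = D.Rh i := by
    refine Subgroup.eq_of_le_of_card_ge inf_le_left ?_
    rw [h8]
    have hle := Nat.le_of_dvd (by norm_num) hd
    generalize Nat.card (D.Rh i ⊓ D.CV g : Subgroup G) = k at *
    interval_cases k <;> norm_num at *
  have hall : ∀ x ∈ D.Rh i, x⁻¹ * (g * x * g⁻¹) ∈ D.Zt := fun x hx => (heq.ge hx).2.2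
  have hsub : D.Rh i ≤ D.Zt := by
    intro x hx
    refine D.R_move_mod (hh_wt i) hu hx ?_
    set x' := D.F.ea u * x * (D.F.ea u)⁻¹ with hx'
    set z := x⁻¹ * (g * x * g⁻¹) with hz
    set z' := x'⁻¹ * (g * x' * g⁻¹) with hz'
    have hzm : z ∈ D.Zt := hall x hx
    have hz'm : z' ∈ D.Zt := hall x' (D.R_norm u (hh_wt i) hx)
    have e1 : g * x' * g⁻¹ = D.F.ea (f u) * (x * z) * (D.F.ea (f u))⁻¹ := by
      rw [hx', ← hf.act, hz]; group
    have e2 : D.F.ea u * (x * z') * (D.F.ea u)⁻¹ = g * x' * g⁻¹ := by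
      rw [show D.F.ea u * (x * z') * (D.F.ea u)⁻¹ = x' * (D.F.ea u * z' * (D.F.ea u)⁻¹) by rw [hx']; group,
        D.Zt_comm hz'm (Frame.ea_comm_t u).symm, mul_inv_cancel_right, hz', mul_inv_cancel_left]
    have e3 : x * z' = D.F.ea (f u - u) * (x * z) * (D.F.ea (f u - u))⁻¹ := by
      rw [sub_eq_add_neg, add_comm, D.ea_add, D.ea_neg,
        show (D.F.ea u)⁻¹ * D.F.ea (f u) * (x * z) * ((D.F.ea u)⁻¹ * D.F.ea (f u))⁻¹ =
          (D.F.ea u)⁻¹ * (D.F.ea (f u) * (x * z) * (D.F.ea (f u))⁻¹) * D.F.ea u by group, ← e1, ← e2]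
      group
    rw [show D.F.ea (f u - u) * (x * z) * (D.F.ea (f u - u))⁻¹ =
      D.F.ea (f u - u) * x * (D.F.ea (f u - u))⁻¹ * (D.F.ea (f u - u) * z * (D.F.ea (f u - u))⁻¹) by group,
      D.Zt_comm hzm (Frame.ea_comm_t _).symm, mul_inv_cancel_right] at e3
    rw [show x⁻¹ * (D.F.ea (f u - u) * x * (D.F.ea (f u - u))⁻¹) = z' * z⁻¹ by
      rw [eq_mul_inv_iff_mul_eq, mul_assoc, ← e3]; group]
    exact mul_mem hz'm (inv_mem hzm)
  have := Subgroup.card_le_of_le hsub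
  rw [h8, D.card_Zt] at this
  omega

theorem perm_of {g : G} {f : Vec → Vec} (hf : D.Move g f) {p : Fin 4 → Fin 4}
    (hp : ∀ i, X.idx (f (hh i)) = p i) :
    ∃ π : Equiv.Perm (Fin 4), (∀ i, π i = p i) ∧ ∀ i, ∀ x ∈ D.Rh i, g * x * g⁻¹ ∈ D.Rh (π i) := by
  obtain ⟨π, h1, h2⟩ := hf.exists_perm D
  exact ⟨π, fun i => (h1 i).trans (hp i), h2⟩

/-- The fixed points of a sign change. -/
theorem card_CV_sg {ε : Sgn} (hε : ε ≠ 1) : Nat.card (D.CV (D.sg ε)) ≤ 32 := by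
  classical
  refine D.card_CV_le ?_
  obtain ⟨π, hp, hπ⟩ := D.perm_of (D.move_sg ε) (p := X.act ε) fun i => rfl
  have hmem : ∀ f : (D.CV (D.sg ε)).comap D.pr, ∀ i, (f.1 (π i) : G)⁻¹ * (D.sg ε * f.1 i * (D.sg ε)⁻¹) ∈ D.Zt :=
    fun f i => D.comp_rel hπ f.2 i
  by_cases h1 : ε = -1
  · subst h1
    have hC : ∀ (f : (D.CV (D.sg (-1))).comap D.pr) i, (f.1 i : G) ∈ D.Rh i ⊓ D.CV (D.sg (-1)) := fun f i =>
      ⟨(f.1 i).2, D.R_le_Y i (f.1 i).2, by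
        have := hmem f i
        rwa [hp i, X.act_neg_one] at this⟩
    refine (Nat.card_le_card_of_injective (β := ∀ i, (D.Rh i ⊓ D.CV (D.sg (-1)) : Subgroup G))
      (fun f i => ⟨_, hC f i⟩) fun f f' e => Subtype.ext (funext fun i => Subtype.ext
        (congrArg Subtype.val (congrFun e i) :))).trans ?_
    rw [Nat.card_pi, Fin.prod_univ_four]
    have b := fun i => D.card_small (D.move_sg (-1)) (neg_moves i)
    calc _ ≤ 4 * 4 * 4 * 4 := Nat.mul_le_mul (Nat.mul_le_mul (Nat.mul_le_mul (b 0) (b 1)) (b 2)) (b 3)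
      _ = 256 := by norm_num
  · obtain ⟨i, k, hik⟩ := act_cover ε hε h1
    refine (Nat.card_le_card_of_injective (β := D.Rh i × D.Rh k × D.Zt × D.Zt)
      (fun f => (f.1 i, f.1 k, ⟨_, hmem f i⟩, ⟨_, hmem f k⟩)) fun f f' e => ?_).trans ?_
    · simp only [Prod.mk.injEq, Subtype.mk.injEq] at e
      obtain ⟨ei, ek, zi, zk⟩ := e
      refine Subtype.ext (funext fun j => ?_)
      rw [ei] at zi
      rw [ek] at zk
      rcases hik j with rfl | rfl | rfl | rfl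
      · exact ei
      · rw [← hp i]
        exact Subtype.ext (inv_injective (mul_right_cancel zi))
      · exact ek
      · rw [← hp k]
        exact Subtype.ext (inv_injective (mul_right_cancel zk))
    · rw [Nat.card_prod, Nat.card_prod, Nat.card_prod, D.card_R (hh_wt i), D.card_R (hh_wt k), D.card_Zt]

theorem move_neg_s : D.Move (D.sg (-1) * D.s) (mono 1 (-1) ∘ sV) := (D.move_sg (-1)).mul D D.move_s

/-- The fixed points of `σ` times the inversion. -/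
theorem card_CV_neg_s : Nat.card (D.CV (D.sg (-1) * D.s)) ≤ 32 := by
  classical
  refine D.card_CV_le ?_
  set g := D.sg (-1) * D.s with hg
  obtain ⟨π, hp, hπ⟩ := D.perm_of D.move_neg_s (p := ![0, 2, 1, 3]) fun i => perm_sV.2 i
  have hmem : ∀ f : (D.CV g).comap D.pr, ∀ i, (f.1 (π i) : G)⁻¹ * (g * f.1 i * g⁻¹) ∈ D.Zt :=
    fun f i => D.comp_rel hπ f.2 i
  have hC : ∀ (f : (D.CV g).comap D.pr) i, i = 0 ∨ i = 3 → (f.1 i : G) ∈ D.Rh i ⊓ D.CV g := fun f i hi =>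
    ⟨(f.1 i).2, D.R_le_Y i (f.1 i).2, by
      have := hmem f i
      have hpi : π i = i := by rcases hi with rfl | rfl <;> (rw [hp]; rfl)
      rwa [hpi] at this⟩
  refine (Nat.card_le_card_of_injective
    (β := (D.Rh 0 ⊓ D.CV g : Subgroup G) × (D.Rh 3 ⊓ D.CV g : Subgroup G) × D.Rh 1 × D.Zt)
    (fun f => (⟨_, hC f 0 (Or.inl rfl)⟩, ⟨_, hC f 3 (Or.inr rfl)⟩, f.1 1, ⟨_, hmem f 1⟩)) fun f f' e => ?_).trans ?_
  · simp only [Prod.mk.injEq, Subtype.mk.injEq] at e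
    obtain ⟨e0, e3, e1, z⟩ := e
    rw [e1] at z
    have h2 : π 1 = 2 := hp 1
    refine Subtype.ext (funext fun j => ?_)
    fin_cases j
    · exact Subtype.ext e0
    · exact e1
    · have := Subtype.ext (inv_injective (mul_right_cancel z)) (a1 := f.1 (π 1)) (a2 := f'.1 (π 1))
      rwa [h2] at this
    · exact Subtype.ext e3
  · rw [Nat.card_prod, Nat.card_prod, Nat.card_prod, D.card_R (hh_wt 1), D.card_Zt]
    have b := fun i hi => D.card_small D.move_neg_s (negS_moves i hi)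
    calc _ ≤ 4 * (4 * (8 * 2)) := Nat.mul_le_mul (b 0 (Or.inl rfl)) (Nat.mul_le_mul (b 3 (Or.inr rfl)) le_rfl)
      _ = 256 := by norm_num

/-- An element of `C_G(z)` central modulo `Q` centralises the quaternion group at `z`. -/
theorem R_three_fix {g : G} (hg : g ∈ T.C) (hc : ∀ γ, T.ρ ⟨g, hg⟩ * γ = γ * T.ρ ⟨g, hg⟩)
    (hR : ∀ x ∈ D.Rh 3, g * x * g⁻¹ ∈ D.Rh 3) {x : G} (hx : x ∈ D.Rh 3) : g * x = x * g := by
  have h3 : ∀ {y : G}, y ∈ D.Rh 3 → y ∈ D.R vz := fun {y} hy => by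
    have e : D.Rh 3 = D.R vz := by show D.R (hh 3) = _; rw [hh_three.1]
    rwa [e] at hy
  have hxC : x ∈ T.C := T.mem_C.2 (by
    have := D.R_fix (by decide) vz_fixed.2.2.1 (h3 hx)
    rwa [Frame.ea, ePt_vz, D.F.el_z] at this)
  set y := g * x * g⁻¹ * x⁻¹ with hy
  have hyR : y ∈ D.Rh 3 := mul_mem (hR x hx) (inv_mem hx)
  have hyQ : y ∈ T.Q := by
    refine (T.ρker (⟨g, hg⟩ * ⟨x, hxC⟩ * ⟨g, hg⟩⁻¹ * ⟨x, hxC⟩⁻¹)).1 ⟨?_, ?_⟩
    · rw [map_mul, map_mul, map_mul, map_inv, map_inv, hc, mul_inv_cancel_right, mul_inv_cancel]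
    · rw [map_mul, map_mul, map_mul, map_inv, map_inv, mul_comm (T.η ⟨g, hg⟩), mul_inv_cancel_right, mul_inv_cancel]
  have h4 := ((D.mem_R (hh_wt 3)).1 hyR).2.2
  have h1 : y = 1 := by
    rw [pow_succ, T.exp y hyQ, one_mul] at h4
    exact h4
  exact mul_inv_eq_iff_eq_mul.1 (mul_inv_eq_one.1 h1)

theorem s_R_three {x : G} (hx : x ∈ D.Rh 3) : D.s * x = x * D.s :=
  D.R_three_fix D.hs.mem D.hs.central (fun y hy => by
    obtain ⟨π, hp, hπ⟩ := D.perm_of D.move_s (p := ![0, 2, 1, 3]) perm_sV.1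
    have := hπ 3 y hy
    rwa [hp 3] at this) hx

theorem w_R_three {x : G} (hx : x ∈ D.Rh 3) : D.w * x = x * D.w :=
  D.R_three_fix (T.Q_le_C D.wQ) (fun γ => by
    rw [((T.ρker ⟨D.w, T.Q_le_C D.wQ⟩).2 D.wQ).1, one_mul, mul_one]) (fun y hy => by
    have h := D.move_w.map_R D (hh_wt 3) hy
    rwa [hh_three.1, vz_fixed.2.1, ← hh_three.1] at h) hx

theorem s_R_zero {x : G} (hx : x ∈ D.Rh 0) : D.s * x = x * D.s := by
  have h := (D.move_sg ![-1, 1, 1]).map_R D (hh_wt 0) hx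
  rw [vz_fixed.2.2.2] at h
  have hc := D.s_R_three h
  have hsa : Commute D.s (D.sg ![-1, 1, 1]) := mul_inv_eq_iff_eq_mul.1 (by
    rw [D.s_sg]; congr 1)
  refine (Commute.conj_iff (D.sg ![-1, 1, 1])).1 ?_
  rwa [hsa.symm.eq, mul_inv_cancel_right]

/-- The fixed points of `σ`. -/
theorem card_CV_s : 64 ≤ Nat.card (D.CV D.s) := by
  classical
  obtain ⟨π, hp, hπ⟩ := D.perm_of D.move_s (p := ![0, 2, 1, 3]) perm_sV.1
  have hm : ∀ x : D.Rh 1, D.s * (x : G) * D.s⁻¹ ∈ D.Rh 2 := fun x => by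
    have := hπ 1 _ x.2
    rwa [hp 1] at this
  let mk : D.Rh 0 × D.Rh 1 × D.Rh 3 → ∀ i, D.Rh i := fun p i =>
    match i with
    | 0 => p.1
    | 1 => p.2.1
    | 2 => ⟨_, hm p.2.1⟩
    | 3 => p.2.2
  have hmk : ∀ p, D.pr (mk p) ∈ D.CV D.s := fun p => by
    refine ⟨D.pr_mem _, ?_⟩
    obtain ⟨f', e1, e2⟩ := D.conj_pr hπ (mk p)
    have he : f' = mk p := funext fun j => Subtype.ext (by
      obtain ⟨i, rfl⟩ := π.surjective j
      rw [e2 i, hp i]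
      fin_cases i
      · show D.s * (p.1 : G) * D.s⁻¹ = p.1
        rw [D.s_R_zero p.1.2, mul_inv_cancel_right]
      · rfl
      · show D.s * (D.s * (p.2.1 : G) * D.s⁻¹) * D.s⁻¹ = p.2.1
        rw [show D.s * (D.s * (p.2.1 : G) * D.s⁻¹) * D.s⁻¹ = D.s * D.s * p.2.1 * (D.s * D.s)⁻¹ by group, D.hs.sq]
        simp
      · show D.s * (p.2.2 : G) * D.s⁻¹ = p.2.2
        rw [D.s_R_three p.2.2.2, mul_inv_cancel_right])
    rw [← e1, he, inv_mul_cancel]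
    exact one_mem _
  have h := Nat.card_le_card_of_injective (β := (D.CV D.s).comap D.pr) (fun p => ⟨mk p, hmk p⟩) (fun p q e => by
    have h := congrArg Subtype.val e
    exact Prod.ext (congrFun h 0) (Prod.ext (congrFun h 1) (congrFun h 3)))
  rw [Nat.card_prod, Nat.card_prod, D.card_R (hh_wt 0), D.card_R (hh_wt 1), D.card_R (hh_wt 3),
    D.card_preimage (D.CV_le _)] at h
  omega

end Dbl

end Loc

end Cfsg.Agent.Spor.OmegaEightThree
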