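import Cfsg.Agent.Lib.Spor.SymNine.Setup
import Mathlib.GroupTheory.Perm.Centralizer

/-!
In `Sym(9)` the two kinds of elements of order three of the local configuration are conjugate: both are
products of three disjoint three-cycles.
-/

set_option autoImplicit false
set_option linter.unusedSectionVars false
set_option maxRecDepth 100000

namespace Cfsg.Agent.Spor.OmegaEightThree

open Cfsg.Agent.Spor.SymNine (Wr sm cc inJ toPerm sigma Jm modelEquiv Conf)
open Cfsg.Agent.Spor.AltNine (P9)
open scoped Nat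

theorem sm_facts : sm * sm * sm = 1 ∧ ¬ inJ sm := by decide +kernel

theorem toPerm_move : ∀ m : Wr, m * m * m = 1 → ¬ inJ m → ∀ i : Fin 9, toPerm m i ≠ i := by
  simp only [SymNine.toPerm_apply]
  decide +kernel

theorem vthree_self : ∀ u : Lie.PSpFourThreeAmalgam.V3, u + u + u = 0 := by decide +kernel

theorem sigma_move : (∀ i : Fin 9, sigma i ≠ i) ∧ sigma ^ 3 = 1 := by decide +kernel

/-- The fixed-point-free elements of order three. -/
theorem nine_type_of_move {p : P9} (h3 : p ^ 3 = 1) (hp : ∀ i, p i ≠ i) :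
    p.cycleType = Multiset.replicate 3 3 := by
  haveI : Fact (Nat.Prime 3) := ⟨Nat.prime_three⟩
  have h := Equiv.Perm.cycleType_of_pow_prime_eq_one h3
  have hs : p.support = Finset.univ := Finset.eq_univ_iff_forall.2 fun i => Equiv.Perm.mem_support.2 (hp i)
  have hsum := p.sum_cycleType
  rw [hs, Finset.card_univ, Fintype.card_fin, h, Multiset.sum_replicate, smul_eq_mul] at hsum
  have hk : p.cycleType.card = 3 := by omega
  rw [h, hk]

/-- The elements of order three with centraliser of order `162`. -/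
theorem nine_type_of_cent {p : P9} (h3 : p ^ 3 = 1) (h1 : p ≠ 1)
    (hc : Nat.card (Subgroup.centralizer ({p} : Set P9)) = 162) : p.cycleType = Multiset.replicate 3 3 := by
  haveI : Fact (Nat.Prime 3) := ⟨Nat.prime_three⟩
  have h := Equiv.Perm.cycleType_of_pow_prime_eq_one h3
  have hsum := p.sum_cycleType_le
  rw [h, Multiset.sum_replicate, smul_eq_mul, Fintype.card_fin] at hsum
  rw [Equiv.Perm.nat_card_centralizer, Fintype.card_fin, h] at hc
  rw [h]
  have hk : p.cycleType.card ≤ 3 := by omega
  have hk0 : p.cycleType.card ≠ 0 := fun e => h1 (Equiv.Perm.cycleType_eq_zero.1 (Multiset.card_eq_zero.1 e))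
  generalize p.cycleType.card = k at hc hk hk0 ⊢
  interval_cases k
  all_goals first | rfl | exact absurd rfl hk0 | (simp [Nat.factorial] at hc)

/-- In `Sym(9)` the shift is conjugate to the centre. -/
theorem symNine_conj {L : Type*} [Group L] [Finite L] (T : Conf L) (e : L ≃* P9) :
    ∃ g : L, g * T.φ sm * g⁻¹ = T.φ cc := by
  classical
  haveI : Fact (Nat.Prime 3) := ⟨Nat.prime_three⟩
  set y := e (T.φ cc) with hy
  have hcc3 : cc * cc * cc = 1 := by decide +kernel
  have hy3 : y ^ 3 = 1 := by
    rw [hy, ← map_pow, ← map_pow, pow_succ, pow_two, hcc3, map_one, map_one]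
  have hcent : (Subgroup.centralizer ({T.φ cc} : Set L)).map e.toMonoidHom = Subgroup.centralizer ({y} : Set P9) := by
    ext x
    obtain ⟨a, rfl⟩ := e.surjective x
    constructor
    · rintro ⟨b, hb, hba⟩
      obtain rfl := e.injective hba
      refine Subgroup.mem_centralizer_singleton_iff.2 ?_
      rw [hy, ← map_mul, ← map_mul, Subgroup.mem_centralizer_singleton_iff.1 hb]
    · intro ha
      refine ⟨a, Subgroup.mem_centralizer_singleton_iff.2 (e.injective ?_), rfl⟩
      rw [map_mul, map_mul]
      exact Subgroup.mem_centralizer_singleton_iff.1 ha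
  have hcard : Nat.card (Subgroup.centralizer ({y} : Set P9)) = 162 := by
    rw [← hcent, Subgroup.card_map_of_injective (show Function.Injective e.toMonoidHom from e.injective),
      ← T.range_eq, ← Nat.card_congr (MonoidHom.ofInjective T.inj).toEquiv, SymNine.card_Wr]
  have hy1 : y ≠ 1 := fun h =>
    SymNine.cc_ne (T.inj (e.injective (h.trans (by rw [map_one, map_one]))))
  have hytype := nine_type_of_cent hy3 hy1 hcard
  obtain ⟨π, hπ⟩ := isConj_iff.1 (Equiv.Perm.isConj_iff_cycleType_eq.2
    (hytype.trans (nine_type_of_move sigma_move.2 sigma_move.1).symm))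
  set α : Wr →* P9 := (MulAut.conj π).toMonoidHom.comp (e.toMonoidHom.comp T.φ) with hα
  have hαi : Function.Injective α := (MulAut.conj π).injective.comp (e.injective.comp T.inj)
  have hαc : ∀ m, α m ∈ Subgroup.centralizer ({sigma} : Set P9) := fun m => by
    rw [Subgroup.mem_centralizer_singleton_iff]
    have hs : sigma = α cc := hπ.symm
    rw [hs, ← map_mul, ← map_mul, SymNine.cc_comm]
  set β : Wr →* Wr := modelEquiv.symm.toMonoidHom.comp (α.codRestrict _ hαc) with hβ
  have hβi : Function.Injective β := modelEquiv.symm.injective.comp fun a b h =>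
    hαi (congrArg Subtype.val h)
  have hJ : Jm.map β = Jm := by
    refine SymNine.eq_Jm _ (by rw [Subgroup.card_map_of_injective hβi, SymNine.card_Jm]) ?_ ?_
    · rintro _ ⟨a, ha, rfl⟩ _ ⟨b, hb, rfl⟩
      obtain ⟨v, rfl⟩ := (SymNine.inJ_iff a).1 (SymNine.mem_Jm.1 ha)
      obtain ⟨w, rfl⟩ := (SymNine.inJ_iff b).1 (SymNine.mem_Jm.1 hb)
      rw [← map_mul, ← map_mul, ← SymNine.jc_add, ← SymNine.jc_add, add_comm]
    · rintro _ ⟨a, ha, rfl⟩
      obtain ⟨v, rfl⟩ := (SymNine.inJ_iff a).1 (SymNine.mem_Jm.1 ha)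
      rw [← map_mul, ← map_mul, ← SymNine.jc_add, ← SymNine.jc_add,
        vthree_self v, SymNine.jc_zero, map_one]
  have hm1 : β sm * β sm * β sm = 1 := by rw [← map_mul, ← map_mul, sm_facts.1, map_one]
  have hmJ : ¬ inJ (β sm) := fun h => sm_facts.2 (SymNine.mem_Jm.1 (by
    have h' : β sm ∈ Jm.map β := hJ.symm ▸ SymNine.mem_Jm.2 h
    obtain ⟨a, ha, hab⟩ := h'
    exact hβi hab ▸ ha))
  have hmp : toPerm (β sm) = α sm := by
    show ((modelEquiv (modelEquiv.symm (α.codRestrict _ hαc sm))) : P9) = _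
    rw [MulEquiv.apply_symm_apply]
    rfl
  have hxtype : (α sm).cycleType = Multiset.replicate 3 3 := by
    refine nine_type_of_move ?_ (hmp ▸ toPerm_move _ hm1 hmJ)
    rw [← map_pow, pow_succ, pow_two, sm_facts.1, map_one]
  have hct : (e (T.φ sm)).cycleType = Multiset.replicate 3 3 := by
    rw [← hxtype]
    exact (Equiv.Perm.cycleType_conj).symm
  obtain ⟨ρ, hρ⟩ := isConj_iff.1 (Equiv.Perm.isConj_iff_cycleType_eq.2 (hct.trans hytype.symm))
  refine ⟨e.symm ρ, e.injective ?_⟩
  rw [map_mul, map_mul, map_inv, MulEquiv.apply_symm_apply, hρ]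

end Cfsg.Agent.Spor.OmegaEightThree
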