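import Cfsg.Agent.Lib.Spor.OmegaEightThree.Double.NotE

/-!
The elements of order three in the centraliser of `σ` are conjugate there into `E`: the group
`C_E(σ)⟨y⟩` of order `81` is a Sylow `3`-subgroup.
-/

set_option autoImplicit false
set_option linter.unusedSectionVars false
set_option maxHeartbeats 1000000

namespace Cfsg.Agent.Spor.OmegaEightThree

open Cfsg.Agent.Spor.PSLFourThree (com)

local notation "SL2" => Matrix.SpecialLinearGroup (Fin 2) (ZMod 3)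

theorem sl_four_card : Fintype.card {γ : SL2 // γ ^ 4 = 1} = 8 := by decide +kernel

theorem sl_four_inj : ∀ a b : SL2, a ^ 4 = 1 → b ^ 4 = 1 → (b⁻¹ * a) ^ 3 = 1 → a = b := by decide +kernel

namespace Loc

theorem sR_fix : ∀ v : Four, sR v = v ↔ v 2 = 0 := by decide +kernel

theorem sR_mU : ∀ v : Four, sR (Frame.mU (sR v)) = Frame.mU v := by decide +kernel

theorem mU_four : ∀ v : Four, Frame.mU (Frame.mU (Frame.mU (Frame.mU v))) = Frame.mU v := by decide +kernel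

theorem mU_norm : ∀ v : Four, v + Frame.mU v + Frame.mU (Frame.mU v) = 0 → v 3 = 0 := by decide +kernel

theorem mU_two_n : Frame.mU (Frame.mU (![0, 1, 0, 0] : Four)) ≠ ![0, 1, 0, 0] := by decide

theorem mU_fixed : ∀ v : Four, v 2 = 0 → Frame.mU v = v → v = v 0 • ![1, 0, 0, 0] := by decide +kernel

variable {G : Type*} [Group G] [Finite G] {T : Loc G}

/-- `SL₂(3)` is transitive on the nonzero inverted vectors. -/
theorem minus_trans {v w : T.V} (hv : v ∈ T.minus) (hv1 : v ≠ 1) (hw : w ∈ T.minus) (hw1 : w ≠ 1) :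
    ∃ γ : SL2, T.act γ v = w := by
  classical
  let f : {γ : SL2 // γ ^ 4 = 1} → {u : T.minus // u ≠ 1} := fun γ =>
    ⟨⟨T.act γ.1 v, T.act_minus _ hv⟩, fun h => hv1 ((map_eq_one_iff _ (T.act γ.1).injective).1 (congrArg Subtype.val h))⟩
  have hf : Function.Injective f := fun a b h => Subtype.ext (sl_four_inj _ _ a.2 b.2 (T.stab_minus hv hv1 (by
    have h' : T.act a.1 v = T.act b.1 v := congrArg (fun u => ((u.1 : T.minus) : T.V)) h
    rw [T.act_mul, h', ← T.act_mul, inv_mul_cancel, T.act_one])))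
  have hc : Nat.card {u : T.minus // u ≠ 1} = 8 := by
    haveI := Fintype.ofFinite T.minus
    rw [Nat.card_eq_fintype_card, Fintype.card_subtype_compl, Fintype.card_subtype_eq, ← Nat.card_eq_fintype_card,
      T.card_minus]
  have hs := (hf.bijective_of_nat_card_le (by rw [hc, Nat.card_eq_fintype_card, sl_four_card])).2
  obtain ⟨γ, hγ⟩ := hs ⟨⟨w, hw⟩, fun h => hw1 (congrArg Subtype.val h)⟩
  exact ⟨γ.1, congrArg (fun u => ((u.1 : T.minus) : T.V)) hγ⟩

/-- A `3`-element normalising `Z` centralises it. -/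
theorem mem_C_of_three {x : G} (hx : ∃ m : ℕ, x ^ (3 ^ m) = 1) (hz : x * T.z * x⁻¹ ∈ T.toPre.Z) : x ∈ T.C := by
  obtain ⟨m, hm⟩ := hx
  rcases T.z_pow_cases hz with e | e | e
  · exact absurd (conj_eq_one_iff.1 e) T.z_ne
  · exact T.mem_C.2 (mul_inv_eq_iff_eq_mul.1 e)
  · have h2 : x ^ 2 ∈ T.C := T.mem_C.2 (mul_inv_eq_iff_eq_mul.1 (by
      rw [pow_two, show x * x * T.z * (x * x)⁻¹ = x * (x * T.z * x⁻¹) * x⁻¹ by group, e, ← conj_inv, e, inv_inv]))
    obtain ⟨k, hk⟩ : Odd (3 ^ m) := Odd.pow (by decide)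
    have : x = (x ^ 2) ^ (k + 1) := by
      rw [← pow_mul, show 2 * (k + 1) = 3 ^ m + 1 by omega, pow_succ, hm, one_mul]
    rw [this]
    exact pow_mem h2 _

namespace Frame

variable {F : Frame T} {s : G} (hs : F.IsSig s)
include hs

theorem IsSig.inv_eq : s⁻¹ = s := inv_eq_of_mul_eq_one_right hs.sq

theorem IsSig.el_comm_iff (v : Four) : F.el v * s = s * F.el v ↔ v 2 = 0 := by
  rw [← sR_fix, ← F.el_inj.eq_iff, ← hs.act, mul_inv_eq_iff_eq_mul, eq_comm]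

/-- A translation commuting with `σ`. -/
theorem IsSig.exists_y (hF : F.Classified) : ∃ y ∈ T.Q, y * s = s * y ∧ F.Act y mU := by
  obtain ⟨q, hq, hU⟩ := hF.exists_U
  set q' := s * q * s⁻¹ with hq'
  have hq'Q : q' ∈ T.Q := T.conj_Q hs.mem hq
  have hA : F.Act q' mU := ((hs.act.mul hU).mul (hs.act.inv fun v => by
    funext i; fin_cases i <;> simp [sR])).congr sR_mU
  set c := com q' q with hc
  have hcZ : c ∈ T.toPre.Z := T.com_mem' hq'Q hq
  have hq2 : s * q' * s⁻¹ = q := by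
    rw [hq', show s * (s * q * s⁻¹) * s⁻¹ = s * s * q * (s * s)⁻¹ by group, hs.sq]
    group
  have hc1 : c = 1 := by
    have h := T.conj_Z hs.mem hcZ
    rw [hc, Pre.com_conj, hq2, ← hq', Pre.com_inv (a := q') (b := q), ← hc] at h
    have h3 := T.cube_iff (T.Z_le hcZ)
    have h2 : c * c = 1 := by nth_rw 1 [← h]; exact inv_mul_cancel c
    rwa [h2, one_mul] at h3
  have hcomm : Commute q' q := Pre.com_eq_one_iff.1 hc1
  refine ⟨(q * q') ^ 2, pow_mem (mul_mem hq hq'Q) 2, ?_, ?_⟩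
  · have h : s * (q * q') * s⁻¹ = q * q' := by
      rw [show s * (q * q') * s⁻¹ = s * q * s⁻¹ * (s * q' * s⁻¹) by group, hq2, ← hq', hcomm.eq]
    exact ((show Commute s (q * q') from mul_inv_eq_iff_eq_mul.1 h).pow_right 2).symm.eq
  · rw [pow_two]
    exact ((hU.mul hA).mul (hU.mul hA)).congr fun v => mU_four v

/-- The part in `Q` of the centraliser of `σ` lies over the inverted plane. -/
theorem IsSig.bar_minus (hF : F.Classified) {x : G} (hx : x ∈ T.Q) (hxs : x * s = s * x) :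
    T.bar ⟨x, hx⟩ ∈ T.minus := by
  obtain ⟨a1, a0, ha1, ha0, hxa, ha0c, ha1m⟩ := F.ht.decomp hx
  have hm : T.bar ⟨a1, ha1⟩ ∈ T.minus := (F.ht.minus_iff ha1).2 ha1m
  have hp : T.bar ⟨a0, ha0⟩ ∈ T.plus := (F.ht.plus_iff ha0).2 ha0c
  have hb : T.bar ⟨x, hx⟩ = T.bar ⟨a1, ha1⟩ * T.bar ⟨a0, ha0⟩ := by
    rw [← Pre.bar_mul]; exact congrArg T.bar (Subtype.ext hxa)
  have hfix : T.μ ⟨s, hs.mem⟩ (T.bar ⟨x, hx⟩) = T.bar ⟨x, hx⟩ := by
    rw [Pre.μ_bar]
    exact congrArg T.bar (Subtype.ext (show s * x * s⁻¹ = x by rw [← hxs, mul_inv_cancel_right]))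
  have hcen := hs.central
  have hm' : T.μ ⟨s, hs.mem⟩ (T.bar ⟨a1, ha1⟩) ∈ T.minus := by
    rw [T.mem_minus, ← Pre.μ_act hcen, T.mem_minus.1 hm, map_inv]
  have hp' : T.μ ⟨s, hs.mem⟩ (T.bar ⟨a0, ha0⟩) ∈ T.plus := by
    rw [T.mem_plus, ← Pre.μ_act hcen, T.mem_plus.1 hp]
  rw [hb, map_mul] at hfix
  have e0 : T.μ ⟨s, hs.mem⟩ (T.bar ⟨a0, ha0⟩) = T.bar ⟨a0, ha0⟩ := by
    refine mul_inv_eq_one.1 (T.plus_minus (mul_mem hp' (inv_mem hp)) ?_)
    rw [show T.μ ⟨s, hs.mem⟩ (T.bar ⟨a0, ha0⟩) * (T.bar ⟨a0, ha0⟩)⁻¹ =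
      (T.μ ⟨s, hs.mem⟩ (T.bar ⟨a1, ha1⟩))⁻¹ * T.bar ⟨a1, ha1⟩ by
        rw [eq_inv_mul_iff_mul_eq, ← mul_assoc, hfix, mul_inv_cancel_right]]
    exact mul_mem (inv_mem hm') hm
  suffices h : T.bar ⟨a0, ha0⟩ = 1 by rw [hb, h, mul_one]; exact hm
  rw [Pre.μ_bar] at e0
  have hk : a0⁻¹ * (s * a0 * s⁻¹) ∈ T.toPre.Z := T.bar_eq.1 e0.symm
  have h1 : com a0 F.r = 1 := by
    set k := a0⁻¹ * (s * a0 * s⁻¹)
    have hr : s * F.r * s⁻¹ = F.r⁻¹ := by
      rw [← F.el_r, hs.act, ← F.el_neg]; congr 1; funext i; fin_cases i <;> simp [sR]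
    have h := T.conj_Z hs.mem (T.com_mem' ha0 F.r_mem)
    rw [Pre.com_conj, hr, show s * a0 * s⁻¹ = a0 * k by simp [k],
      T.com_mul_left ha0 (T.Z_le hk) (inv_mem F.r_mem), Pre.com_inv (a := F.r⁻¹) (b := k),
      T.com_Z_right (inv_mem F.r_mem) hk, inv_one, mul_one] at h
    have h2 : com a0 F.r⁻¹ * com a0 F.r = 1 := by
      rw [← T.com_mul_right ha0 (inv_mem F.r_mem) F.r_mem, inv_mul_cancel]
      simp [com]
    rw [h] at h2
    have h3 := T.cube_iff (T.Z_le (T.com_mem' ha0 F.r_mem))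
    rwa [h2, one_mul] at h3
  obtain ⟨i, hi⟩ := Subgroup.mem_zpowers_iff.1 (line_of_comm T.card_plus (plus_noncomm F.ht) (a := ⟨a0, ha0⟩)
    (n := ⟨F.r, F.r_mem⟩) hp ((F.ht.plus_iff F.r_mem).2 F.comps.cent) (fun e => F.r_notZ (T.bar_eq_one.1 e)) h1)
  have hinv : T.μ ⟨s, hs.mem⟩ (T.bar ⟨F.r, F.r_mem⟩) = (T.bar ⟨F.r, F.r_mem⟩)⁻¹ := by
    rw [Pre.μ_bar, ← Pre.bar_inv]
    refine congrArg T.bar (Subtype.ext ?_)
    show s * F.r * s⁻¹ = F.r⁻¹
    rw [← F.el_r, hs.act, ← F.el_neg]; congr 1; funext i; fin_cases i <;> simp [sR]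
  rw [← hi]
  refine T.inv_eq_self ?_
  have h2 : T.μ ⟨s, hs.mem⟩ (T.bar ⟨a0, ha0⟩) = T.bar ⟨a0, ha0⟩ := by rw [Pre.μ_bar]; exact e0
  rw [← hi, map_zpow, hinv, inv_zpow] at h2
  exact h2

/-- Lifts commuting with `σ`. -/
theorem IsSig.exists_lift (γ : SL2) : ∃ c : T.C, T.ρ c = γ ∧ T.η c = 1 ∧ (c : G) * s = s * c := by
  obtain ⟨c, hc, hη⟩ := T.ρsurj γ
  set s' := (c : G) * s * (c : G)⁻¹ with hs'
  have haQ : s * s' ∈ T.Q := (T.ρker (⟨s, hs.mem⟩ * (c * ⟨s, hs.mem⟩ * c⁻¹))).1 ⟨by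
      rw [map_mul, map_mul, map_mul, map_inv, hc, ← hs.central, mul_inv_cancel_right, ← map_mul,
        show (⟨s, hs.mem⟩ : T.C) * ⟨s, hs.mem⟩ = 1 from Subtype.ext hs.sq, map_one],
    by rw [map_mul, map_mul, map_mul, map_inv, hη]; simp [mult_two_cases]⟩
  set a := s * s' with ha
  have hs'2 : s' * s' = 1 := by rw [hs', conj_mul, hs.sq, mul_one, mul_inv_cancel]
  have hinv : s * a * s⁻¹ = a⁻¹ := by
    refine eq_inv_of_mul_eq_one_left ?_
    rw [ha, hs.inv_eq, show s * (s * s') * s * (s * s') = s * s * s' * (s * s) * s' by group, hs.sq, one_mul,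
      mul_one, hs'2]
  have h3 := T.cube_iff haQ
  have hconj : a * s * a⁻¹ = s' := by
    calc a * s * a⁻¹ = s * (s⁻¹ * a * s) * a⁻¹ := by group
      _ = s * (a⁻¹ * a⁻¹) := by
        have e : s⁻¹ * a * s = a⁻¹ := by
          rw [← hinv, hs.inv_eq]
        rw [e, mul_assoc]
      _ = s * a := by
        rw [← mul_inv_rev, show (a * a)⁻¹ = a from inv_eq_of_mul_eq_one_right h3]
      _ = s' := by rw [ha, ← mul_assoc, hs.sq, one_mul]
  refine ⟨(⟨a, T.Q_le_C haQ⟩ : T.C)⁻¹ * c, ?_, ?_, ?_⟩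
  · rw [map_mul, map_inv, ((T.ρker ⟨a, T.Q_le_C haQ⟩).2 haQ).1, inv_one, one_mul, hc]
  · rw [map_mul, map_inv, ((T.ρker ⟨a, T.Q_le_C haQ⟩).2 haQ).2, inv_one, one_mul, hη]
  · push_cast
    calc a⁻¹ * (c : G) * s = a⁻¹ * s' * c := by rw [hs']; group
      _ = a⁻¹ * (a * s * a⁻¹) * c := by rw [hconj]
      _ = s * (a⁻¹ * c) := by group

/-- `3`-subgroups of `C ∩ C(σ)`. -/
theorem IsSig.card_cent (hF : F.Classified) {P : Subgroup G} (hP : IsPGroup 3 P) (hPC : P ≤ T.C)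
    (hPs : P ≤ Subgroup.centralizer {s}) : Nat.card P ≤ 81 := by
  classical
  haveI : Fact (Nat.Prime 3) := ⟨Nat.prime_three⟩
  let f : P →* SL2 := T.ρ.comp (Subgroup.inclusion hPC)
  have hr : Nat.card f.range ≤ 3 := by
    obtain ⟨m, hm⟩ := IsPGroup.iff_card.1 (show IsPGroup 3 f.range by
      rw [MonoidHom.range_eq_map]; exact IsPGroup.map (fun x => by
        obtain ⟨k, hk⟩ := hP ⟨x, x.1.2⟩
        exact ⟨k, Subtype.ext hk⟩) f)
    have hd := Subgroup.card_subgroup_dvd_card f.range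
    rw [Nat.card_eq_fintype_card (α := SL2), show Fintype.card SL2 = 24 by decide +kernel, hm] at hd
    have hm1 : m ≤ 1 := by
      by_contra h
      exact absurd ((pow_dvd_pow 3 (not_le.1 h)).trans hd) (by norm_num)
    rw [hm]
    exact Nat.pow_le_pow_right (by norm_num) hm1
  have hQk : ∀ x : f.ker, ((x.1 : P) : G) ∈ T.Q := fun x => by
    obtain ⟨k, hk⟩ := hP x.1
    exact (T.ρker (Subgroup.inclusion hPC x.1)).1 ⟨x.2, T.η_cube (n := k) (by rw [← map_pow, hk, map_one])⟩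
  let g : f.ker →* T.V := MonoidHom.mk' (fun x => T.bar ⟨((x.1 : P) : G), hQk x⟩) fun x y => rfl
  have hg : Nat.card g.range ≤ 9 := by
    rw [← T.card_minus]
    refine Subgroup.card_le_of_le ?_
    rintro _ ⟨x, rfl⟩
    exact hs.bar_minus hF (hQk x) (Subgroup.mem_centralizer_singleton_iff.1 (hPs x.1.2))
  have hgk : Nat.card g.ker ≤ 3 := by
    refine le_trans ?_ T.toPre.card_Z.le
    refine Nat.card_le_card_of_injective (fun x => ⟨((x.1.1 : P) : G), T.bar_eq_one.1 x.2⟩) fun x y e =>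
      Subtype.ext (Subtype.ext (Subtype.ext (congrArg Subtype.val e :)))
  have h1 := f.ker.card_eq_card_quotient_mul_card_subgroup
  rw [Nat.card_congr (QuotientGroup.quotientKerEquivRange f).toEquiv] at h1
  have h2 := g.ker.card_eq_card_quotient_mul_card_subgroup
  rw [Nat.card_congr (QuotientGroup.quotientKerEquivRange g).toEquiv] at h2
  rw [h1]
  calc _ ≤ 3 * (9 * 3) := Nat.mul_le_mul hr (h2 ▸ Nat.mul_le_mul hg hgk)
    _ = 81 := by norm_num

/-- Every element of order three commuting with `σ` is conjugate in `C_G(σ)` into `E`. -/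
theorem IsSig.three_conj (hF : F.Classified) {d : G} (hd : d ^ 3 = 1) (hds : d * s = s * d) :
    ∃ c : G, c * s = s * c ∧ ∃ v : Four, v 2 = 0 ∧ c * d * c⁻¹ = F.el v := by
  classical
  haveI : Fact (Nat.Prime 3) := ⟨Nat.prime_three⟩
  obtain ⟨y, hy, hys, hA⟩ := hs.exists_y hF
  set Cs := Subgroup.centralizer ({s} : Set G) with hCs
  set E₀ := F.E ⊓ Cs with hE₀
  have hmem₀ : ∀ x, x ∈ E₀ ↔ ∃ v : Four, v 2 = 0 ∧ F.el v = x := by
    intro x
    rw [hE₀, Subgroup.mem_inf, F.mem_E_iff]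
    constructor
    · rintro ⟨⟨v, rfl⟩, h⟩
      exact ⟨v, (hs.el_comm_iff v).1 (Subgroup.mem_centralizer_singleton_iff.1 h), rfl⟩
    · rintro ⟨v, hv, rfl⟩
      exact ⟨⟨v, rfl⟩, Subgroup.mem_centralizer_singleton_iff.2 ((hs.el_comm_iff v).2 hv)⟩
  have hcard₀ : Nat.card E₀ = 27 := by
    let ι : (Fin 3 → ZMod 3) → E₀ := fun u => ⟨F.el ![u 0, u 1, 0, u 2], (hmem₀ _).2 ⟨_, rfl, rfl⟩⟩
    have hι : Function.Bijective ι := by
      refine ⟨fun u w e => ?_, fun ⟨x, hx⟩ => ?_⟩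
      · have h := F.el_inj (congrArg Subtype.val e :)
        funext i
        fin_cases i
        · exact congrFun h 0
        · exact congrFun h 1
        · exact congrFun h 3
      · obtain ⟨v, hv, rfl⟩ := (hmem₀ x).1 hx
        refine ⟨![v 0, v 1, v 3], Subtype.ext (congrArg F.el ?_)⟩
        funext i
        fin_cases i <;> simp [hv]
    rw [← Nat.card_congr (Equiv.ofBijective ι hι)]
    simp
  have hynorm : Subgroup.zpowers y ≤ Subgroup.normalizer (E₀ : Set G) := by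
    refine Subgroup.zpowers_le.2 (Subgroup.mem_normalizer_fintype fun x hx => ?_)
    obtain ⟨v, hv, rfl⟩ := (hmem₀ x).1 hx
    rw [hA]
    exact (hmem₀ _).2 ⟨_, (gen_keep v).1.trans hv, rfl⟩
  set D := E₀ ⊔ Subgroup.zpowers y with hD
  have hcoe := Subgroup.coe_mul_of_right_le_normalizer_left E₀ (Subgroup.zpowers y) hynorm
  have hyC : y ∈ T.C := T.Q_le_C hy
  have hy3 : y ^ 3 = 1 := T.exp y hy
  have hy' : y⁻¹ = y * y := T.inv_eq_sq hy
  have hdec : ∀ x ∈ D, ∃ v : Four, v 2 = 0 ∧ (x = F.el v ∨ x = F.el v * y ∨ x = F.el v * (y * y)) := by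
    intro x hx
    rw [hD, ← SetLike.mem_coe, hcoe] at hx
    obtain ⟨e, he, w, hw, rfl⟩ := hx
    obtain ⟨v, hv, rfl⟩ := (hmem₀ e).1 he
    refine ⟨v, hv, ?_⟩
    rcases pow_cases hy3 hw with rfl | rfl | rfl
    · exact Or.inl (mul_one _)
    · exact Or.inr (Or.inl rfl)
    · exact Or.inr (Or.inr (by rw [hy']))
  have hyE : y ∉ E₀ := fun h => by
    obtain ⟨v, -, rfl⟩ := (hmem₀ _).1 h
    exact translate_moves.2.1 (hA.apply_eq (by rw [F.el_comm, mul_inv_cancel_right]))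
  have hyord : Nat.card (Subgroup.zpowers y) = 3 := by
    rw [Nat.card_zpowers]
    exact orderOf_eq_prime hy3 fun h => hyE (h ▸ one_mem _)
  have hDcard : Nat.card D = 81 := by
    have h1 := Cfsg.Agent.Solv.card_mul_set_mul_card_inf E₀ (Subgroup.zpowers y)
    have hinf : Nat.card (E₀ ⊓ Subgroup.zpowers y : Subgroup G) = 1 := by
      rcases (Nat.dvd_prime Nat.prime_three).1 (hyord ▸ Subgroup.card_dvd_of_le
        (inf_le_right : E₀ ⊓ Subgroup.zpowers y ≤ Subgroup.zpowers y)) with h | h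
      · exact h
      · exact absurd ((Subgroup.eq_of_le_of_card_ge inf_le_right (by rw [h, hyord])).ge (Subgroup.mem_zpowers y)).1 hyE
    rw [← hcoe, SetLike.coe_sort_coe, hcard₀, hyord, hinf, mul_one] at h1
    exact h1
  have hDp : IsPGroup 3 D := IsPGroup.of_card (n := 4) (by rw [hDcard]; norm_num)
  have hDs : D ≤ Cs := sup_le inf_le_right (Subgroup.zpowers_le.2 (Subgroup.mem_centralizer_singleton_iff.2 hys))
  have hDC : D ≤ T.C := sup_le (fun x hx => by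
    obtain ⟨v, -, rfl⟩ := (hmem₀ x).1 hx
    exact F.el_C v) (Subgroup.zpowers_le.2 hyC)
  have he : ∀ v : Four, v 2 = 0 → F.el v ∈ D := fun v hv => Subgroup.mem_sup_left ((hmem₀ _).2 ⟨v, hv, rfl⟩)
  have hcenter : ∀ x ∈ D, (∀ a ∈ D, x * a = a * x) → x ∈ T.toPre.Z := by
    intro x hx hxc
    obtain ⟨v, hv, h⟩ := hdec x hx
    have hn := hxc _ (he ![0, 1, 0, 0] rfl)
    rcases h with rfl | rfl | rfl
    · have hyy := hxc y (Subgroup.mem_sup_right (Subgroup.mem_zpowers y))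
      have := hA.apply_eq (v := v) (w := v) (by rw [← hyy, mul_inv_cancel_right])
      rw [mU_fixed v hv this, F.el_smul, F.el_z]
      exact pow_mem T.z_mem _
    · exfalso
      have hA' : F.Act (F.el v * y) mU := fun w => by
        rw [show F.el v * y * F.el w * (F.el v * y)⁻¹ = F.el v * (y * F.el w * y⁻¹) * (F.el v)⁻¹ by group, hA,
          F.el_comm, mul_inv_cancel_right]
      exact translate_moves.2.1 (hA'.apply_eq (by rw [hn, mul_inv_cancel_right]))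
    · exfalso
      have hA' : F.Act (F.el v * (y * y)) (mU ∘ mU) := fun w => by
        rw [show F.el v * (y * y) * F.el w * (F.el v * (y * y))⁻¹ =
          F.el v * (y * y * F.el w * (y * y)⁻¹) * (F.el v)⁻¹ by group, (hA.mul hA),
          F.el_comm, mul_inv_cancel_right]
      exact mU_two_n (hA'.apply_eq (by rw [hn, mul_inv_cancel_right]))
  -- a Sylow subgroup
  obtain ⟨S₁, hS₁⟩ := IsPGroup.exists_le_sylow (P := D.subgroupOf Cs) (hDp.comap_subtype (H := D) (K := Cs))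
  have hS₁eq : D.subgroupOf Cs = S₁ := by
    by_contra hne
    haveI := S₁.isPGroup'.isNilpotent
    obtain ⟨x, hx, hxn⟩ := SetLike.exists_of_lt ((Group.normalizerCondition_of_isNilpotent (G := S₁))
      ((D.subgroupOf Cs).subgroupOf S₁)
      (lt_top_iff_ne_top.2 fun h => hne (le_antisymm hS₁ (Subgroup.subgroupOf_eq_top.1 h))))
    set g : G := ((x : Cs) : G) with hg
    have hgp : ∃ m : ℕ, g ^ (3 ^ m) = 1 := by
      obtain ⟨m, hm⟩ := S₁.isPGroup' x
      exact ⟨m, congrArg (fun y : S₁ => ((y : Cs) : G)) hm⟩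
    have hgn : g ∈ Subgroup.normalizer (D : Set G) := Subgroup.mem_normalizer_fintype fun a ha =>
      (Subgroup.mem_normalizer_iff.1 hx ⟨⟨a, hDs ha⟩, hS₁ ha⟩).1 ha
    have hzD : T.z ∈ D := F.el_z ▸ he _ rfl
    have hgC : g ∈ T.C := mem_C_of_three hgp (hcenter _ ((Subgroup.mem_normalizer_iff.1 hgn _).1 hzD) (fun a ha => by
      have ha' : g⁻¹ * a * g ∈ D := by
        have h := (Subgroup.mem_normalizer_iff.1 (inv_mem hgn) a).1 ha
        rwa [inv_inv] at h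
      calc g * T.z * g⁻¹ * a = g * (T.z * (g⁻¹ * a * g)) * g⁻¹ := by group
        _ = g * (g⁻¹ * a * g * T.z) * g⁻¹ := by rw [T.mem_C.1 (hDC ha')]
        _ = a * (g * T.z * g⁻¹) := by group))
    have hZp : IsPGroup 3 (Subgroup.zpowers g) := by
      obtain ⟨m, hm⟩ := hgp
      obtain ⟨k, -, hk⟩ := (Nat.dvd_prime_pow Nat.prime_three).1 (orderOf_dvd_of_pow_eq_one hm)
      exact IsPGroup.of_card (n := k) (by rw [Nat.card_zpowers, hk])
    have hle := hs.card_cent hF (hZp.to_sup_of_normal_right' hDp (Subgroup.zpowers_le.2 hgn))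
      (sup_le (Subgroup.zpowers_le.2 hgC) hDC) (sup_le (Subgroup.zpowers_le.2 (x : Cs).2) hDs)
    exact hxn ((Subgroup.eq_of_le_of_card_ge (le_sup_right : D ≤ Subgroup.zpowers g ⊔ D) (by rw [hDcard]; exact hle)).ge
      (Subgroup.mem_sup_left (Subgroup.mem_zpowers g)))
  -- move `d`
  let dC : Cs := ⟨d, Subgroup.mem_centralizer_singleton_iff.2 hds⟩
  obtain ⟨S₂, hS₂⟩ := IsPGroup.exists_le_sylow (P := Subgroup.zpowers dC) (by
    obtain ⟨k, -, hk⟩ := (Nat.dvd_prime_pow Nat.prime_three (m := 1)).1 (show orderOf dC ∣ 3 ^ 1 by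
      rw [pow_one]; exact orderOf_dvd_of_pow_eq_one (Subtype.ext hd))
    exact IsPGroup.of_card (n := k) (by rw [Nat.card_zpowers, hk]))
  obtain ⟨c, hc⟩ := MulAction.exists_smul_eq Cs S₂ S₁
  have hcd : (c : G) * d * (c : G)⁻¹ ∈ D := by
    have h1 : c * dC * c⁻¹ ∈ D.subgroupOf Cs := by
      rw [hS₁eq, ← hc, Sylow.coe_subgroup_smul, Subgroup.mem_pointwise_smul_iff_inv_smul_mem]
      simpa [mul_assoc] using hS₂ (Subgroup.mem_zpowers dC)
    exact h1
  have hcs : (c : G) * s = s * c := Subgroup.mem_centralizer_singleton_iff.1 c.2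
  set d' := (c : G) * d * (c : G)⁻¹ with hd'
  have hd'3 : d' ^ 3 = 1 := by rw [hd', conj_pow, hd, mul_one, mul_inv_cancel]
  obtain ⟨v, hv, hcase⟩ := hdec d' hcd
  have hQ : d' = F.el v ∨ d' ∈ T.Q := by
    rcases hcase with e | e | e
    · exact Or.inl e
    · refine Or.inr (e ▸ mul_mem (F.el_mem_Q (mU_norm v ?_)) hy)
      refine F.el_inj ?_
      rw [F.el_zero, F.el_mul, F.el_mul, show F.el (mU (mU v)) = F.el ((mU ∘ mU) v) from rfl, ← hA v,
        ← (hA.mul hA) v]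
      rw [e, pow_succ, pow_two] at hd'3
      calc _ = F.el v * y * (F.el v * y) * (F.el v * y) * (y * y * y)⁻¹ := by group
        _ = 1 := by rw [hd'3, T.cube_iff hy, inv_one, one_mul]
    · refine Or.inr (e ▸ mul_mem (F.el_mem_Q (mU_norm v ?_)) (mul_mem hy hy))
      rw [show v + mU v + mU (mU v) = v + mU (mU v) + mU v by abel]
      refine F.el_inj ?_
      have h4 : F.Act (y * y * (y * y)) mU := ((hA.mul hA).mul (hA.mul hA)).congr fun w => mU_four w
      rw [F.el_zero, F.el_mul, F.el_mul, show F.el (mU (mU v)) = F.el ((mU ∘ mU) v) from rfl, ← (hA.mul hA) v,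
        ← h4 (v := v)]
      rw [e, pow_succ, pow_two] at hd'3
      have hY3 := T.cube_iff (mul_mem hy hy)
      generalize y * y = Y at hd'3 hY3 ⊢
      calc _ = F.el v * Y * (F.el v * Y) * (F.el v * Y) * (Y * Y * Y)⁻¹ := by group
        _ = 1 := by rw [hd'3, hY3, inv_one, one_mul]
  rcases hQ with e | hQ
  · exact ⟨c, hcs, v, hv, e⟩
  have hd's : d' * s = s * d' := Subgroup.mem_centralizer_singleton_iff.1 (hDs hcd)
  have hm := hs.bar_minus hF hQ hd's
  by_cases h1 : T.bar ⟨d', hQ⟩ = 1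
  · obtain ⟨i, hi⟩ := Subgroup.mem_zpowers_iff.1 (T.bar_eq_one.1 h1)
    refine ⟨c, hcs, (i : ZMod 3) • ![1, 0, 0, 0], by simp, ?_⟩
    rw [F.el_smul, F.el_z, pow_val_intCast T.z_cube, hi]
  obtain ⟨γ, hγ⟩ := minus_trans ((F.ht.minus_iff F.n_mem).2 F.comps.hn1) (fun e => F.n_notZ (T.bar_eq_one.1 e)) hm h1
  obtain ⟨k, hk, hkη, hks⟩ := hs.exists_lift γ
  rw [← hk, T.act_bar hkη] at hγ
  obtain ⟨i, hi⟩ := Subgroup.mem_zpowers_iff.1 (T.bar_eq.1 hγ)
  refine ⟨(k : G)⁻¹ * c, ((show Commute (k : G) s from hks).inv_left.mul_left hcs).eq,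
    (i : ZMod 3) • ![1, 0, 0, 0] + ![0, 1, 0, 0], by simp, ?_⟩
  rw [F.el_mul, F.el_smul, F.el_z, pow_val_intCast T.z_cube, F.el_n,
    show (k : G)⁻¹ * c * d * ((k : G)⁻¹ * c)⁻¹ = (k : G)⁻¹ * d' * k by rw [hd']; group]
  have hkz : Commute (k : G) (T.z ^ i) := T.Z_central k.2 (zpow_mem T.z_mem i)
  have e2 : d' = (k : G) * F.n * (k : G)⁻¹ * T.z ^ i := by
    push_cast at hi
    rw [hi]; group
  rw [e2, show (k : G)⁻¹ * ((k : G) * F.n * (k : G)⁻¹ * T.z ^ i) * k = F.n * ((k : G)⁻¹ * (T.z ^ i * k)) by group,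
    ← hkz.eq, inv_mul_cancel_left]
  exact ((show Commute F.n T.z from F.n_z).zpow_right i).eq

end Frame

end Loc

end Cfsg.Agent.Spor.OmegaEightThree
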