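import Cfsg.Agent.Lib.Spor.OmegaEightThree.Double.SignN
import Cfsg.Agent.Lib.Spor.OmegaEightThree.Double.SigCent
import Cfsg.Agent.Lib.Spor.OmegaEightThree.Double.NineFacts
import Cfsg.Agent.Lib.Spor.SymNine.Main
import Cfsg.Agent.Lib.Spor.SymNine.Four
import Cfsg.Agent.Lib.Spor.SymNine.Big

/-!
If `C/Q ≅ SL(2,3) × 2`, the centralisers of the points of value one normalise `E`: `C_G(n)/⟨n⟩` has the local
structure of `Sym(9)`, and in `Sym(9)` the translation would be conjugate into `E`.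
-/

set_option autoImplicit false
set_option linter.unusedSectionVars false
set_option linter.style.haveILetI false
set_option maxHeartbeats 1000000
set_option maxRecDepth 100000

namespace Cfsg.Agent.Spor.OmegaEightThree

open Cfsg.Agent.Spor.PSLFourThree (com)
open Cfsg.Agent.Spor.SymNine (Wr Jm jc sm cc Conf)
open Cfsg.Agent.Lie.PSpFourThreeAmalgam (V3)
open Cfsg.Agent.Lie.PSpFourThreeFull (six)

namespace Loc

/-- Coordinates on `E/⟨n⟩` making the translation the shift and `σ` the swap. -/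
def ιn (v : V3) : Four := ![v.2.2, 0, v.1 - v.2.1, -(v.1 + v.2.1 + v.2.2)]

theorem ιn_facts : (∀ u v : V3, ιn (u + v) = ιn u + ιn v) ∧ ιn (1, 1, 1) = ![1, 0, 0, 0] ∧
    (∀ v, Frame.mV (ιn v) = ιn (Lie.PSpFourThreeAmalgam.mU v)) ∧
    (∀ v, sR (ιn v) = ιn (Lie.PSpFourThreeAmalgam.mT v)) := by decide +kernel

theorem ιn_surj : ∀ x : Four, ∃ u : V3, x = ιn u + x 1 • ![0, 1, 0, 0] := by decide +kernel

theorem ιn_inj : ∀ u : V3, ∀ c : ZMod 3, ιn u = c • ![0, 1, 0, 0] → u = 0 := by decide +kernel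

theorem six_faithful : ∀ k : Fin 6, six k (1, 0, 0) = (1, 0, 0) → six k (0, 1, 0) = (0, 1, 0) → k = 0 := by
  decide +kernel

theorem mV_back : ∀ v : Four, sR (Frame.mV (Frame.mV (sR v))) = Frame.mV v := by decide +kernel

theorem mV_three : ∀ v : Four, Frame.mV (Frame.mV (Frame.mV v)) = v := by decide +kernel

theorem mV_four : ∀ v : Four, Frame.mV (Frame.mV (Frame.mV (Frame.mV v))) = Frame.mV v := by decide +kernel

variable {G : Type*} [Group G] [Finite G] {T : Loc G}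

namespace Frame

variable (F : Frame T)

/-- The six lifts. -/
def liftK (s w : G) (k : Fin 6) : G := if k.1 < 3 then w ^ k.1 else s * w ^ (k.1 - 3)

variable {F} (hF : F.Classified) {s : G} (hs : F.IsSig s)
include hF hs

/-- A translation fixed by `t` and inverted by `σ`. -/
theorem Classified.exists_w : ∃ w ∈ T.Q, F.t * w = w * F.t ∧ F.Act w mV ∧ s * w * s⁻¹ = w⁻¹ := by
  obtain ⟨q, hq, hqt, hV⟩ := hF.exists_V
  have hA' : F.Act (q * q) (mV ∘ mV) := hV.mul hV
  set a := q * q with ha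
  have haQ : a ∈ T.Q := mul_mem hq hq
  set a' := s * a * s⁻¹ with ha'
  have ha'Q : a' ∈ T.Q := T.conj_Q hs.mem haQ
  have hA : F.Act a' mV := ((hs.act.mul hA').mul (hs.act.inv fun v => by
    funext i; fin_cases i <;> simp [sR])).congr mV_back
  have hq2 : s * a' * s⁻¹ = a := by
    rw [ha', show s * (s * a * s⁻¹) * s⁻¹ = s * s * a * (s * s)⁻¹ by group, hs.sq]
    group
  set c := com a' a with hc
  have hcZ : c ∈ T.toPre.Z := T.com_mem' ha'Q haQ
  have hc1 : c = 1 := by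
    have h := T.conj_Z hs.mem hcZ
    rw [hc, Pre.com_conj, hq2, ← ha', Pre.com_inv (a := a') (b := a), ← hc] at h
    have h3 := T.cube_iff (T.Z_le hcZ)
    have h2 : c * c = 1 := by nth_rw 1 [← h]; exact inv_mul_cancel c
    rwa [h2, one_mul] at h3
  have hcomm : Commute a' a := Pre.com_eq_one_iff.1 hc1
  have hst : Commute s F.t := hs.comm
  have hat : Commute a F.t := (show Commute q F.t from hqt.symm).mul_left hqt.symm
  refine ⟨(a' * a⁻¹) ^ 2, pow_mem (mul_mem ha'Q (inv_mem haQ)) 2, ?_, ?_, ?_⟩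
  · exact (((((hst.mul_left hat).mul_left hst.inv_left)).mul_left hat.inv_left).pow_left 2).symm.eq
  · have hai : F.Act a⁻¹ mV := hA'.inv fun v => mV_three v
    rw [pow_two]
    exact ((hA.mul hai).mul (hA.mul hai)).congr fun v => mV_four v
  · rw [← conj_pow, show s * (a' * a⁻¹) * s⁻¹ = (a' * a⁻¹)⁻¹ by
      rw [show s * (a' * a⁻¹) * s⁻¹ = s * a' * s⁻¹ * (s * a * s⁻¹)⁻¹ by group, hq2, mul_inv_rev a' a⁻¹, inv_inv],
      inv_pow]

/-- The centralisers of `n` and `z` meet in `E⟨w, σ⟩`. -/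
theorem Classified.mem_cent {w : G} (hw : w ∈ T.Q) (hA : F.Act w mV) {c : T.C} (hn : (c : G) * F.n = F.n * c)
    {H : Subgroup G} (hE : F.E ≤ H) (hwH : w ∈ H) (hsH : s ∈ H) : (c : G) ∈ H := by
  have key : ∀ d : T.C, T.η d = 1 → (d : G) * F.n = F.n * d → (d : G) ∈ H := by
    intro d hd hdn
    have hline := (pair_comp F.ht F.hg F.comps.hn F.comps.hr F.comps.he F.comps.hn1 F.comps.cent).2.2.1
    have h := T.act_bar hd ⟨F.r, F.r_mem⟩
    rw [hline.2] at h
    obtain ⟨i, hi⟩ := Subgroup.mem_zpowers_iff.1 (T.bar_eq.1 h)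
    push_cast at hi
    have hdr : (d : G) * F.r * (d : G)⁻¹ = F.r * T.z ^ i := by rw [hi, mul_inv_cancel_left]
    have hwr := iterate_pow hA (-(i : ZMod 3)).val ![0, 0, 1, 0]
    rw [(mV_iter _).1, ZMod.natCast_zmod_val, F.el_r] at hwr
    have hwn := iterate_pow hA (-(i : ZMod 3)).val ![0, 1, 0, 0]
    rw [(mV_iter _).2.2, F.el_n] at hwn
    set u := w ^ (-(i : ZMod 3)).val with hu
    have huC : u ∈ T.C := pow_mem (T.Q_le_C hw) _
    have hmem : u * (d : G) ∈ F.E := by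
      refine F.mem_E_of_C (c := ⟨u, huC⟩ * d) ?_ ?_ ?_
      · rw [map_mul, hd, ((T.ρker ⟨u, huC⟩).2 (pow_mem hw _)).2, mul_one]
      · exact ((show Commute u F.n from mul_inv_eq_iff_eq_mul.1 hwn).mul_left hdn).eq
      · refine mul_inv_eq_iff_eq_mul.1 ?_
        show u * (d : G) * F.r * (u * (d : G))⁻¹ = F.r
        rw [show u * (d : G) * F.r * (u * (d : G))⁻¹ = u * ((d : G) * F.r * (d : G)⁻¹) * u⁻¹ by group, hdr,
          show u * (F.r * T.z ^ i) * u⁻¹ = u * F.r * u⁻¹ * (u * T.z ^ i * u⁻¹) by group, hwr,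
          T.conj_Z huC (zpow_mem T.z_mem i),
          show (![-(i : ZMod 3), 0, 1, 0] : Four) = -((i : ZMod 3) • ![1, 0, 0, 0]) + ![0, 0, 1, 0] by simp,
          F.el_mul, F.el_neg, F.el_smul, F.el_z, F.el_r, pow_val_intCast T.z_cube, mul_assoc,
          ((show Commute F.r T.z from F.r_z).zpow_right i).eq, inv_mul_cancel_left]
    have h2 : (d : G) = u⁻¹ * (u * d) := by group
    rw [h2]
    exact mul_mem (inv_mem (pow_mem hwH _)) (hE hmem)
  by_cases hη : T.η c = 1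
  · exact key c hη hn
  · have h := key (⟨s, hs.mem⟩ * c) (by rw [map_mul]; exact mult_two_ne _ _ hs.eta hη) (by
      have hsn : Commute s F.n := by
        have h := hs.act ![0, 1, 0, 0]
        rw [show sR (![0, 1, 0, 0] : Four) = ![0, 1, 0, 0] by decide, F.el_n] at h
        exact mul_inv_eq_iff_eq_mul.1 h
      exact (hsn.mul_left hn).eq)
    exact (Subgroup.mul_mem_cancel_left _ hsH).1 h

/-- The local configuration in `C_G(n)/⟨n⟩`. -/
theorem Classified.exists_conf_n : ∃ (U : Conf F.Ln) (w : G) (hw : w ∈ F.Cn), w ∈ T.Q ∧ F.t * w = w * F.t ∧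
    com w F.r = T.z ∧ U.φ sm = F.qn ⟨w, hw⟩ ∧
    U.J = (F.E.subgroupOf F.Cn).map F.qn ∧ U.φ cc = F.qn ⟨F.el ![1, 0, 0, 0], F.el_Cn _⟩ := by
  classical
  obtain ⟨w, hw, hwt, hA, hsw⟩ := hF.exists_w hs
  obtain ⟨hadd, hone, hmV, hsR⟩ := ιn_facts
  have hw3 : w ^ 3 = 1 := T.exp w hw
  have hswi : ∀ m : ℕ, w ^ m * s = s * w ^ (2 * m) := by
    intro m
    have h : s * w ^ (2 * m) * s⁻¹ = w ^ m := by
      rw [← conj_pow, hsw, pow_mul, inv_pow, show (w ^ 2)⁻¹ = w from inv_eq_of_mul_eq_one_left (by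
        rw [← pow_succ', hw3])]
    rw [← h, inv_mul_cancel_right]
  have hpm : ∀ m : ℕ, w ^ (m % 3) = w ^ m := fun m => (pow_eq_pow_mod m hw3).symm
  have lift_mul : ∀ i j : Fin 6, liftK s w i * liftK s w j = liftK s w (SymNine.sixMul i j) := by
    intro i j
    unfold liftK SymNine.sixMul
    rcases Nat.lt_or_ge i.1 3 with hi | hi <;> rcases Nat.lt_or_ge j.1 3 with hj | hj
    · rw [if_pos hi, if_pos hj, if_pos (show _ < 3 by simp [hi, hj]; omega)]
      simp only [hi, hj, if_true]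
      rw [hpm, Nat.mod_eq_of_lt hi, Nat.mod_eq_of_lt hj, pow_add]
    · rw [if_pos hi, if_neg (not_lt.2 hj)]
      simp only [hi, not_lt.2 hj, if_true, if_false]
      rw [if_neg (by omega), Nat.add_sub_cancel_left, hpm, ← mul_assoc, hswi, mul_assoc, ← pow_add]
      congr 1
      rw [← hpm (2 * i.1 + (j.1 - 3)), ← hpm (j.1 % 3 + 2 * (i.1 % 3))]
      congr 1
      omega
    · rw [if_neg (not_lt.2 hi), if_pos hj]
      simp only [not_lt.2 hi, hj, if_true, if_false]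
      rw [if_neg (by omega), Nat.add_sub_cancel_left, hpm, mul_assoc, ← pow_add]
      congr 1
      rw [← hpm (i.1 - 3 + j.1), ← hpm (i.1 % 3 + j.1 % 3)]
      congr 1
      omega
    · rw [if_neg (not_lt.2 hi), if_neg (not_lt.2 hj)]
      simp only [not_lt.2 hi, not_lt.2 hj, if_false]
      rw [if_pos (by omega), hpm, show s * w ^ (i.1 - 3) * (s * w ^ (j.1 - 3)) =
        s * (w ^ (i.1 - 3) * s) * w ^ (j.1 - 3) by group, hswi, ← mul_assoc, hs.sq, one_mul, ← pow_add,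
        ← hpm (2 * (i.1 - 3) + (j.1 - 3)), ← hpm (j.1 % 3 + 2 * (i.1 % 3))]
      congr 1
      omega
  have hiter : ∀ (m : ℕ) (v : V3), mV^[m] (ιn v) = ιn (Lie.PSpFourThreeAmalgam.mU^[m] v) := by
    intro m
    induction m with
    | zero => intro v; rfl
    | succ m ih => intro v; rw [Function.iterate_succ_apply, hmV, ih, ← Function.iterate_succ_apply]
  have lift_act : ∀ (k : Fin 6) (v : V3),
      liftK s w k * F.el (ιn v) * (liftK s w k)⁻¹ = F.el (ιn (six k v)) := by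
    intro k v
    unfold liftK six
    split_ifs with h
    · rw [iterate_pow hA, hiter]
    · rw [(hs.act.mul (iterate_pow hA _)), Function.comp_apply, hiter, hsR]
  let φ₀ : Wr →* G := MonoidHom.mk' (fun m => F.el (ιn m.v) * liftK s w m.k) fun a b => by
    show F.el (ιn (a.v + six a.k b.v)) * liftK s w (SymNine.sixMul a.k b.k) = _
    rw [hadd, F.el_mul, ← lift_mul, ← lift_act]
    group
  have hwn : w ∈ F.Cn := F.mem_Cn.2 (mul_inv_eq_iff_eq_mul.1 (by rw [← F.el_n, hA, mV_n]))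
  have hsn : s ∈ F.Cn := F.mem_Cn.2 (mul_inv_eq_iff_eq_mul.1 (by
    rw [← F.el_n, hs.act]; congr 1))
  have hlift : ∀ k, liftK s w k ∈ F.Cn ∧ liftK s w k ∈ T.C := by
    intro k
    unfold liftK
    split_ifs
    · exact ⟨pow_mem hwn _, pow_mem (T.Q_le_C hw) _⟩
    · exact ⟨mul_mem hsn (pow_mem hwn _), mul_mem hs.mem (pow_mem (T.Q_le_C hw) _)⟩
  have hmem : ∀ m, φ₀ m ∈ F.Cn := fun m => mul_mem (F.el_Cn _) (hlift _).1
  set φ : Wr →* F.Ln := F.qn.comp (φ₀.codRestrict F.Cn hmem) with hφ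
  have hjc : ∀ v : V3, φ (jc v) = F.qn ⟨F.el (ιn v), F.el_Cn _⟩ := fun v =>
    congrArg F.qn (Subtype.ext (show F.el (ιn v) * liftK s w 0 = _ by simp [liftK]))
  have hcc : φ cc = F.qn ⟨F.el ![1, 0, 0, 0], F.el_Cn _⟩ := by
    rw [← SymNine.jc_one, hjc]
    exact congrArg F.qn (Subtype.ext (by rw [hone]))
  have hsm : φ sm = F.qn ⟨w, hwn⟩ := congrArg F.qn (Subtype.ext (by
    show F.el (ιn 0) * liftK s w 1 = w
    simp [liftK, show ιn (0 : V3) = 0 by decide, F.el_zero]))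
  have hinj : Function.Injective φ := by
    rw [injective_iff_map_eq_one]
    intro m hm
    obtain ⟨c, hc⟩ := F.qn_eq_one.1 hm
    rw [F.n_pow] at hc
    have hc' : F.el (ιn m.v) * liftK s w m.k = F.el (c • ![0, 1, 0, 0]) := hc
    have hk : liftK s w m.k ∈ F.E := (Subgroup.mul_mem_cancel_left _ (F.el_mem _)).1 (hc' ▸ F.el_mem _)
    have hfix : ∀ v, six m.k v = v := fun v => by
      obtain ⟨x, hx⟩ := F.mem_E_iff.1 hk
      have h := lift_act m.k v
      rw [← hx, F.el_comm, mul_inv_cancel_right] at h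
      have h2 : ιn (six m.k v - v) = (0 : ZMod 3) • ![0, 1, 0, 0] := by
        have h3 := hadd (six m.k v - v) v
        rw [sub_add_cancel, ← F.el_inj h] at h3
        rw [zero_smul]
        exact add_eq_right.1 h3.symm
      exact sub_eq_zero.1 (ιn_inj _ 0 h2)
    have hk0 := six_faithful m.k (hfix _) (hfix _)
    rw [hk0, show liftK s w 0 = 1 by simp [liftK], mul_one] at hc'
    exact SymNine.Wr.ext (ιn_inj _ c (F.el_inj hc')) hk0
  have hJm : Jm.map φ = (F.E.subgroupOf F.Cn).map F.qn := by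
    ext x
    constructor
    · rintro ⟨m, hm, rfl⟩
      obtain ⟨v, rfl⟩ := (SymNine.inJ_iff m).1 (SymNine.mem_Jm.1 hm)
      rw [hjc]
      exact Subgroup.mem_map_of_mem _ (F.el_mem _)
    · rintro ⟨g, hg, rfl⟩
      obtain ⟨x, hx⟩ := F.mem_E_iff.1 hg
      obtain ⟨u, hu⟩ := ιn_surj x
      refine ⟨jc u, SymNine.mem_Jm.2 rfl, ?_⟩
      rw [hjc]
      have e : g = ⟨F.el (ιn u), F.el_Cn _⟩ * ⟨F.el (x 1 • ![0, 1, 0, 0]), F.el_Cn _⟩ := Subtype.ext (by
        show (g : G) = F.el (ιn u) * F.el (x 1 • ![0, 1, 0, 0])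
        rw [← F.el_mul, ← hu, hx]
        rfl)
      rw [e, map_mul, (F.qn_eq_one (x := ⟨F.el (x 1 • ![0, 1, 0, 0]), F.el_Cn _⟩)).2 ⟨x 1, (F.n_pow _).symm⟩, mul_one]
  have hrange : φ.range = Subgroup.centralizer ({φ cc} : Set F.Ln) := by
    refine le_antisymm ?_ fun x hx => ?_
    · rintro _ ⟨m, rfl⟩
      rw [Subgroup.mem_centralizer_singleton_iff, ← map_mul, ← map_mul, SymNine.cc_comm]
    · obtain ⟨g, rfl⟩ := F.qn_surj x
      rw [hcc] at hx
      have h0 := Subgroup.mem_centralizer_singleton_iff.1 hx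
      set zc : F.Cn := ⟨F.el ![1, 0, 0, 0], F.el_Cn _⟩
      obtain ⟨c, hc⟩ := F.qn_eq_one.1 (show F.qn (zc⁻¹ * (g * zc * g⁻¹)) = 1 by
        rw [map_mul, map_mul, map_mul, map_inv, map_inv, h0, mul_inv_cancel_right, inv_mul_cancel])
      push_cast at hc
      rw [F.n_pow] at hc
      have h1 : (g : G) * F.el ![1, 0, 0, 0] * (g : G)⁻¹ = F.el (![1, 0, 0, 0] + c • ![0, 1, 0, 0]) := by
        rw [F.el_mul, ← hc, mul_inv_cancel_left]
      have hq := hF.qf_conj h1
      have hc0 : c = 0 := (show ∀ c : ZMod 3, qf ![1, 0, 0, 0] = qf (![1, 0, 0, 0] + c • ![0, 1, 0, 0]) → c = 0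
        by decide) c hq
      rw [hc0, zero_smul, add_zero, F.el_z] at h1
      have hgC : (g : G) ∈ T.C := T.mem_C.2 (mul_inv_eq_iff_eq_mul.1 h1)
      let H : Subgroup G := (φ.range.comap F.qn).map F.Cn.subtype
      have hEH : F.E ≤ H := fun a ha => by
        obtain ⟨v, rfl⟩ := F.mem_E_iff.1 ha
        refine ⟨⟨F.el v, F.el_Cn v⟩, ?_, rfl⟩
        have : F.qn ⟨F.el v, F.el_Cn v⟩ ∈ Jm.map φ := hJm ▸ Subgroup.mem_map_of_mem _ (F.el_mem v)
        exact Subgroup.map_le_range _ _ this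
      have hwH : w ∈ H := ⟨⟨w, hwn⟩, ⟨sm, hsm⟩, rfl⟩
      have hsH : s ∈ H := ⟨⟨s, hsn⟩, ⟨SymNine.tm, congrArg F.qn (Subtype.ext (by
        show F.el (ιn 0) * liftK s w 3 = s
        simp [liftK, show ιn (0 : V3) = 0 by decide, F.el_zero]))⟩, rfl⟩
      obtain ⟨g', hg', e⟩ := hF.mem_cent hs hw hA (c := ⟨g, hgC⟩) (F.mem_Cn.1 g.2) hEH hwH hsH
      obtain rfl : g' = g := Subtype.ext e
      exact hg'
  have hsig : ∀ K : Subgroup F.Ln, (Nat.card K).Coprime 3 →
      Jm.map φ ≤ Subgroup.normalizer (K : Set F.Ln) → K = ⊥ := by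
    intro K hK hn
    rw [hJm] at hn
    exact hF.J_signalizer_n K hK (map_conj_of_norm hn)
  refine ⟨⟨φ, hinj, hrange, hsig⟩, w, hwn, hw, hwt, ?_, hsm, hJm, hcc⟩
  exact com_mV hA

end Frame

end Loc

end Cfsg.Agent.Spor.OmegaEightThree
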