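import Cfsg.Agent.Lib.Spor.OmegaEightThree.Double.CentN

/-!
If `C/Q ≅ SL(2,3) × 2`, the centraliser of a point of value one normalises `E`.
-/

set_option autoImplicit false
set_option linter.unusedSectionVars false
set_option linter.style.haveILetI false
set_option maxHeartbeats 1000000

namespace Cfsg.Agent.Spor.OmegaEightThree

open Cfsg.Agent.Spor.PSLFourThree (com)
open Cfsg.Agent.Spor.SymNine (Conf normal_or_symNine)

namespace Loc

variable {G : Type*} [Group G] [Finite G] {T : Loc G}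

namespace Frame

variable {F : Frame T} (hF : F.Classified) {s : G} (hs : F.IsSig s)
include hF hs

/-- `C_G(n)` normalises `E`. -/
theorem Classified.cent_n_norm : Subgroup.centralizer ({F.n} : Set G) ≤ Subgroup.normalizer (F.E : Set G) := by
  classical
  obtain ⟨U, w, hwn, hw, hwt, hwr, hsm, hJ, hcc⟩ := hF.exists_conf_n hs
  rcases normal_or_symNine U (fun T hF hc => hF.four_normal hc fun g hg => hF.fix_t hc (by decide) hg)
    (fun T hF hpair π hπ hk => hF.big hpair π hπ hk) with hN | ⟨⟨e⟩⟩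
  · intro g hg
    refine Subgroup.mem_normalizer_fintype fun a ha => ?_
    obtain ⟨v, rfl⟩ := F.mem_E_iff.1 ha
    have hmem : F.qn ⟨F.el v, F.el_Cn v⟩ ∈ U.J := hJ ▸ Subgroup.mem_map_of_mem _ (F.el_mem v)
    have h := hN.conj_mem _ hmem (F.qn ⟨g, hg⟩)
    rw [hJ, ← map_inv, ← map_mul, ← map_mul] at h
    obtain ⟨x, hx, hxe⟩ := h
    rw [← inv_mul_eq_one, ← map_inv, ← map_mul, F.qn_eq_one] at hxe
    obtain ⟨c, hc⟩ := hxe
    push_cast at hc
    rw [show g * F.el v * g⁻¹ = (x : G) * F.n ^ c.val by rw [← hc, mul_inv_cancel_left]]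
    exact mul_mem hx (pow_mem F.n_mem_E _)
  · exfalso
    obtain ⟨g, hg⟩ := symNine_conj U e
    obtain ⟨h, rfl⟩ := F.qn_surj g
    rw [hsm, hcc, ← map_inv, ← map_mul, ← map_mul, ← inv_mul_eq_one, ← map_inv, ← map_mul, F.qn_eq_one] at hg
    obtain ⟨c, hc⟩ := hg
    push_cast at hc
    refine hF.not_conj_E hw hwt hwr (h : G) (![1, 0, 0, 0] + -(c • ![0, 1, 0, 0])) ?_
    rw [F.el_mul, F.el_neg, ← F.n_pow, ← hc]
    group

/-- The centraliser of a point of value one normalises `E`. -/
theorem Classified.cent_norm {v : Four} (hv : qf v = 1) :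
    Subgroup.centralizer ({F.el v} : Set G) ≤ Subgroup.normalizer (F.E : Set G) := by
  obtain ⟨k, φ, hk, hkv⟩ := hF.to_n hv
  intro g hg
  have hg' : Commute (k * g * k⁻¹) (k * F.el v * k⁻¹) :=
    (Commute.conj_iff k).2 (Subgroup.mem_centralizer_singleton_iff.1 hg)
  have hn : k * g * k⁻¹ ∈ Subgroup.centralizer ({F.n} : Set G) := by
    refine Subgroup.mem_centralizer_singleton_iff.2 ?_
    rcases hkv with e | e <;> rw [e] at hg'
    · exact hg'.eq
    · exact (inv_inv F.n ▸ hg'.inv_right : Commute _ F.n).eq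
  have := mul_mem (mul_mem (inv_mem hk.mem) (hF.cent_n_norm hs hn)) hk.mem
  rwa [show k⁻¹ * (k * g * k⁻¹) * k = g by group] at this

end Frame

end Loc

end Cfsg.Agent.Spor.OmegaEightThree
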