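import Cfsg.Agent.Lib.Spor.OmegaEightThree.Double.CentNorm
import Cfsg.Agent.Lib.Spor.OmegaEightThree.QuotThree
import Cfsg.Agent.Lib.Lie.PSpFourThreeFull.CaseA
import Cfsg.Agent.Lib.Lie.PSpFourThreeFull.Assembly

/-!
If `C/Q ≅ SL(2,3) × 2`, the group `C_G(r)/⟨r⟩` has a character of order two, trivial on the centraliser of
the image of `z` and nontrivial on the elements inverting it.
-/

set_option autoImplicit false
set_option linter.unusedSectionVars false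
set_option linter.style.haveILetI false
set_option maxHeartbeats 1000000
set_option maxRecDepth 100000
set_option synthInstance.maxSize 4000
set_option synthInstance.maxHeartbeats 400000

namespace Cfsg.Agent.Lie.PSpFourThreeFull

open Cfsg.Agent.Lie.PSpFourThreeAmalgam
open Cfsg.Agent.Small.ShapeThree (M)

theorem act_dia_axis : ∀ i : Fin 24, act i dia ≠ (0, 0, 1) ∧ act i dia ≠ -(0, 0, 1) ∧ -(act i dia) ≠ (0, 0, 1) ∧
    -(act i dia) ≠ -(0, 0, 1) := by decide +kernel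

namespace Conf

variable {G : Type*} [Group G] [Finite G]

/-- The signed frame has the same subgroup of order twenty-seven. -/
theorem exists_signed_J (T : Conf G) (hn : -dia ∈ T.wdata.orb) (h8 : T.wdata.orb.card = 8) :
    ∃ T' : Conf G, T'.a = T.a ∧ T'.J = T.J ∧ T'.Signed := by
  obtain ⟨l, hdir, hall⟩ := T.wdata.signed_monomial hn h8
  obtain ⟨T', ha, hJ, -, hq⟩ := T.exists_straight l
  have hN : Subgroup.normalizer (T'.J : Set G) = Subgroup.normalizer (T.J : Set G) := by rw [hJ]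
  refine ⟨T', ha, hJ, ⟨fun g hg => ?_, fun i => ?_, fun i => ?_⟩⟩
  · obtain ⟨i, hi⟩ := hdir _ ⟨⟨g, hN ▸ hg⟩, rfl⟩
    refine ⟨i, hi.imp (fun h v => ?_) fun h v => ?_⟩
    · rw [hq, T.conjPerm_spec ⟨g, hN ▸ hg⟩, h, hq]
    · rw [hq, T.conjPerm_spec ⟨g, hN ▸ hg⟩, h, hq, sh_negv]
  · obtain ⟨⟨_, ⟨g, rfl⟩, hg⟩, -⟩ := hall i
    exact ⟨g, hN.symm ▸ g.2, fun v => by rw [hq, T.conjPerm_spec, hg, hq]⟩
  · obtain ⟨-, _, ⟨g, rfl⟩, hg⟩ := hall i
    exact ⟨g, hN.symm ▸ g.2, fun v => by rw [hq, T.conjPerm_spec, hg, hq, sh_negv]⟩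

/-- The axis is not conjugate to the central element or its inverse. -/
theorem Signed.axis_free {T : Conf G} (hS : T.Signed) {g : G}
    (h : g * T.a * g⁻¹ = T.q (0, 0, 1) ∨ g * T.a * g⁻¹ = (T.q (0, 0, 1))⁻¹) : False := by
  have hJ : g * T.a * g⁻¹ ∈ T.J := by
    rcases h with e | e <;> rw [e]
    · exact T.q_mem _
    · exact inv_mem (T.q_mem _)
  obtain ⟨n, hn, hna⟩ := T.fusion hJ
  obtain ⟨i, hi⟩ := hS.dir n hn
  obtain ⟨h1, h2, h3, h4⟩ := act_dia_axis i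
  rcases hi with e | e <;> have e' := e dia <;> rw [T.q_dia, hna] at e' <;> rcases h with f | f <;>
    rw [f] at e'
  · exact h1 (T.q_inj e').symm
  · rw [← T.q_neg] at e'; exact h2 (T.q_inj e').symm
  · exact h3 (T.q_inj e').symm
  · rw [← T.q_neg] at e'; exact h4 (T.q_inj e').symm

/-- With the axis centralised in the normaliser, a character of order two. -/
theorem Signed.exists_char {T : Conf G} (hS : T.Signed) (hA : T.centQ (0, 0, 1) ≤ Subgroup.normalizer (T.J : Set G)) :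
    ∃ V : G →* Multiplicative (ZMod 2), (∀ m, V (T.φ m) = 1) ∧ ∀ g : G, g * T.a * g⁻¹ = T.a⁻¹ → V g ≠ 1 := by
  classical
  haveI : Fact (Nat.Prime 3) := ⟨Nat.prime_three⟩
  have hc := hS.comm_A hA
  set H := (hS.psi hc).range with hH
  let χ : H →* Multiplicative (ZMod 2) :=
    (CoxeterMatrix.E₆.toCoxeterSystem.lengthParity).comp
      (MonoidHom.ofInjective (hS.psi_inj hc)).symm.toMonoidHom
  have hR0H : T.rot hS.R ∈ H := ⟨W6.model.s 0, hS.psi_simple hc 0⟩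
  have hR0 : T.rot hS.R * T.rot hS.R = 1 := by rw [← map_mul, hS.R_invol, map_one]
  set V := MonoidHom.transfer χ with hV
  have hVR0 : V (T.rot hS.R) = Multiplicative.ofAdd 1 := by
    rw [hV, transfer_single χ hR0 hR0H fun g hg => hS.node_fix hA hc hg]
    show CoxeterMatrix.E₆.toCoxeterSystem.lengthParity ((MonoidHom.ofInjective (hS.psi_inj hc)).symm ⟨_, hR0H⟩) = _
    rw [show (⟨T.rot hS.R, hR0H⟩ : H) = MonoidHom.ofInjective (hS.psi_inj hc) (W6.model.s 0) from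
      Subtype.ext (hS.psi_simple hc 0).symm, MulEquiv.symm_apply_apply]
    exact CoxeterMatrix.E₆.toCoxeterSystem.lengthParity_simple 0
  have hVrot : ∀ x, V (T.rot x) = V x := fun x => by
    rw [T.rot_apply, map_mul, map_mul, map_inv, mul_comm (V (T.φ sm)), mul_inv_cancel_right]
  have hVR : V hS.R = Multiplicative.ofAdd 1 := (hVrot _).symm.trans hVR0
  have hrng : ∀ m, V (T.φ m) = 1 := by
    intro m
    obtain ⟨a, b, c, d, ea, eb, ec, ed, rfl⟩ := model_three_gen m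
    have h3 : ∀ z : M, z * z * z = 1 → V (T.φ z) = 1 := fun z hz => cube_two _ (by
      rw [← map_mul, ← map_mul, ← map_mul, ← map_mul, hz, map_one, map_one])
    rw [map_mul, map_mul, map_mul, map_mul, map_mul, map_mul, h3 a ea, h3 b eb, h3 c ec, h3 d ed]
    simp
  refine ⟨V, hrng, fun g hg hgV => ?_⟩
  set x := hS.R * T.rot hS.R * T.rot (T.rot hS.R)
  have ha1 : T.Acts (hS.R * T.rot hS.R) fun v => sgC (mU (sgC (mU (mU v)))) :=
    Acts.mul T hS.R_acts (Acts.rot T hS.R_acts)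
  have hx : T.Acts x fun v => -v := fun v => by
    rw [Acts.mul T ha1 (Acts.rot T (Acts.rot T hS.R_acts)) v]
    refine congrArg T.q ?_
    show sgC (mU (sgC (mU (mU (mU (mU (sgC (mU (mU (mU (mU v))))))))))) = -v
    rw [mU_back]
    exact pair_moves.2.2 v
  have hgx : g * x * T.a = T.a * (g * x) := by
    have h1 : g * (x * T.a * x⁻¹) * g⁻¹ = T.a := by
      rw [← T.q_dia, hx, T.q_neg, T.q_dia, ← conj_inv, hg, inv_inv]
    calc g * x * T.a = g * (x * T.a * x⁻¹) * g⁻¹ * (g * x) := by group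
      _ = _ := by rw [h1]
  obtain ⟨m, hm⟩ := T.cent_a.1 hgx
  have h2 := hrng m
  rw [hm, map_mul, hgV, one_mul, map_mul, map_mul, hVrot, hVrot, hVrot, hVR, two_facts.2.1, one_mul] at h2
  exact two_facts.2.2 h2

end Conf

end Cfsg.Agent.Lie.PSpFourThreeFull

namespace Cfsg.Agent.Spor.OmegaEightThree

open Cfsg.Agent.Spor.PSLFourThree (com)
open Cfsg.Agent.Lie.PSpFourThreeFull (exists_conf Conf)

namespace Loc

/-- The negation fixing `r`. -/
def negR (v : Four) : Four := ![-v 0, -v 1, v 2, -v 3]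

theorem sR_neg : ∀ v : Four, sR (-v) = negR v := by decide +kernel

theorem wmap_fix : ∀ w ∈ ([[], [2], [2, 2], [0, 2], [0, 0, 2], [0, 2, 2], [0, 0, 2, 2]] : List (List (Fin 4))),
    Frame.wmap w ![0, 0, 1, 0] = ![0, 0, 1, 0] := by decide +kernel

theorem orbit_sing : ∀ v : Four, v 2 = 0 → qf v = 0 → v ≠ 0 →
    ∃ w ∈ ([[], [2], [2, 2], [0, 2], [0, 0, 2], [0, 2, 2], [0, 0, 2, 2]] : List (List (Fin 4))),
      Frame.wmap w ![1, 0, 0, 0] = v ∨ Frame.wmap w ![1, 0, 0, 0] = -v := by decide +kernel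

theorem shift_r : ∀ (v : Four) (c : ZMod 3), v 2 = 0 → qf v ≠ 0 → qf (v + c • ![0, 0, 1, 0]) = qf v → c = 0 := by
  decide +kernel

theorem axis_n : ∀ v : Four, v 2 = 0 → qf v ≠ 0 → qf v = 1 ∨ qf (v + ![0, 0, 1, 0]) = 1 := by decide +kernel

variable {G : Type*} [Group G] [Finite G] {T : Loc G}

namespace Frame

variable {F : Frame T} (hF : F.Classified) {s : G} (hs : F.IsSig s)
include hF hs

/-- An element inverting `z`, `n`, `f`, fixing `r` and commuting with `t`. -/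
theorem Classified.exists_inv : ∃ u : G, u ∈ F.Cr ∧ u * F.t = F.t * u ∧ F.Act u negR := by
  obtain ⟨u₀, hu, -, hut⟩ := hF.exists_neg
  have hA : F.Act (s * u₀) negR := (hs.act.mul hu).congr fun v => sR_neg v
  refine ⟨s * u₀, F.mem_Cr.2 (mul_inv_eq_iff_eq_mul.1 ?_), ((show Commute s F.t from hs.comm).mul_left hut).eq, hA⟩
  rw [← F.el_r, hA]
  congr 1

/-- The centraliser in `C_G(r)/⟨r⟩` of a nonsingular point normalises the image of `E`. -/
theorem Classified.cent_axis_norm {v : Four} (hv2 : v 2 = 0) (hq : qf v ≠ 0) :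
    Subgroup.centralizer ({F.qr ⟨F.el v, F.el_Cr v⟩} : Set F.Lr) ≤ Subgroup.normalizer (F.Jr : Set F.Lr) := by
  intro x hx
  obtain ⟨g, rfl⟩ := F.qr_surj x
  set j : F.Cr := ⟨F.el v, F.el_Cr v⟩
  have h0 := Subgroup.mem_centralizer_singleton_iff.1 hx
  obtain ⟨c, hc⟩ := F.qr_eq_one.1 (show F.qr (j⁻¹ * (g * j * g⁻¹)) = 1 by
    rw [map_mul, map_mul, map_mul, map_inv, map_inv, h0, mul_inv_cancel_right, inv_mul_cancel])
  push_cast at hc
  have h1 : (g : G) * F.el v * (g : G)⁻¹ = F.el (v + c • ![0, 0, 1, 0]) := by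
    rw [F.el_mul, F.el_smul, F.el_r, ← hc, mul_inv_cancel_left]
  have hc0 := shift_r v c hv2 hq (hF.qf_conj h1).symm
  rw [hc0, zero_smul, add_zero] at h1
  have hgv : Commute (g : G) (F.el v) := mul_inv_eq_iff_eq_mul.1 h1
  have hgr : Commute (g : G) F.r := F.mem_Cr.1 g.2
  have hN : (g : G) ∈ Subgroup.normalizer (F.E : Set G) := by
    rcases axis_n v hv2 hq with e | e
    · exact hF.cent_norm hs e (Subgroup.mem_centralizer_singleton_iff.2 hgv.eq)
    · refine hF.cent_norm hs e (Subgroup.mem_centralizer_singleton_iff.2 ?_)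
      rw [F.el_mul, F.el_r]
      exact (hgv.mul_right hgr).eq
  refine Subgroup.mem_normalizer_fintype fun a ha => ?_
  obtain ⟨b, hb, rfl⟩ := ha
  refine ⟨g * b * g⁻¹, (Subgroup.mem_normalizer_iff.1 hN _).1 hb, ?_⟩
  rw [map_mul, map_mul, map_inv]

/-- A singular point orthogonal to `r` is conjugate to the image of `z^{±1}`. -/
theorem Classified.sing_conj {v : Four} (hv2 : v 2 = 0) (hq : qf v = 0) (hv : v ≠ 0) :
    ∃ k : F.Lr, k * F.ar * k⁻¹ = F.qr ⟨F.el v, F.el_Cr v⟩ ∨ k * F.ar * k⁻¹ = (F.qr ⟨F.el v, F.el_Cr v⟩)⁻¹ := by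
  obtain ⟨w, hw, hwv⟩ := orbit_sing v hv2 hq hv
  obtain ⟨k, hk⟩ := hF.exists_word w
  have hkr : k ∈ F.Cr := F.mem_Cr.2 (mul_inv_eq_iff_eq_mul.1 (by rw [← F.el_r, hk, wmap_fix w hw]))
  refine ⟨F.qr ⟨k, hkr⟩, ?_⟩
  rw [ar, ← map_inv, ← map_mul, ← map_mul, ← map_inv]
  refine hwv.imp (fun e => congrArg F.qr (Subtype.ext ?_)) fun e => congrArg F.qr (Subtype.ext ?_) <;>
    show k * T.z * k⁻¹ = _
  · rw [← F.el_z, hk, e]
  · rw [← F.el_z, hk, e, F.el_neg]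
    rfl

/-- The character of `C_G(r)/⟨r⟩`. -/
theorem Classified.exists_char_r : ∃ V : F.Lr →* Multiplicative (ZMod 2),
    (∀ g, g * F.ar = F.ar * g → V g = 1) ∧ ∀ g, g * F.ar * g⁻¹ = F.ar⁻¹ → V g ≠ 1 := by
  classical
  obtain ⟨h1, h2, h3, ⟨e⟩⟩ := hF.core_facts
  obtain ⟨hJC, hJc, hJe, hJcard⟩ := hF.J_facts
  obtain ⟨U, hUa⟩ := exists_conf F.ar F.order_ar _ rfl h1 h2 h3 e F.Jr hJC hJc hJe hJcard hF.J_signalizer
  obtain ⟨hcU, hzU, hiff⟩ := Lie.PSpFourThreeFull.inverse_cases hUa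
  obtain ⟨u, hur, -, hu⟩ := hF.exists_inv hs
  have hinv : F.qr ⟨u, hur⟩ * F.ar * (F.qr ⟨u, hur⟩)⁻¹ = F.ar⁻¹ := by
    rw [ar, ← map_inv, ← map_mul, ← map_mul, ← map_inv]
    refine congrArg F.qr (Subtype.ext ?_)
    show u * T.z * u⁻¹ = T.z⁻¹
    rw [← F.el_z, hu, ← F.el_neg]
    congr 1
    decide
  have hneg : -Lie.PSpFourThreeFull.dia ∈ U.wdata.orb := U.neg_mem_orb_iff.2 (hiff.2 ⟨_, hinv⟩)
  have h8 : U.wdata.orb.card = 8 := by
    rcases U.wdata.card_cases with ⟨h, -⟩ | ⟨-, h2 | h8⟩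
    · exact absurd hneg h
    · exfalso
      have htop := Lie.PSpFourThreeFull.Conf.Two.normalizer_top (T := U) ⟨hneg, h2⟩
      rw [hzU] at htop
      obtain ⟨k, hk, s', hs', hkf⟩ := hF.exists_K_fix
      have hmem := (Subgroup.mem_normalizer_iff.1 (show (F.qr ⟨k, hk⟩)⁻¹ ∈ Subgroup.normalizer
        (Subgroup.zpowers F.ar : Set F.Lr) from htop ▸ Subgroup.mem_top _) (F.ar ^ s'.val)).1
        (pow_mem (Subgroup.mem_zpowers _) _)
      have e1 : (F.qr ⟨k, hk⟩)⁻¹ * F.ar ^ s'.val * (F.qr ⟨k, hk⟩)⁻¹⁻¹ = F.qr ⟨F.f, F.el_f ▸ F.el_Cr _⟩ := by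
        rw [ar, ← map_pow, ← map_inv, ← map_inv, ← map_mul, ← map_mul]
        refine congrArg F.qr (Subtype.ext ?_)
        show k⁻¹ * T.z ^ s'.val * k⁻¹⁻¹ = F.f
        have : F.el ![s', 0, 0, 0] = T.z ^ s'.val := by simp [el]
        rw [← this, ← hkf]
        group
      rw [e1] at hmem
      obtain ⟨i, hi⟩ := Subgroup.mem_zpowers_iff.1 hmem
      have e2 : F.ar ^ i = F.qr ⟨F.el ![(i : ZMod 3), 0, 0, 0], F.el_Cr _⟩ := by
        rw [ar, ← map_zpow]
        refine congrArg F.qr (Subtype.ext ?_)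
        push_cast
        rw [← pow_val_intCast T.z_cube i]
        simp [el]
      rw [e2, show (⟨F.f, F.el_f ▸ F.el_Cr _⟩ : F.Cr) = ⟨F.el ![0, 0, 0, 1], F.el_Cr _⟩ from
        Subtype.ext F.el_f.symm, F.qr_el_eq] at hi
      exact absurd hi.2.2 (by simp)
    · exact h8
  obtain ⟨U', ha', hJ', hS⟩ := U.exists_signed_J hneg h8
  have hU'a : U'.a = F.ar ∨ U'.a = F.ar⁻¹ := by rwa [ha']
  obtain ⟨hc', -, hiff'⟩ := Lie.PSpFourThreeFull.inverse_cases hU'a
  have hrange : U'.φ.range = Subgroup.centralizer ({F.ar} : Set F.Lr) := U'.range_eq.trans hc'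
  -- the image of `E`
  obtain ⟨h, hh, hhJ⟩ := U'.conj_into_J (B := F.Jr) (hrange ▸ hJC) hJcard fun a ha b hb =>
    congrArg Subtype.val (hJc.is_comm.comm ⟨a, ha⟩ ⟨b, hb⟩)
  have hax : U'.centQ (0, 0, 1) ≤ Subgroup.normalizer (U'.J : Set F.Lr) := by
    obtain ⟨j₀, hj₀, hj⟩ : U'.q (0, 0, 1) ∈ F.Jr.map (MulAut.conj h).toMonoidHom := hhJ ▸ U'.q_mem _
    obtain ⟨b, hb, rfl⟩ := hj₀
    obtain ⟨v, hv⟩ := F.mem_E_iff.1 hb
    set v' : Four := ![v 0, v 1, 0, v 3]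
    have hbv : F.qr b = F.qr ⟨F.el v', F.el_Cr _⟩ := by
      rw [show b = ⟨F.el v, F.el_Cr v⟩ from Subtype.ext hv.symm, F.qr_el_eq]
      exact ⟨rfl, rfl, rfl⟩
    rw [hbv] at hj
    change h * _ * h⁻¹ = _ at hj
    have hq : qf v' ≠ 0 := by
      intro hq0
      have hv0 : v' ≠ 0 := by
        intro e0
        rw [show F.qr ⟨F.el v', F.el_Cr _⟩ = 1 from F.el_qr_one.2 (by rw [e0]; exact ⟨rfl, rfl, rfl⟩), mul_one,
          mul_inv_cancel] at hj
        exact absurd (U'.q_inj (hj.symm.trans U'.q_zero.symm)) (by decide)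
      obtain ⟨k, hk⟩ := hF.sing_conj hs rfl hq0 hv0
      have key : h * k * F.ar * (h * k)⁻¹ = U'.q (0, 0, 1) ∨ h * k * F.ar * (h * k)⁻¹ = (U'.q (0, 0, 1))⁻¹ := by
        rw [show h * k * F.ar * (h * k)⁻¹ = h * (k * F.ar * k⁻¹) * h⁻¹ by group, ← hj]
        exact hk.imp (fun e => by rw [e]) fun e => by rw [e, conj_inv]
      refine hS.axis_free (g := h * k) ?_
      rcases hU'a with e | e <;> rw [e]
      · exact key
      · rw [← conj_inv, inv_inj, inv_eq_iff_eq_inv]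
        exact key.symm
    intro x hx
    rw [Lie.PSpFourThreeFull.Conf.centQ, ← hj] at hx
    have hx' : h⁻¹ * x * h ∈ Subgroup.centralizer ({F.qr ⟨F.el v', F.el_Cr _⟩} : Set F.Lr) := by
      refine Subgroup.mem_centralizer_singleton_iff.2 ?_
      have h' := (Commute.conj_iff h⁻¹).2 (show Commute x (h * F.qr ⟨F.el v', F.el_Cr _⟩ * h⁻¹) from
        Subgroup.mem_centralizer_singleton_iff.1 hx)
      rw [inv_inv, show h⁻¹ * (h * F.qr ⟨F.el v', F.el_Cr _⟩ * h⁻¹) * h = F.qr ⟨F.el v', F.el_Cr _⟩ by group] at h'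
      exact h'.eq
    have hn := hF.cent_axis_norm hs rfl hq hx'
    refine Subgroup.mem_normalizer_fintype fun a ha => ?_
    rw [← hhJ] at ha ⊢
    obtain ⟨a₀, ha₀, rfl⟩ := ha
    refine ⟨h⁻¹ * x * h * a₀ * (h⁻¹ * x * h)⁻¹, (Subgroup.mem_normalizer_iff.1 hn _).1 ha₀, ?_⟩
    show h * (h⁻¹ * x * h * a₀ * (h⁻¹ * x * h)⁻¹) * h⁻¹ = x * (h * a₀ * h⁻¹) * x⁻¹
    group
  obtain ⟨V, hV1, hV2⟩ := hS.exists_char hax
  refine ⟨V, fun g hg => ?_, fun g hg => hV2 g ?_⟩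
  · obtain ⟨m, rfl⟩ : g ∈ U'.φ.range := hrange ▸ Subgroup.mem_centralizer_singleton_iff.2 hg
    exact hV1 m
  · rcases hU'a with e | e <;> rw [e]
    · exact hg
    · rw [← conj_inv, hg]

end Frame

end Loc

end Cfsg.Agent.Spor.OmegaEightThree
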