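import Cfsg.Agent.Lib.Spor.OmegaEightThree.QuotThree

/-!
A subgroup of index two of `C_G(r)/⟨r⟩` containing the centraliser of the image of `z` and fusing it to the
image of `f^{±1}` has no normal subgroup of index three.
-/

set_option autoImplicit false
set_option linter.unusedSectionVars false
set_option linter.style.haveILetI false
set_option maxHeartbeats 1000000
set_option maxRecDepth 100000

namespace Cfsg.Agent.Spor.OmegaEightThree

open Cfsg.Agent.Spor.PSLFourThree (com)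

local notation "C2" => Multiplicative (ZMod 2)

namespace Loc.Frame

variable {G : Type*} [Group G] [Finite G] {T : Loc G} {F : Frame T} (hF : F.Classified)
include hF

/-- The kernel of the character has no normal subgroup of index three. -/
theorem Classified.no_index_three_ker (V : F.Lr →* C2) (hV : ∀ g, g * F.ar = F.ar * g → V g = 1)
    {htC : F.t ∈ F.Cr} (htW : F.qr ⟨F.t, htC⟩ ∈ V.ker)
    (hk : ∃ k : F.Lr, V k = 1 ∧ (k * F.qr ⟨F.el ![0, 0, 0, 1], F.el_Cr _⟩ * k⁻¹ = F.ar ∨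
      k * F.qr ⟨F.el ![0, 0, 0, 1], F.el_Cr _⟩ * k⁻¹ = F.ar⁻¹)) :
    ¬ ∃ N : Subgroup V.ker, N.Normal ∧ N.index = 3 := by
  classical
  rintro ⟨N, hN, hidx⟩
  haveI : Fact (Nat.Prime 3) := ⟨Nat.prime_three⟩
  haveI : IsCyclic (V.ker ⧸ N) := isCyclic_of_prime_card (p := 3) (by rw [← Subgroup.index_eq_card, hidx])
  letI : CommGroup (V.ker ⧸ N) := IsCyclic.commGroup
  have htwo : ∀ x : V.ker ⧸ N, x * x = 1 → x = 1 := fun x h => by
    have h3 := pow_card_eq_one' (x := x)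
    rw [← Subgroup.index_eq_card, hidx, pow_succ, pow_two, h, one_mul] at h3
    exact h3
  set π : V.ker →* V.ker ⧸ N := QuotientGroup.mk' N with hπ
  have hC : ∀ g : F.Cr, (g : G) ∈ T.C → F.qr g ∈ V.ker := fun g hg => hV _ ((hF.cent_ar g).2 hg)
  set χ : Four → V.ker ⧸ N := fun v => π ⟨F.qr ⟨F.el v, F.el_Cr v⟩, hC _ (F.el_C v)⟩ with hχ
  have hadd : ∀ v w, χ (v + w) = χ v * χ w := fun v w => by
    simp only [hχ, ← map_mul]
    refine congrArg π (Subtype.ext ?_)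
    push_cast
    rw [← map_mul]
    exact congrArg F.qr (Subtype.ext (F.el_mul v w))
  have h0 : χ 0 = 1 := by
    have h := hadd 0 0
    rw [add_zero] at h
    exact right_eq_mul.1 h
  have hinv : ∀ v, χ (-v) = (χ v)⁻¹ := fun v => eq_inv_of_mul_eq_one_left (by rw [← hadd, neg_add_cancel, h0])
  have hconj : ∀ (g : F.Cr) (hg : F.qr g ∈ V.ker) (v w : Four), (g : G) * F.el v * (g : G)⁻¹ = F.el w → χ w = χ v := by
    intro g hg v w h
    have e : (⟨F.qr ⟨F.el w, F.el_Cr w⟩, hC _ (F.el_C w)⟩ : V.ker) =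
        ⟨F.qr g, hg⟩ * ⟨F.qr ⟨F.el v, F.el_Cr v⟩, hC _ (F.el_C v)⟩ * ⟨F.qr g, hg⟩⁻¹ := Subtype.ext (by
      push_cast
      rw [← map_inv, ← map_mul, ← map_mul]
      exact congrArg F.qr (Subtype.ext h.symm))
    simp only [hχ]
    rw [e, map_mul, map_mul, map_inv, mul_comm (π _), mul_inv_cancel_right]
  obtain ⟨q₁, hq₁, hU⟩ := hF.exists_U
  have hqr : q₁ ∈ F.Cr := F.mem_Cr.2 (mul_inv_eq_iff_eq_mul.1 (by
    have hr := hU ![0, 0, 1, 0]
    rwa [mU_fix_r, F.el_r] at hr))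
  have hqV : F.qr ⟨q₁, hqr⟩ ∈ V.ker := hC _ (T.Q_le_C hq₁)
  have hz : χ ![1, 0, 0, 0] = 1 := by
    have e := hconj ⟨q₁, hqr⟩ hqV ![0, 1, 0, 0] ![1, 1, 0, 0] (by rw [hU, mU_moves_n])
    rw [show (![1, 1, 0, 0] : Four) = ![1, 0, 0, 0] + ![0, 1, 0, 0] by simp, hadd] at e
    exact mul_eq_right.1 e
  have hn : χ ![0, 1, 0, 0] = 1 := by
    have e := hconj ⟨F.t, htC⟩ htW ![0, 1, 0, 0] (-![0, 1, 0, 0]) (by rw [F.el_neg, F.el_n]; exact F.comps.inv)
    rw [hinv] at e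
    exact htwo _ (inv_eq_iff_mul_eq_one.1 e)
  have hr : χ ![0, 0, 1, 0] = 1 := by
    simp only [hχ]
    rw [show (⟨F.qr ⟨F.el ![0, 0, 1, 0], F.el_Cr _⟩, hC _ (F.el_C _)⟩ : V.ker) = 1 from
      Subtype.ext (F.el_qr_one.2 ⟨rfl, rfl, rfl⟩), map_one]
  have hf : χ ![0, 0, 0, 1] = 1 := by
    obtain ⟨k, hkV, hk⟩ := hk
    obtain ⟨⟨g, hgC⟩, rfl⟩ := F.qr_surj k
    have e : π (⟨F.qr ⟨g, hgC⟩, hkV⟩ * ⟨F.qr ⟨F.el ![0, 0, 0, 1], F.el_Cr _⟩, hC _ (F.el_C _)⟩ *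
        ⟨F.qr ⟨g, hgC⟩, hkV⟩⁻¹) = χ ![0, 0, 0, 1] := by
      rw [map_mul, map_mul, map_inv, mul_comm (π _), mul_inv_cancel_right]
    rw [← e]
    have ea : (⟨F.qr ⟨F.el ![1, 0, 0, 0], F.el_Cr _⟩, hC _ (F.el_C _)⟩ : V.ker) = ⟨F.ar, hV _ rfl⟩ :=
      Subtype.ext (congrArg F.qr (Subtype.ext F.el_z))
    rcases hk with hk | hk
    · rw [show (_ * _ * _ : V.ker) = ⟨F.ar, hV _ rfl⟩ from Subtype.ext hk, ← ea]
      exact hz
    · rw [show (_ * _ * _ : V.ker) = ⟨F.ar, hV _ rfl⟩⁻¹ from Subtype.ext hk, map_inv, ← ea]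
      exact inv_eq_one.2 hz
  have hE : ∀ v, χ v = 1 := by
    intro v
    have hsm : ∀ (u : Four), χ u = 1 → ∀ a : ZMod 3, χ (a • u) = 1 := by
      intro u hu a
      rcases zmod3_cases a with rfl | rfl | rfl
      · rw [zero_smul, h0]
      · rw [one_smul, hu]
      · rw [neg_one_smul, hinv, hu, inv_one]
    rw [four_split v, hadd, hadd, hadd, hsm _ hz, hsm _ hn, hsm _ hr, hsm _ hf]
    simp
  have hq : π ⟨_, hqV⟩ = 1 := by
    have hA := hU.mul ((F.act_t.mul hU).mul F.act_t)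
    have hx : q₁ * (F.t * q₁ * F.t) ∈ F.E := hF.cent_E fun v => mul_inv_eq_iff_eq_mul.1 (by
      rw [hA]
      simp only [Function.comp_apply]
      congr 1
      rw [conjU_t]
      exact (four_eta v).symm)
    obtain ⟨y, hy⟩ := F.mem_E_iff.1 hx
    have e : χ y = π ⟨_, hqV⟩ * (π ⟨_, htW⟩ * π ⟨_, hqV⟩ * π ⟨_, htW⟩) := by
      simp only [hχ, ← map_mul]
      refine congrArg π (Subtype.ext ?_)
      push_cast
      rw [← map_mul, ← map_mul, ← map_mul]
      exact congrArg F.qr (Subtype.ext hy)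
    have ht2 : π ⟨_, htW⟩ = 1 := htwo _ (by
      rw [← map_mul, show (⟨_, htW⟩ : V.ker) * ⟨_, htW⟩ = 1 from Subtype.ext (by
        push_cast
        rw [← map_mul, show (⟨F.t, htC⟩ : F.Cr) * ⟨F.t, htC⟩ = 1 from Subtype.ext F.ht.sq, map_one]), map_one])
    rw [hE, ht2, one_mul, mul_one] at e
    exact htwo _ e.symm
  have hqE : q₁ ∉ F.E := fun h => by
    obtain ⟨v, rfl⟩ := F.mem_E_iff.1 h
    have h1 := hU ![0, 1, 0, 0]
    rw [mU_moves_n, F.el_comm, mul_inv_cancel_right] at h1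
    have := congrFun (F.el_inj h1) 0
    simp at this
  obtain ⟨-, hP⟩ := card_ext hU.mem (T.exp _ hq₁) hqE
  -- the preimage
  set W' : Subgroup F.Cr := V.ker.comap F.qr with hW'
  let f : W' →* V.ker ⧸ N := π.comp (MonoidHom.mk' (fun g => (⟨F.qr g.1, g.2⟩ : V.ker)) fun a b =>
    Subtype.ext (map_mul F.qr _ _))
  have hf' : Function.Surjective f := by
    intro x
    obtain ⟨⟨w, hw⟩, rfl⟩ := QuotientGroup.mk'_surjective N x
    obtain ⟨g, rfl⟩ := F.qr_surj w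
    exact ⟨⟨g, hw⟩, rfl⟩
  have hPN : F.ext q₁ ≤ (f.ker.map W'.subtype).map F.Cr.subtype := by
    refine sup_le (fun x hx => ?_) (Subgroup.zpowers_le.2 ⟨⟨q₁, hqr⟩, ⟨⟨⟨q₁, hqr⟩, hqV⟩, hq, rfl⟩, rfl⟩)
    obtain ⟨v, rfl⟩ := F.mem_E_iff.1 hx
    exact ⟨⟨F.el v, F.el_Cr v⟩, ⟨⟨⟨F.el v, F.el_Cr v⟩, hC _ (F.el_C v)⟩, hE v, rfl⟩, rfl⟩
  have hd : 3 ^ 6 ∣ Nat.card W' := by
    rw [f.ker.card_eq_card_quotient_mul_card_subgroup,
      Nat.card_congr (QuotientGroup.quotientKerEquivOfSurjective f hf').toEquiv, ← Subgroup.index_eq_card N, hidx,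
      pow_succ']
    refine mul_dvd_mul_left 3 ?_
    have := Subgroup.card_dvd_of_le hPN
    rwa [hP, Subgroup.card_map_of_injective F.Cr.subtype_injective,
      Subgroup.card_map_of_injective W'.subtype_injective] at this
  obtain ⟨P, hP⟩ := Sylow.exists_subgroup_card_pow_prime 3 hd
  have h := card_le_cent (T := T) F.r_cube (fun e => F.r_notZ (by rw [e]; exact one_mem _))
    (by rw [← F.el_r]; exact hF.not_isZ (by decide))
    (((IsPGroup.of_card hP).map W'.subtype).map F.Cr.subtype) (Subgroup.map_subtype_le _)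
  rw [Subgroup.card_map_of_injective F.Cr.subtype_injective, Subgroup.card_map_of_injective W'.subtype_injective,
    hP] at h
  norm_num at h

end Loc.Frame

end Cfsg.Agent.Spor.OmegaEightThree
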