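import Cfsg.Agent.Lib.Spor.OmegaEightThree.Double.CentR
import Cfsg.Agent.Lib.Spor.OmegaEightThree.D.Cent
import Cfsg.Agent.Lib.Spor.OmegaEightThree.Double.CentRIndex

/-!
If `C/Q ≅ SL(2,3) × 2`, the quaternion factors at `z` and `f` in `C_G(r) ∩ C_G(t)` commute, meet in `⟨t⟩` and
give, with the normaliser of the plane of `z, r, f`, the whole of it.
-/

set_option autoImplicit false
set_option linter.unusedSectionVars false
set_option linter.style.haveILetI false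
set_option maxHeartbeats 1000000
set_option maxRecDepth 100000

namespace Cfsg.Agent.Spor.OmegaEightThree

open Cfsg.Agent.Spor.PSLFourThree (com)

local notation "SL2" => Matrix.SpecialLinearGroup (Fin 2) (ZMod 3)
local notation "C2" => Multiplicative (ZMod 2)

/-- Isomorphic groups share the shape of the core. -/
theorem shape_equiv {X Y : Type*} [Group X] [Group Y] [Finite X] [Finite Y] (e : X ≃* Y)
    (h1 : Cfsg.IsExtraspecial 3 (Cfsg.pCore 3 X)) (h2 : Nat.card (Cfsg.pCore 3 X) = 27)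
    (h3 : ∀ r ∈ Cfsg.pCore 3 X, r ^ 3 = 1) (h4 : Nonempty (X ⧸ Cfsg.pCore 3 X ≃* SL2)) :
    Cfsg.IsExtraspecial 3 (Cfsg.pCore 3 Y) ∧ Nat.card (Cfsg.pCore 3 Y) = 27 ∧
      (∀ r ∈ Cfsg.pCore 3 Y, r ^ 3 = 1) ∧ Nonempty (Y ⧸ Cfsg.pCore 3 Y ≃* SL2) := by
  haveI : Fact (Nat.Prime 3) := ⟨Nat.prime_three⟩
  have hmap := Cfsg.Agent.Fusion.map_pCore_equiv (p := 3) e
  refine ⟨Lie.PSpFourThreeFull.extraspecial_equiv (((Cfsg.pCore 3 X).equivMapOfInjective e.toMonoidHom e.injective).trans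
    (MulEquiv.subgroupCongr hmap)) h1, ?_, ?_, ?_⟩
  · rw [← hmap, Subgroup.card_map_of_injective (show Function.Injective e.toMonoidHom from e.injective), h2]
  · intro r hr
    rw [← hmap] at hr
    obtain ⟨a, ha, rfl⟩ := hr
    rw [← map_pow, h3 a ha, map_one]
  · obtain ⟨e4⟩ := h4
    haveI : (Cfsg.pCore 3 Y).Normal := Subgroup.sSup_normal _ fun N hN => hN.1
    exact ⟨(QuotientGroup.congr _ _ e hmap).symm.trans e4⟩

namespace Loc

theorem plane_point : ∀ v : Four, v 2 = 0 → qf v = 0 → ∀ c : ZMod 3, qf (v + c • ![0, 0, 1, 0]) = 0 → c = 0 := by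
  decide +kernel

variable {G : Type*} [Group G] [Finite G] {T : Loc G}

namespace Frame

/-- An element of exponent four of `C_G(t) ∩ C_G(r)` centralising a point. -/
structure Quat (F : Frame T) (v : Four) (g : G) : Prop where
  comm_t : g * F.t = F.t * g
  comm_v : g * F.el v = F.el v * g
  comm_r : g * F.r = F.r * g
  four : g ^ 4 = 1

variable {F : Frame T}

theorem Quat.mem {v : Four} {g : G} (h : F.Quat v g) : g ∈ F.Cr := F.mem_Cr.2 h.comm_r

variable (hF : F.Classified)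
include hF

/-- Lifts from `C_G(r)/⟨r⟩`. -/
theorem Classified.lift_four {v : Four} (hv : v 2 = 0) (hq : qf v = 0) (htC : F.t ∈ F.Cr) {x : F.Lr}
    (h1 : x * F.qr ⟨F.t, htC⟩ = F.qr ⟨F.t, htC⟩ * x)
    (h2 : x * F.qr ⟨F.el v, F.el_Cr v⟩ = F.qr ⟨F.el v, F.el_Cr v⟩ * x) (h4 : x ^ 4 = 1) :
    ∃ g, ∃ hg : F.Quat v g, F.qr ⟨g, hg.mem⟩ = x := by
  obtain ⟨⟨g, hgC⟩, rfl⟩ := F.qr_surj x
  have shift : ∀ s : F.Cr, F.qr ⟨g, hgC⟩ * F.qr s = F.qr s * F.qr ⟨g, hgC⟩ →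
      ∃ c : ZMod 3, g * s * g⁻¹ = s * F.r ^ c.val := by
    intro s hs
    have e : F.qr (s⁻¹ * (⟨g, hgC⟩ * s * ⟨g, hgC⟩⁻¹)) = 1 := by
      rw [map_mul, map_mul, map_mul, map_inv, map_inv, hs, mul_inv_cancel_right, inv_mul_cancel]
    obtain ⟨c, hc⟩ := F.qr_eq_one.1 e
    push_cast at hc
    exact ⟨c, by rw [← hc, mul_inv_cancel_left]⟩
  have hgt : Commute g F.t := by
    obtain ⟨c, hc⟩ := shift ⟨F.t, htC⟩ h1
    have hrt : Commute F.t (F.r ^ c.val) := (show Commute F.t F.r from F.comps.cent).pow_right _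
    have h := congrArg (· ^ 2) hc
    simp only [conj_pow, hrt.mul_pow, pow_two F.t, F.ht.sq, one_mul, mul_one, mul_inv_cancel, ← pow_mul] at h
    have h3 : F.r ^ (c.val * 3) = 1 := by rw [mul_comm, pow_mul, F.r_cube, one_pow]
    rw [show c.val * 3 = c.val * 2 + c.val by ring, pow_add, ← h, one_mul] at h3
    rw [h3, mul_one] at hc
    exact mul_inv_eq_iff_eq_mul.1 hc
  have hgv : Commute g (F.el v) := by
    obtain ⟨c, hc⟩ := shift ⟨F.el v, F.el_Cr v⟩ h2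
    simp only at hc
    have e : F.el v * F.r ^ c.val = F.el (v + c • ![0, 0, 1, 0]) := by rw [F.el_mul, F.el_smul, F.el_r]
    rw [e] at hc
    have hc0 := plane_point v hv hq c (by rw [← hF.qf_conj hc, hq])
    rw [hc0, zero_smul, add_zero] at hc
    exact mul_inv_eq_iff_eq_mul.1 hc
  obtain ⟨c, hc⟩ := F.qr_eq_one.1 (show F.qr (⟨g, hgC⟩ ^ 4) = 1 by rw [map_pow]; exact h4)
  push_cast at hc
  have hgr : Commute g F.r := F.mem_Cr.1 hgC
  refine ⟨g * F.r ^ (2 * c.val), ⟨?_, ?_, ?_, ?_⟩, ?_⟩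
  · exact (hgt.mul_left ((show Commute F.r F.t from F.comps.cent.symm).pow_left _)).eq
  · exact (hgv.mul_left ((show Commute F.r (F.el v) from (F.mem_Cr.1 (F.el_Cr v)).symm).pow_left _)).eq
  · exact (hgr.mul_left ((Commute.refl F.r).pow_left _)).eq
  · rw [(hgr.pow_right _).mul_pow, hc, ← pow_mul, ← pow_add, show c.val + 2 * c.val * 4 = 3 * (3 * c.val) by ring,
      pow_mul, F.r_cube, one_pow]
  · rw [← inv_mul_eq_one, ← map_inv, ← map_mul, F.qr_eq_one]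
    refine ⟨-((2 * c.val : ℕ) : ZMod 3), ?_⟩
    push_cast
    rw [mul_inv_rev, inv_mul_cancel_right, ← zpow_natCast F.r (2 * c.val), ← zpow_neg,
      ← pow_val_intCast F.r_cube (-((2 * c.val : ℕ) : ℤ))]
    push_cast
    rfl

variable {s : G} (hs : F.IsSig s)
include hs

/-- The structure of `C_G(r) ∩ C_G(t)`. -/
theorem Classified.r_facts : ∃ V : F.Cr →* C2,
    (∀ g : F.Cr, (g : G) * T.z = T.z * g → V g = 1) ∧
    (∀ g : F.Cr, (g : G) * F.f = F.f * g → V g = 1) ∧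
    (∀ g : F.Cr, (g : G) * T.z * (g : G)⁻¹ = T.z⁻¹ → V g ≠ 1) ∧
    (∀ a b, F.Quat ![1, 0, 0, 0] a → F.Quat ![0, 0, 0, 1] b → a * b = b * a) ∧
    (∀ g, F.Quat ![1, 0, 0, 0] g → F.Quat ![0, 0, 0, 1] g → g = 1 ∨ g = F.t) ∧
    ∀ g, g * F.t = F.t * g → g * F.r = F.r * g → ∃ a b k, F.Quat ![1, 0, 0, 0] a ∧ F.Quat ![0, 0, 0, 1] b ∧
      g = a * b * k ∧ k * F.t = F.t * k ∧ ∀ v : Four, v 1 = 0 → ∃ v', v' 1 = 0 ∧ k * F.el v * k⁻¹ = F.el v' := by
  classical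
  obtain ⟨V, hV1, hV2⟩ := hF.exists_char_r hs
  obtain ⟨u, hur, hut, hu⟩ := hF.exists_inv hs
  set uL := F.qr ⟨u, hur⟩ with huL
  have hua : uL * F.ar * uL⁻¹ = F.ar⁻¹ := by
    rw [huL, ar, ← map_inv, ← map_mul, ← map_mul, ← map_inv]
    refine congrArg F.qr (Subtype.ext ?_)
    show u * T.z * u⁻¹ = T.z⁻¹
    rw [← F.el_z, hu, ← F.el_neg]
    congr 1
    decide
  have hVu : V uL ≠ 1 := hV2 _ hua
  have htC : F.t ∈ F.Cr := F.mem_Cr.2 F.comps.cent
  set t' := F.qr ⟨F.t, htC⟩ with ht'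
  set a' := F.qr ⟨F.el ![1, 0, 0, 0], F.el_Cr _⟩ with ha'
  set w' := F.qr ⟨F.el ![0, 0, 0, 1], F.el_Cr _⟩ with hw'
  have haar : a' = F.ar := congrArg F.qr (Subtype.ext F.el_z)
  have hta : t' * F.ar = F.ar * t' := ((hF.cent_ar ⟨F.t, htC⟩).2 F.ht.mem)
  -- an element of the kernel carrying `f` to `z^{±1}`
  obtain ⟨k, hkV, hk⟩ : ∃ k : F.Lr, V k = 1 ∧ (k * w' * k⁻¹ = F.ar ∨ k * w' * k⁻¹ = F.ar⁻¹) := by
    obtain ⟨k, hk, s', hs', hkf⟩ := hF.exists_K_fix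
    have e : F.qr ⟨k, hk⟩ * w' * (F.qr ⟨k, hk⟩)⁻¹ = F.ar ∨ F.qr ⟨k, hk⟩ * w' * (F.qr ⟨k, hk⟩)⁻¹ = F.ar⁻¹ := by
      rw [hw', ← haar, ha', ← map_inv, ← map_mul, ← map_mul, ← map_inv]
      rcases zmod3_cases s' with e | e | e
      · exact absurd e hs'
      · left
        refine congrArg F.qr (Subtype.ext ?_)
        show k * F.el ![0, 0, 0, 1] * k⁻¹ = F.el ![1, 0, 0, 0]
        rw [F.el_f, hkf, e]
      · right
        refine congrArg F.qr (Subtype.ext ?_)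
        show k * F.el ![0, 0, 0, 1] * k⁻¹ = (F.el ![1, 0, 0, 0])⁻¹
        rw [F.el_f, hkf, e, ← F.el_neg]
        congr 1
        decide
    by_cases hV : V (F.qr ⟨k, hk⟩) = 1
    · exact ⟨_, hV, e⟩
    · refine ⟨F.qr ⟨k, hk⟩ * uL, by rw [map_mul]; exact mult_two_ne _ _ hV hVu, ?_⟩
      have huw : uL * w' * uL⁻¹ = w'⁻¹ := by
        rw [huL, hw', ← map_inv, ← map_mul, ← map_mul, ← map_inv]
        refine congrArg F.qr (Subtype.ext ?_)
        show u * F.el ![0, 0, 0, 1] * u⁻¹ = (F.el ![0, 0, 0, 1])⁻¹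
        rw [hu, ← F.el_neg]
        congr 1
        decide
      rw [show F.qr ⟨k, hk⟩ * uL * w' * (F.qr ⟨k, hk⟩ * uL)⁻¹ =
        F.qr ⟨k, hk⟩ * (uL * w' * uL⁻¹) * (F.qr ⟨k, hk⟩)⁻¹ by group, huw, ← conj_inv]
      rcases e with e | e <;> rw [e]
      · exact Or.inr rfl
      · exact Or.inl (inv_inv _)
  have hVw : ∀ x : F.Lr, x * w' = w' * x → V x = 1 := by
    intro x hx
    have h := (Commute.conj_iff k).2 (show Commute x w' from hx)
    have h2 : Commute (k * x * k⁻¹) F.ar := by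
      rcases hk with e | e <;> rw [e] at h
      · exact h
      · exact inv_inv F.ar ▸ h.inv_right
    have h3 := hV1 _ h2.eq
    rwa [map_mul, map_mul, map_inv, hkV, one_mul, inv_one, mul_one] at h3
  -- the kernel
  set W := V.ker with hW
  obtain ⟨hJC, hJc, hJe, hJcard⟩ := hF.J_facts
  have hJW : F.Jr ≤ W := fun x hx => hV1 x (Subgroup.mem_centralizer_singleton_iff.1 (hJC hx))
  have haW : F.ar ∈ W := hV1 _ rfl
  have htW : t' ∈ W := hV1 _ hta
  have hwW : w' ∈ W := hVw _ rfl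
  set aW : W := ⟨F.ar, haW⟩
  let eC : Subgroup.centralizer ({F.ar} : Set F.Lr) ≃* Subgroup.centralizer ({aW} : Set W) :=
    { toFun := fun x => ⟨⟨x.1, hV1 _ (Subgroup.mem_centralizer_singleton_iff.1 x.2)⟩,
        Subgroup.mem_centralizer_singleton_iff.2 (Subtype.ext (Subgroup.mem_centralizer_singleton_iff.1 x.2))⟩
      invFun := fun x => ⟨x.1.1, Subgroup.mem_centralizer_singleton_iff.2
        (congrArg Subtype.val (Subgroup.mem_centralizer_singleton_iff.1 x.2))⟩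
      left_inv := fun _ => rfl
      right_inv := fun _ => rfl
      map_mul' := fun _ _ => rfl }
  obtain ⟨c1, c2, c3, c4⟩ := hF.core_facts
  obtain ⟨d1, d2, d3, ⟨d4⟩⟩ := shape_equiv eC c1 c2 c3 c4
  have hsig : ∀ K : Subgroup W, (Nat.card K).Coprime 3 →
      (∀ j ∈ F.Jr.subgroupOf W, K.map (MulAut.conj j).toMonoidHom = K) → K = ⊥ := by
    intro K hK hKJ
    rw [← Subgroup.map_eq_bot_iff_of_injective K W.subtype_injective]
    refine hF.J_signalizer _ (by rwa [Subgroup.card_map_of_injective W.subtype_injective]) fun j hj => ?_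
    conv_rhs => rw [← hKJ ⟨j, hJW hj⟩ (Subgroup.mem_subgroupOf.2 hj), Subgroup.map_map]
    rw [Subgroup.map_map]
    rfl
  have hidx : ¬ ∃ N : Subgroup W, N.Normal ∧ N.index = 3 := hF.no_index_three_ker V hV1 htW ⟨k, hkV, hk⟩
  have hwz : (⟨w', hwW⟩ : W) ∉ Subgroup.zpowers aW := by
    rw [Subgroup.mem_zpowers_iff]
    rintro ⟨i, hi⟩
    have h := congrArg Subtype.val hi
    push_cast at h
    have e : F.ar ^ i = F.qr ⟨F.el ![(i : ZMod 3), 0, 0, 0], F.el_Cr _⟩ := by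
      rw [ar, ← map_zpow]
      refine congrArg F.qr (Subtype.ext ?_)
      push_cast
      rw [← pow_val_intCast T.z_cube i]
      simp [el]
    rw [e, hw', F.qr_el_eq] at h
    exact absurd h.2.2 (by simp)
  have ht1 : (⟨t', htW⟩ : W) ≠ 1 := fun e => by
    obtain ⟨c, hc⟩ := F.qr_eq_one.1 (congrArg Subtype.val e)
    have h1 := ((T.ρker ⟨F.t, F.ht.mem⟩).2 (show F.t ∈ T.Q by
      rw [show F.t = F.r ^ c.val from hc]; exact pow_mem F.r_mem _)).1
    rw [F.ht.rho] at h1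
    exact absurd h1 (by decide +kernel)
  obtain ⟨hcomm, hsplit, hmeet⟩ := D.cent_invol aW (by rw [← F.order_ar, ← Subgroup.orderOf_coe]) _ rfl d1 d2 d3 d4
    (F.Jr.subgroupOf W) (fun j hj => Subgroup.mem_centralizer_singleton_iff.2 (Subtype.ext
      (Subgroup.mem_centralizer_singleton_iff.1 (hJC hj))))
    ⟨⟨fun a b => Subtype.ext (Subtype.ext (congrArg (Subtype.val : F.Jr → F.Lr)
      (hJc.is_comm.comm ⟨_, a.2⟩ ⟨_, b.2⟩)))⟩⟩
    (fun j hj => Subtype.ext (by simpa using hJe _ hj))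
    (by rw [Nat.card_congr (Subgroup.subgroupOfEquivOfLe hJW).toEquiv, hJcard]) hsig
    (fun g hg => hV2 _ (congrArg Subtype.val hg) g.2) hidx
    (t := ⟨t', htW⟩) (Subtype.ext (by
      show t' * t' = 1
      rw [ht', ← map_mul, show (⟨F.t, htC⟩ : F.Cr) * ⟨F.t, htC⟩ = 1 from Subtype.ext F.ht.sq, map_one]))
    ht1 (Subtype.ext hta) (w := ⟨w', hwW⟩) (Subgroup.mem_subgroupOf.2 (Subgroup.mem_map_of_mem _ (F.el_mem _)))
    (Subtype.ext (by
      show t' * w' = w' * t'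
      rw [ht', hw', ← map_mul, ← map_mul]
      refine congrArg F.qr (Subtype.ext ?_)
      show F.t * F.el ![0, 0, 0, 1] = F.el ![0, 0, 0, 1] * F.t
      rw [F.el_f, F.f_t])) hwz ⟨⟨k, hkV⟩, hk.imp (fun e => Subtype.ext e) fun e => Subtype.ext e⟩
  -- images and lifts
  have himg : ∀ v g (hg : F.Quat v g), F.qr ⟨g, hg.mem⟩ * t' = t' * F.qr ⟨g, hg.mem⟩ ∧
      F.qr ⟨g, hg.mem⟩ * F.qr ⟨F.el v, F.el_Cr v⟩ = F.qr ⟨F.el v, F.el_Cr v⟩ * F.qr ⟨g, hg.mem⟩ ∧
      F.qr ⟨g, hg.mem⟩ ^ 4 = 1 := fun v g hg => by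
    rw [ht', ← map_mul, ← map_mul, ← map_mul, ← map_mul, ← map_pow]
    exact ⟨congrArg F.qr (Subtype.ext hg.comm_t), congrArg F.qr (Subtype.ext hg.comm_v),
      by rw [show (⟨g, hg.mem⟩ : F.Cr) ^ 4 = 1 from Subtype.ext hg.four, map_one]⟩
  have hRa : ∀ g (hg : F.Quat ![1, 0, 0, 0] g), ∃ x : W, (x : F.Lr) = F.qr ⟨g, hg.mem⟩ ∧ x ∈ D.R ⟨t', htW⟩ aW := by
    intro g hg
    obtain ⟨e1, e2, e3⟩ := himg _ g hg
    rw [← ha', haar] at e2
    exact ⟨⟨_, hV1 _ e2⟩, rfl, Subtype.ext e1, Subtype.ext e2, Subtype.ext e3⟩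
  have hRw : ∀ g (hg : F.Quat ![0, 0, 0, 1] g), ∃ x : W, (x : F.Lr) = F.qr ⟨g, hg.mem⟩ ∧
      x ∈ D.R ⟨t', htW⟩ ⟨w', hwW⟩ := by
    intro g hg
    obtain ⟨e1, e2, e3⟩ := himg _ g hg
    exact ⟨⟨_, hVw _ e2⟩, rfl, Subtype.ext e1, Subtype.ext e2, Subtype.ext e3⟩
  refine ⟨V.comp F.qr, fun g hg => ?_, fun g hg => ?_, fun g hg => ?_, fun a b ha hb => ?_, fun g hga hgb => ?_,
    fun g hgt hgr => ?_⟩
  · exact hV1 _ ((hF.cent_ar g).2 (T.mem_C.2 hg))
  · refine hVw _ ?_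
    rw [hw', ← map_mul, ← map_mul]
    exact congrArg F.qr (Subtype.ext (by
      show (g : G) * F.el ![0, 0, 0, 1] = F.el ![0, 0, 0, 1] * g
      rw [F.el_f, hg]))
  · refine hV2 _ ?_
    rw [ar, ← map_inv, ← map_mul, ← map_mul, ← map_inv]
    exact congrArg F.qr (Subtype.ext hg)
  · obtain ⟨x, hx, hxR⟩ := hRa a ha
    obtain ⟨y, hy, hyR⟩ := hRw b hb
    have h := congrArg Subtype.val (hcomm x hxR y hyR)
    push_cast at h
    rw [hx, hy] at h
    have h1 : F.qr (⟨a, ha.mem⟩ * ⟨b, hb.mem⟩ * ⟨a, ha.mem⟩⁻¹ * ⟨b, hb.mem⟩⁻¹) = 1 := by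
      rw [map_mul, map_mul, map_mul, map_inv, map_inv, h, mul_inv_cancel_right, mul_inv_cancel]
    obtain ⟨c, hc⟩ := F.qr_eq_one.1 h1
    push_cast at hc
    have h2 : a * b * a⁻¹ = F.r ^ c.val * b := by rw [← hc, inv_mul_cancel_right]
    have hrb : Commute (F.r ^ c.val) b := (show Commute b F.r from hb.comm_r).symm.pow_left _
    have h4 := congrArg (· ^ 4) h2
    simp only [conj_pow, hrb.mul_pow, hb.four, mul_one, mul_inv_cancel, ← pow_mul] at h4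
    have hc0 : F.r ^ c.val = 1 := by
      have : F.r ^ (c.val * 4) = F.r ^ c.val := by
        rw [show c.val * 4 = 3 * c.val + c.val by ring, pow_add, pow_mul, F.r_cube, one_pow, one_mul]
      rw [← this, ← h4]
    rw [hc0, one_mul] at h2
    exact mul_inv_eq_iff_eq_mul.1 h2
  · obtain ⟨x, hx, hxR⟩ := hRa g hga
    obtain ⟨y, hy, hyR⟩ := hRw g hgb
    obtain rfl : x = y := Subtype.ext (hx.trans hy.symm)
    have hmem : x ∈ ({1, ⟨t', htW⟩} : Set W) := hmeet ▸ (⟨hxR, hyR⟩ : x ∈ D.R ⟨t', htW⟩ aW ∩ D.R ⟨t', htW⟩ ⟨w', hwW⟩)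
    have hfour : ∀ (h : G) (c : ZMod 3), h ^ 4 = 1 → h = F.r ^ c.val → h = 1 := by
      intro h c h4 e
      rw [e]
      rw [e, ← pow_mul, show c.val * 4 = 3 * c.val + c.val by ring, pow_add, pow_mul, F.r_cube, one_pow,
        one_mul] at h4
      exact h4
    rcases hmem with e | e
    · have h1 : F.qr ⟨g, hga.mem⟩ = 1 := by rw [← hx, e]; rfl
      obtain ⟨c, hc⟩ := F.qr_eq_one.1 h1
      exact Or.inl (hfour g c hga.four hc)
    · have h1 : F.qr (⟨g, hga.mem⟩ * ⟨F.t, htC⟩) = 1 := by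
        rw [map_mul, ← hx, show x = (⟨t', htW⟩ : W) from e]
        show t' * t' = 1
        rw [ht', ← map_mul, show (⟨F.t, htC⟩ : F.Cr) * ⟨F.t, htC⟩ = 1 from Subtype.ext F.ht.sq, map_one]
      obtain ⟨c, hc⟩ := F.qr_eq_one.1 h1
      push_cast at hc
      have h4 : (g * F.t) ^ 4 = 1 := by
        rw [(show Commute g F.t from hga.comm_t).mul_pow, hga.four, one_mul, show 4 = 2 * 2 from rfl, pow_mul,
          pow_two F.t, F.ht.sq, one_pow]
      refine Or.inr ?_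
      rw [← mul_inv_eq_one, inv_eq_of_mul_eq_one_right F.ht.sq]
      exact hfour _ c h4 hc
  · have hgC : g ∈ F.Cr := F.mem_Cr.2 hgr
    set x := F.qr ⟨g, hgC⟩ with hx
    have hxt : x * t' = t' * x := by
      rw [hx, ht', ← map_mul, ← map_mul]; exact congrArg F.qr (Subtype.ext hgt)
    have hut' : uL * t' = t' * uL := by
      rw [huL, ht', ← map_mul, ← map_mul]; exact congrArg F.qr (Subtype.ext hut)
    set P := Subgroup.zpowers F.ar ⊔ Subgroup.zpowers w' with hP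
    have hPel : ∀ p, p ∈ P ↔ ∃ v : Four, v 1 = 0 ∧ F.qr ⟨F.el v, F.el_Cr v⟩ = p := by
      let P' : Subgroup F.Lr :=
        { carrier := {p | ∃ v : Four, v 1 = 0 ∧ F.qr ⟨F.el v, F.el_Cr v⟩ = p}
          one_mem' := ⟨0, rfl, F.el_qr_one.2 ⟨rfl, rfl, rfl⟩⟩
          mul_mem' := by
            rintro _ _ ⟨v, hv, rfl⟩ ⟨w, hw, rfl⟩
            refine ⟨v + w, by simp [hv, hw], ?_⟩
            rw [← map_mul]
            exact congrArg F.qr (Subtype.ext (F.el_mul v w))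
          inv_mem' := by
            rintro _ ⟨v, hv, rfl⟩
            refine ⟨-v, by simp [hv], ?_⟩
            rw [← map_inv]
            exact congrArg F.qr (Subtype.ext (F.el_neg v)) }
      refine fun p => ⟨fun hp => (sup_le (Subgroup.zpowers_le.2 ⟨_, rfl, haar⟩)
        (Subgroup.zpowers_le.2 ⟨_, rfl, rfl⟩) : P ≤ P') hp, ?_⟩
      rintro ⟨v, hv, rfl⟩
      have e : (⟨F.el v, F.el_Cr v⟩ : F.Cr) = ⟨F.el ![1, 0, 0, 0], F.el_Cr _⟩ ^ (v 0).val *
          ⟨F.el ![0, 0, 1, 0], F.el_Cr _⟩ ^ (v 2).val * ⟨F.el ![0, 0, 0, 1], F.el_Cr _⟩ ^ (v 3).val :=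
        Subtype.ext (by
          push_cast
          rw [← F.el_smul, ← F.el_smul, ← F.el_smul, ← F.el_mul, ← F.el_mul]
          congr 1
          funext i
          fin_cases i <;> simp [hv])
      rw [e, map_mul, map_mul, map_pow, map_pow, map_pow, ← ha', ← hw', haar,
        show F.qr ⟨F.el ![0, 0, 1, 0], F.el_Cr _⟩ = 1 from F.el_qr_one.2 ⟨rfl, rfl, rfl⟩, one_pow, mul_one]
      exact mul_mem (Subgroup.mem_sup_left (pow_mem (Subgroup.mem_zpowers _) _))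
        (Subgroup.mem_sup_right (pow_mem (Subgroup.mem_zpowers _) _))
    -- the factors
    obtain ⟨ε, hεV, hεt, hεP⟩ : ∃ ε : F.Lr, V (x * ε) = 1 ∧ ε * t' = t' * ε ∧ ∀ p ∈ P, ε⁻¹ * p * ε ∈ P := by
      by_cases hV : V x = 1
      · exact ⟨1, by rw [mul_one, hV], by simp, fun p hp => by simpa using hp⟩
      refine ⟨uL, by rw [map_mul]; exact mult_two_ne _ _ hV hVu, hut', fun p hp => ?_⟩
      obtain ⟨v, hv, rfl⟩ := (hPel p).1 hp
      refine (hPel _).2 ⟨negR v, by simp [negR, hv], ?_⟩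
      rw [huL, ← map_inv, ← map_mul, ← map_mul]
      refine congrArg F.qr (Subtype.ext ?_)
      show F.el (negR v) = u⁻¹ * F.el v * u
      have h := hu (negR v)
      rw [show negR (negR v) = v by funext i; fin_cases i <;> simp [negR]] at h
      rw [← h]
      group
    obtain ⟨a₁, ha₁, b₁, hb₁, k₁, he, hk₁t, hk₁⟩ := hsplit ⟨x * ε, hεV⟩ (Subtype.ext
      ((show Commute x t' from hxt).mul_left hεt).eq)
    obtain ⟨a, ha, hae⟩ := hF.lift_four (v := ![1, 0, 0, 0]) rfl (by decide) htC (x := (a₁ : F.Lr))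
      (congrArg Subtype.val ha₁.1) (by rw [← ha', haar]; exact congrArg Subtype.val ha₁.2.1)
      (congrArg Subtype.val ha₁.2.2)
    obtain ⟨b, hb, hbe⟩ := hF.lift_four (v := ![0, 0, 0, 1]) rfl (by decide) htC (x := (b₁ : F.Lr))
      (congrArg Subtype.val hb₁.1) (congrArg Subtype.val hb₁.2.1) (congrArg Subtype.val hb₁.2.2)
    have hab : a * b ∈ F.Cr := mul_mem ha.mem hb.mem
    refine ⟨a, b, (a * b)⁻¹ * g, ha, hb, by group, ?_, fun v hv => ?_⟩
    · exact (((show Commute a F.t from ha.comm_t).mul_left hb.comm_t).inv_left.mul_left hgt).eq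
    · have hK : F.qr ⟨(a * b)⁻¹ * g, mul_mem (inv_mem hab) hgC⟩ = (k₁ : F.Lr) * ε⁻¹ := by
        rw [show (⟨(a * b)⁻¹ * g, mul_mem (inv_mem hab) hgC⟩ : F.Cr) =
          (⟨a, ha.mem⟩ * ⟨b, hb.mem⟩)⁻¹ * ⟨g, hgC⟩ from rfl, map_mul, map_inv, map_mul, hae, hbe, ← hx]
        have h := congrArg Subtype.val he
        push_cast at h
        rw [eq_mul_inv_iff_mul_eq, mul_assoc, h]
        group
      set p := F.qr ⟨F.el v, F.el_Cr v⟩
      have hp : p ∈ P := (hPel p).2 ⟨v, hv, rfl⟩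
      have hPW : ∀ q ∈ P, q ∈ W := fun q hq =>
        (sup_le (Subgroup.zpowers_le.2 haW) (Subgroup.zpowers_le.2 hwW) : P ≤ W) hq
      have hq := hεP p hp
      have h1 := hk₁ ⟨ε⁻¹ * p * ε, hPW _ hq⟩ (by
        have : P.subgroupOf W = Subgroup.zpowers aW ⊔ Subgroup.zpowers (⟨w', hwW⟩ : W) := by
          refine Subgroup.map_injective W.subtype_injective ?_
          rw [Subgroup.map_sup, MonoidHom.map_zpowers, MonoidHom.map_zpowers, Subgroup.subgroupOf_map_subtype,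
            inf_eq_left.2 fun q hq => hPW q hq]
          rfl
        rw [← this]
        exact hq)
      have h2 : (k₁ : F.Lr) * (ε⁻¹ * p * ε) * (k₁ : F.Lr)⁻¹ ∈ P :=
        (Subgroup.map_sup _ _ W.subtype).trans (by rw [MonoidHom.map_zpowers, MonoidHom.map_zpowers]; rfl) |>.le
          (Subgroup.mem_map_of_mem W.subtype h1)
      obtain ⟨v', hv', he'⟩ := (hPel _).1 h2
      rw [show (k₁ : F.Lr) * (ε⁻¹ * p * ε) * (k₁ : F.Lr)⁻¹ = (k₁ : F.Lr) * ε⁻¹ * p * ((k₁ : F.Lr) * ε⁻¹)⁻¹ by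
        group, ← hK, ← map_inv, ← map_mul, ← map_mul, ← inv_mul_eq_one, ← map_inv, ← map_mul, F.qr_eq_one] at he'
      obtain ⟨c, hc⟩ := he'
      push_cast at hc
      refine ⟨v' + c • ![0, 0, 1, 0], by simp [hv'], ?_⟩
      rw [F.el_mul, F.el_smul, F.el_r, ← hc, mul_inv_cancel_left]

end Frame

end Loc

end Cfsg.Agent.Spor.OmegaEightThree
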