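import Cfsg.Agent.Lib.Spor.OmegaEightThree.Double.Bounds
import Cfsg.Agent.Lib.Solv.SetMul

/-!
The groups `P₀ = Y⟨a,b,c⟩` and `P = P₀⟨σ⟩`: the normaliser of `P` normalises `Y` and centralises `t`.
-/

set_option autoImplicit false
set_option linter.unusedSectionVars false
set_option linter.style.haveILetI false
set_option maxHeartbeats 1000000
set_option maxRecDepth 100000

namespace Cfsg.Agent.Spor.OmegaEightThree

open X (Vec wt mono dot hh hh_wt Sgn)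

namespace Loc

theorem swap_moved : ∀ ε : Sgn, ∃ i : Fin 4, X.idx (mono 1 ε (sV (hh i))) ≠ i := by decide +kernel

theorem sign_sV : ∀ ε : Sgn, ∃ v : Vec, mono 1 ε (sV v) ≠ v := by decide +kernel

theorem card_Sgn : Nat.card Sgn = 8 := by
  rw [Nat.card_eq_fintype_card]
  decide +kernel

namespace Dbl

variable {G : Type*} [Group G] [Finite G] {T : Loc G} (D : Dbl T)

theorem sg_NT (ε : Sgn) : D.sg ε ∈ D.NT := D.NA_le_NT (D.move_sg ε).mem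

theorem s_NT : D.s ∈ D.NT := D.NA_le_NT D.move_s.mem

/-- `Y` extended by the sign changes. -/
def P₀ : Subgroup G where
  carrier := {g | ∃ y ∈ D.Y, ∃ ε, g = y * D.sg ε}
  one_mem' := ⟨1, one_mem _, 1, by simp⟩
  mul_mem' := by
    rintro _ _ ⟨y, hy, ε, rfl⟩ ⟨y', hy', δ, rfl⟩
    exact ⟨y * (D.sg ε * y' * (D.sg ε)⁻¹), mul_mem hy (D.NT_conj (D.sg_NT ε) hy'), ε * δ, by rw [map_mul]; group⟩
  inv_mem' := by
    rintro _ ⟨y, hy, ε, rfl⟩
    exact ⟨D.sg ε * y⁻¹ * (D.sg ε)⁻¹, D.NT_conj (D.sg_NT ε) (inv_mem hy), ε, by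
      rw [mul_inv_rev, D.sg_inv, mul_assoc (D.sg ε * y⁻¹), D.sg_sq, mul_one]⟩

theorem mem_P₀ {g : G} : g ∈ D.P₀ ↔ ∃ y ∈ D.Y, ∃ ε, g = y * D.sg ε := Iff.rfl

theorem Y_le_P₀ : D.Y ≤ D.P₀ := fun y hy => ⟨y, hy, 1, by simp⟩

theorem sg_P₀ (ε : Sgn) : D.sg ε ∈ D.P₀ := ⟨1, one_mem _, ε, by simp⟩

theorem s_conj_P₀ {g : G} (hg : g ∈ D.P₀) : D.s * g * D.s ∈ D.P₀ := by
  obtain ⟨y, hy, ε, rfl⟩ := hg
  refine ⟨D.s * y * D.s⁻¹, D.NT_conj D.s_NT hy, swp ε, ?_⟩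
  rw [← D.s_sg, show D.s * y * D.s⁻¹ * (D.s * D.sg ε * D.s⁻¹) = D.s * (y * D.sg ε) * D.s⁻¹ by group, D.s_inv]

/-- The Sylow subgroup. -/
def P : Subgroup G where
  carrier := {g | g ∈ D.P₀ ∨ g * D.s ∈ D.P₀}
  one_mem' := Or.inl (one_mem _)
  mul_mem' {g h} hg hh := by
    rcases hg with hg | hg <;> rcases hh with hh | hh
    · exact Or.inl (mul_mem hg hh)
    · exact Or.inr (by rw [mul_assoc]; exact mul_mem hg hh)
    · refine Or.inr ?_
      rw [show g * h * D.s = g * D.s * (D.s⁻¹ * h * D.s) by group, D.s_inv]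
      exact mul_mem hg (D.s_conj_P₀ hh)
    · refine Or.inl ?_
      rw [show g * h = g * D.s * (D.s⁻¹ * (h * D.s) * D.s⁻¹) by group, D.s_inv]
      exact mul_mem hg (D.s_conj_P₀ hh)
  inv_mem' {g} hg := by
    rcases hg with hg | hg
    · exact Or.inl (inv_mem hg)
    · refine Or.inr ?_
      rw [show g⁻¹ * D.s = D.s * (g * D.s)⁻¹ * D.s by group]
      exact D.s_conj_P₀ (inv_mem hg)

theorem P₀_le_P : D.P₀ ≤ D.P := fun _ h => Or.inl h

theorem s_P : D.s ∈ D.P := Or.inr (by rw [D.hs.sq]; exact one_mem _)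

theorem Y_le_P : D.Y ≤ D.P := D.Y_le_P₀.trans D.P₀_le_P

theorem Zt_le_P : D.Zt ≤ D.P := D.Zt_le_Y.trans D.Y_le_P

theorem P_cases {g : G} (hg : g ∈ D.P) :
    ∃ y ∈ D.Y, ∃ ε, g = y * D.sg ε ∨ g = y * (D.sg ε * D.s) := by
  rcases hg with ⟨y, hy, ε, e⟩ | ⟨y, hy, ε, e⟩
  · exact ⟨y, hy, ε, Or.inl e⟩
  · exact ⟨y, hy, ε, Or.inr (by rw [← mul_assoc, ← e, mul_assoc, D.hs.sq, mul_one])⟩

theorem P_le_NT : D.P ≤ D.NT := fun g hg => by
  obtain ⟨y, hy, ε, e | e⟩ := D.P_cases hg <;> rw [e]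
  · exact mul_mem (D.Y_le_NT hy) (D.sg_NT ε)
  · exact mul_mem (D.Y_le_NT hy) (mul_mem (D.sg_NT ε) D.s_NT)

theorem sg_s_notY (ε : Sgn) : D.sg ε * D.s ∉ D.Y := fun h => by
  obtain ⟨v, hv⟩ := sign_sV ε
  have hm := (D.move_sg ε).mul D D.move_s
  refine hv (Frame.ea_inj (F := D.F) ((hm.act v).symm.trans ?_))
  rw [D.Zt_comm (D.Y_inf_NA h hm.mem) (Frame.ea_comm_t v).symm |>.symm, mul_inv_cancel_right]

theorem s_notP₀ : D.s ∉ D.P₀ := by
  rintro ⟨y, hy, ε, e⟩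
  refine D.sg_s_notY ε ?_
  rw [e, ← mul_assoc]
  have := D.NT_conj (D.sg_NT ε) hy
  rw [D.sg_inv] at this
  exact this

theorem card_P₀ : Nat.card D.P₀ = 4096 := by
  let mk : D.Y × Sgn → D.P₀ := fun p => ⟨p.1 * D.sg p.2, p.1, p.1.2, p.2, rfl⟩
  have h : Function.Bijective mk := by
    refine ⟨fun p q e => ?_, ?_⟩
    · have e' : (p.1 : G) * D.sg p.2 = q.1 * D.sg q.2 := congrArg Subtype.val e
      have h2 : D.sg (q.2 * p.2) ∈ D.Y := by
        rw [map_mul, show D.sg q.2 * D.sg p.2 = (q.1 : G)⁻¹ * p.1 * (D.sg p.2 * D.sg p.2) by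
          rw [← mul_assoc, mul_assoc (q.1 : G)⁻¹, e', inv_mul_cancel_left], D.sg_sq, mul_one]
        exact mul_mem (inv_mem q.1.2) p.1.2
      have h3 : q.2 = p.2 := by
        rw [mul_eq_one_iff_eq_inv.1 (D.sg_mem_Y h2)]
        exact inv_eq_of_mul_eq_one_right (X.sgn_sq _)
      rw [h3] at e'
      exact Prod.ext (Subtype.ext (mul_right_cancel e')) h3.symm
    · rintro ⟨g, y, hy, ε, rfl⟩
      exact ⟨(⟨y, hy⟩, ε), rfl⟩
  rw [← Nat.card_congr (Equiv.ofBijective mk h), Nat.card_prod, D.card_Y, card_Sgn]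

theorem relIndex_P₀ : D.P₀.relIndex D.P = 2 := by
  rw [Subgroup.relIndex, Subgroup.index_eq_two_iff]
  refine ⟨⟨D.s, D.s_P⟩, fun b => ?_⟩
  simp only [Subgroup.mem_subgroupOf, Subgroup.coe_mul]
  rcases b.2 with h | h
  · refine Or.inr ⟨h, fun hs => D.s_notP₀ ?_⟩
    have := mul_mem (inv_mem h) hs
    rwa [inv_mul_cancel_left] at this
  · refine Or.inl ⟨h, fun hb => D.s_notP₀ ?_⟩
    have := mul_mem (inv_mem hb) h
    rwa [inv_mul_cancel_left] at this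

theorem card_P : Nat.card D.P = 8192 := by
  rw [← (D.P₀.subgroupOf D.P).card_mul_index, Nat.card_congr (Subgroup.subgroupOfEquivOfLe D.P₀_le_P).toEquiv,
    D.card_P₀, ← Subgroup.relIndex, D.relIndex_P₀]

/-- A normal subgroup of order `512` of `P`, abelian modulo `⟨t⟩`, is `Y`. -/
theorem eq_Y {U : Subgroup G} (hU : U ≤ D.P) (hn : ∀ p ∈ D.P, ∀ u ∈ U, p * u * p⁻¹ ∈ U) (hc : Nat.card U = 512)
    (hcom : ∀ u ∈ U, ∀ v ∈ U, u * v * u⁻¹ * v⁻¹ ∈ D.Zt) : U = D.Y := by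
  classical
  by_contra hne
  have hnot : ¬ U ≤ D.Y := fun h => hne (Subgroup.eq_of_le_of_card_ge h (by rw [hc, D.card_Y]))
  obtain ⟨u₀, hu₀, hu₀Y⟩ := SetLike.not_le_iff_exists.1 hnot
  set β : Sgn := ![1, -1, 1] with hβ
  obtain ⟨y, hy, ε, hε, hu⟩ : ∃ y ∈ D.Y, ∃ ε, ε ≠ 1 ∧ y * D.sg ε ∈ U := by
    obtain ⟨y, hy, ε, e | e⟩ := D.P_cases (hU hu₀)
    · refine ⟨y, hy, ε, fun h1 => hu₀Y ?_, e ▸ hu₀⟩
      rw [e, h1, map_one, mul_one]; exact hy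
    · have h := mul_mem hu₀ (hn _ (D.P₀_le_P (D.sg_P₀ β)) _ (inv_mem hu₀))
      refine ⟨y * (D.sg (swp β) * y⁻¹ * (D.sg (swp β))⁻¹), mul_mem hy (D.NT_conj (D.sg_NT _) (inv_mem hy)),
        swp β * β, by decide, ?_⟩
      have e1 : D.sg ε * D.s * D.sg β * (D.sg ε * D.s)⁻¹ = D.sg (swp β) := by
        rw [show D.sg ε * D.s * D.sg β * (D.sg ε * D.s)⁻¹ = D.sg ε * (D.s * D.sg β * D.s⁻¹) * (D.sg ε)⁻¹ by group,
          D.s_sg, D.sg_comm, mul_inv_cancel_right]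
      have e2 : y * (D.sg (swp β) * y⁻¹ * (D.sg (swp β))⁻¹) * D.sg (swp β * β) =
          u₀ * (D.sg β * u₀⁻¹ * (D.sg β)⁻¹) := by
        rw [e, map_mul, ← e1, D.sg_inv β]
        group
      rw [e2]
      exact h
  have hY : U ≤ Subgroup.normalizer (D.Y : Set G) := fun u hu => (D.mem_NT.1 (D.P_le_NT (hU hu))).1
  have hsub : U ⊓ D.Y ≤ D.CV (D.sg ε) := fun v hv => by
    rw [← D.CV_mul hy (D.sg_NT ε)]
    refine ⟨hv.2, ?_⟩
    set g := y * D.sg ε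
    set z := g * v * g⁻¹ * v⁻¹ with hz
    have hz' := hcom g hu v hv.1
    rw [show v⁻¹ * (g * v * g⁻¹) = v⁻¹ * z * v by rw [hz]; group,
      D.Zt_comm hz' ((show Commute v D.F.t from D.Y_comm_t hv.2).inv_left).eq, inv_mul_cancel_right]
    exact hz'
  have hcoe := Subgroup.coe_mul_of_right_le_normalizer_left D.Y U hY
  have hle : D.Y ⊔ U ≤ D.P := sup_le D.Y_le_P hU
  have hlt : D.Y ⊔ U ≠ D.P := by
    intro heq
    have hb : D.sg β ∈ D.Y ⊔ U := heq.ge (D.P₀_le_P (D.sg_P₀ β))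
    have hs : D.s ∈ D.Y ⊔ U := heq.ge D.s_P
    rw [← SetLike.mem_coe, hcoe] at hb hs
    obtain ⟨y₁, hy₁, u₁, hu₁, e₁⟩ := hb
    obtain ⟨y₂, hy₂, u₂, hu₂, e₂⟩ := hs
    have hin : D.sg β * D.s * (D.sg β)⁻¹ * D.s⁻¹ ∈ D.Y := by
      have e : D.sg β * D.s * (D.sg β)⁻¹ * D.s⁻¹ = y₁ * (u₁ * y₂ * u₁⁻¹) * (u₁ * u₂ * u₁⁻¹ * u₂⁻¹) *
          (u₂ * y₁⁻¹ * u₂⁻¹) * y₂⁻¹ := by
        rw [← e₁, ← e₂]; group
      rw [e]
      exact mul_mem (mul_mem (mul_mem (mul_mem hy₁ ((Subgroup.mem_normalizer_iff.1 (hY hu₁) _).1 hy₂))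
        (D.Zt_le_Y (hcom _ hu₁ _ hu₂))) ((Subgroup.mem_normalizer_iff.1 (hY hu₂) _).1 (inv_mem hy₁))) (inv_mem hy₂)
    rw [show D.sg β * D.s * (D.sg β)⁻¹ * D.s⁻¹ = D.sg β * (D.s * (D.sg β)⁻¹ * D.s⁻¹) by group, D.sg_inv, D.s_sg,
      ← map_mul] at hin
    exact (show (![1, -1, 1] : Sgn) * swp ![1, -1, 1] ≠ 1 by decide) (D.sg_mem_Y hin)
  have hsup : Nat.card (D.Y ⊔ U : Subgroup G) ≤ 4096 := by
    obtain ⟨k, -, hk⟩ := (Nat.dvd_prime_pow Nat.prime_two (m := 13)).1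
      (show Nat.card (D.Y ⊔ U : Subgroup G) ∣ 2 ^ 13 by
        rw [show 2 ^ 13 = 8192 by norm_num, ← D.card_P]; exact Subgroup.card_dvd_of_le hle)
    rw [hk]
    by_contra hlarge
    have h13 : 12 < k := (Nat.pow_lt_pow_iff_right (by norm_num : 1 < 2)).1 (by omega)
    exact hlt (Subgroup.eq_of_le_of_card_ge hle (by
      rw [D.card_P, hk]
      calc (8192 : ℕ) = 2 ^ 13 := by norm_num
        _ ≤ 2 ^ k := Nat.pow_le_pow_right (by norm_num) (by omega)))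
  have h1 := Cfsg.Agent.Solv.card_mul_set_mul_card_inf D.Y U
  rw [← hcoe, SetLike.coe_sort_coe, D.card_Y, hc, inf_comm] at h1
  have h2 := (Subgroup.card_le_of_le hsub).trans (D.card_CV_sg hε)
  have h3 := Nat.mul_le_mul hsup h2
  omega

/-- An element of `P` centralising `Y` lies in `⟨t⟩`. -/
theorem centre {x : G} (hx : x ∈ D.P) (hc : ∀ y ∈ D.Y, x * y = y * x) : x ∈ D.Zt := by
  classical
  have hCV : D.Y ≤ D.CV x := fun y hy => ⟨hy, by rw [hc y hy, mul_inv_cancel_right, inv_mul_cancel]; exact one_mem _⟩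
  obtain ⟨y, hy, ε, e | e⟩ := D.P_cases hx
  · by_cases h1 : ε = 1
    · rw [h1, map_one, mul_one] at e
      subst e
      obtain ⟨f, rfl⟩ := hy
      refine D.pr_Zt fun i => D.mem_Zt.2 (D.R_centre (hh_wt i) (f i).2 fun w hw => ?_)
      have e : f * Pi.mulSingle i ⟨w, hw⟩ * f⁻¹ = Pi.mulSingle i (f i * ⟨w, hw⟩ * (f i)⁻¹) := by
        funext j
        by_cases hj : j = i
        · subst hj; simp
        · simp [Pi.mulSingle_eq_of_ne hj]
      have h := congrArg D.pr e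
      rw [map_mul, map_mul, map_inv, D.pr_single, D.pr_single] at h
      have h2 := hc w (D.R_le_Y i hw)
      rw [h2, mul_inv_cancel_right] at h
      exact mul_inv_eq_iff_eq_mul.1 h.symm
    · exfalso
      rw [e, D.CV_mul hy (D.sg_NT ε)] at hCV
      have := (Subgroup.card_le_of_le hCV).trans (D.card_CV_sg h1)
      rw [D.card_Y] at this
      omega
  · exfalso
    rw [e, D.CV_mul hy (mul_mem (D.sg_NT ε) D.s_NT)] at hCV
    obtain ⟨π, hp, hπ⟩ := D.perm_of ((D.move_sg ε).mul D D.move_s) fun i => rfl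
    obtain ⟨i, hi⟩ := swap_moved ε
    have hle : D.Rh i ≤ D.Zt := fun w hw => by
      have h := D.comp_rel hπ (f := Pi.mulSingle i ⟨w, hw⟩) (by
        rw [D.pr_single]; exact hCV (D.R_le_Y i hw)) i
      rw [Pi.mulSingle_eq_same, Pi.mulSingle_eq_of_ne (fun h => hi ((hp i).symm.trans h)),
        OneMemClass.coe_one, inv_one, one_mul] at h
      have h' := D.Zt_comm h ((show Commute (D.sg ε * D.s) D.F.t from
        (D.mem_NT.1 (mul_mem (D.sg_NT ε) D.s_NT)).2).inv_left).eq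
      rw [show D.sg ε * D.s * w * (D.sg ε * D.s)⁻¹ = (D.sg ε * D.s) * (w) * (D.sg ε * D.s)⁻¹ from rfl] at h'
      have : w = D.sg ε * D.s * w * (D.sg ε * D.s)⁻¹ := by
        have := congrArg (· * (D.sg ε * D.s)) h'
        simpa [mul_assoc] using this
      exact this ▸ h
    have := Subgroup.card_le_of_le hle
    rw [D.card_R (hh_wt i), D.card_Zt] at this
    omega

/-- The normaliser of `P` centralises `t` and normalises `Y`. -/
theorem norm_NT {g : G} (hg : g ∈ Subgroup.normalizer (D.P : Set G)) : g ∈ D.NT := by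
  have hin : ∀ {x}, x ∈ D.P → g * x * g⁻¹ ∈ D.P := fun {x} hx => (Subgroup.mem_normalizer_iff.1 hg x).1 hx
  have hback : ∀ {x}, x ∈ D.P → g⁻¹ * x * g ∈ D.P := fun {x} hx => by
    have := (Subgroup.mem_normalizer_iff.1 (inv_mem hg) x).1 hx
    rwa [inv_inv] at this
  have ht : g * D.F.t * g⁻¹ = D.F.t := by
    refine (D.mem_Zt.1 (D.centre (hin (D.Zt_le_P D.t_Zt)) fun y hy => ?_)).resolve_left fun e =>
      D.t_ne (conj_eq_one_iff.1 e)
    have hc : Commute D.F.t (g⁻¹ * y * g) := (D.mem_NT.1 (D.P_le_NT (hback (D.Y_le_P hy)))).2.symm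
    have := (Commute.conj_iff g).2 hc
    rwa [show g * (g⁻¹ * y * g) * g⁻¹ = y by group] at this
  have hU : D.Y.map (MulAut.conj g).toMonoidHom = D.Y := by
    refine D.eq_Y ?_ ?_ ?_ ?_
    · rintro _ ⟨y, hy, rfl⟩
      exact hin (D.Y_le_P hy)
    · rintro p hp _ ⟨y, hy, rfl⟩
      exact ⟨g⁻¹ * p * g * y * (g⁻¹ * p * g)⁻¹, D.NT_conj (D.P_le_NT (hback hp)) hy, by simp [mul_assoc]⟩
    · rw [Subgroup.card_map_of_injective (MulAut.conj g).injective, D.card_Y]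
    · rintro _ ⟨y, hy, rfl⟩ _ ⟨y', hy', rfl⟩
      have h := D.Y_com hy hy'
      rw [show (MulAut.conj g).toMonoidHom y * (MulAut.conj g).toMonoidHom y' *
        ((MulAut.conj g).toMonoidHom y)⁻¹ * ((MulAut.conj g).toMonoidHom y')⁻¹ =
        g * (y * y' * y⁻¹ * y'⁻¹) * g⁻¹ by simp [mul_assoc]]
      rcases D.mem_Zt.1 h with e | e <;> rw [e]
      · simp
      · rw [ht]; exact D.t_Zt
  refine D.mem_NT.2 ⟨Subgroup.mem_normalizer_fintype fun y hy => hU ▸ ⟨y, hy, rfl⟩, mul_inv_eq_iff_eq_mul.1 ht⟩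

end Dbl

end Loc

end Cfsg.Agent.Spor.OmegaEightThree
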