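import Cfsg.Agent.Lib.Spor.OmegaEightThree.Double.YCase
import Cfsg.Agent.S0111

/-!
If `C/Q ≅ SL(2,3) × 2`, Thompson's transfer gives a character of `G` which is not trivial on `C_G(z)`.
-/

set_option autoImplicit false
set_option linter.unusedSectionVars false
set_option linter.style.haveILetI false
set_option maxHeartbeats 1000000

namespace Cfsg.Agent.Spor.OmegaEightThree

namespace Loc

variable {G : Type*} [Group G] [Finite G] {T : Loc G}

/-- The character moving `σ`. -/
theorem Dbl.exists_hom (D : Dbl T) : ∃ ψ : G →* Multiplicative (ZMod 2), ψ D.s ≠ 1 := by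
  classical
  haveI : Fact (Nat.Prime 2) := ⟨Nat.prime_two⟩
  obtain ⟨S, hS⟩ := D.exists_sylow
  have hord : orderOf D.s = 2 := orderOf_eq_prime (by rw [pow_two, D.hs.sq]) fun e => D.s_notY (e ▸ one_mem _)
  rcases Cfsg.Agent.S0111.result S D.P₀ (hS ▸ D.P₀_le_P) (by rw [hS]; exact D.relIndex_P₀) D.s hord
    (by rw [hS]; exact D.s_P) D.s_notP₀ with ⟨M, hM, hMi, hsM⟩ | ⟨g, hg⟩
  · haveI := hM
    let e : G ⧸ M ≃* Multiplicative (ZMod 2) := mulEquivOfPrimeCardEq (p := 2) (by rw [← M.index_eq_card, hMi])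
      (by rw [Nat.card_eq_fintype_card, Fintype.card_multiplicative, ZMod.card])
    refine ⟨e.toMonoidHom.comp (QuotientGroup.mk' M), fun h => hsM ?_⟩
    rw [← QuotientGroup.eq_one_iff]
    exact e.injective (h.trans (map_one e).symm)
  · exact absurd (by group) (D.P₀_not_conj hg g⁻¹)

/-- The character in the case `C/Q ≅ SL(2,3) × 2`. -/
theorem Frame.Classified.exists_char_double {F : Frame T} (hF : F.Classified) (hD : ¬ T.Single) :
    ∃ ψ : G →* Multiplicative (ZMod 2), ∃ s ∈ T.C, ψ s ≠ 1 := by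
  obtain ⟨D⟩ := exists_dbl hF hD
  obtain ⟨ψ, hψ⟩ := D.exists_hom
  exact ⟨ψ, D.s, D.hs.mem, hψ⟩

end Loc

end Cfsg.Agent.Spor.OmegaEightThree
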