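import Cfsg.Agent.Lib.Spor.OmegaEightThree.Double.Points
import Cfsg.Agent.Lib.Spor.SymNine.Plane

/-!
The elements normalising `Y` and centralising `σ` modulo `Y` lie in `M`: modulo `Y⟨σ⟩` the fixed plane of `σ`
in the axis is self-centralising with automiser of exponent two, hence normal.
-/

set_option autoImplicit false
set_option linter.unusedSectionVars false
set_option maxHeartbeats 1000000
set_option maxRecDepth 100000

namespace Cfsg.Agent.Spor.OmegaEightThree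

open X (Vec wt mono dot hh hh_wt)

/-- A twisted translation of a `2`-group of order three fixes a point. -/
theorem conj_of_three {G : Type*} [Group G] [Finite G] (Y : Subgroup G) (hY : ¬ 3 ∣ Nat.card Y) {a y : G}
    (ha : ∀ y' ∈ Y, a * y' * a⁻¹ ∈ Y) (ha3 : a ^ 3 = 1) (hy : y ∈ Y) (h3 : (y * a) ^ 3 = 1) :
    ∃ h ∈ Y, h * (y * a) * h⁻¹ = a := by
  classical
  haveI : Fact (Nat.Prime 3) := ⟨Nat.prime_three⟩
  haveI := Fintype.ofFinite Y
  have hm : ∀ y' : Y, y * a * y' * a⁻¹ ∈ Y := fun y' => by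
    rw [show y * a * (y' : G) * a⁻¹ = y * (a * y' * a⁻¹) by group]
    exact mul_mem hy (ha _ y'.2)
  let f : Y → Y := fun y' => ⟨y * a * y' * a⁻¹, hm y'⟩
  have hinj : Function.Injective f := fun u v e => Subtype.ext
    (mul_left_cancel (mul_right_cancel (congrArg Subtype.val e : y * a * (u : G) * a⁻¹ = y * a * v * a⁻¹)))
  let σ : Equiv.Perm Y := Equiv.ofBijective f (Finite.injective_iff_bijective.1 hinj)
  have hσ : σ ^ 3 ^ 1 = 1 := by
    refine Equiv.ext fun u => Subtype.ext ?_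
    show y * a * (y * a * (y * a * (u : G) * a⁻¹) * a⁻¹) * a⁻¹ = u
    calc _ = (y * a) ^ 3 * u * (a ^ 3)⁻¹ := by simp [pow_succ, mul_assoc]
      _ = u := by rw [h3, ha3]; simp
  obtain ⟨u, hu⟩ := Equiv.Perm.exists_fixed_point_of_prime (by rwa [← Nat.card_eq_fintype_card]) hσ
  have e : y * a * (u : G) * a⁻¹ = u := congrArg Subtype.val hu
  refine ⟨(u : G)⁻¹, inv_mem u.2, ?_⟩
  rw [inv_inv, show (u : G)⁻¹ * (y * a) * u = (u : G)⁻¹ * (y * a * u * a⁻¹) * a by group, e]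
  group

namespace Loc

/-- A vector of the plane fixed by `σ`. -/
def sfix (w : Fin 2 → ZMod 3) : Vec := ![w 0, w 1, w 1]

theorem sfix_add : ∀ v w : Fin 2 → ZMod 3, sfix (v + w) = sfix v + sfix w := by decide +kernel

theorem sV_sfix : ∀ w : Fin 2 → ZMod 3, sV (sfix w) = sfix w := by decide +kernel

theorem sfix_zero : ∀ w : Fin 2 → ZMod 3, sfix w = 0 → w = 0 := by decide +kernel

theorem sfix_surj : ∀ u : Vec, sV u = u → ∃ w, sfix w = u := by decide +kernel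

theorem fix_one : ∀ u : Vec, sV u = u → wt u = 1 → u = ![1, 0, 0] ∨ u = -![1, 0, 0] := by decide +kernel

theorem qf_one_wt : ∀ u : Vec, qf (ePt u) = 1 → wt u = 1 := by decide +kernel

theorem sV_images : ∀ a b c : Vec, sV a = a → sV b = b → sV c = -c → dot a a = 1 → dot b b = -1 → dot a b = 0 →
    dot c c = -1 → (a = ![1, 0, 0] ∨ a = -![1, 0, 0]) ∧ (b = ![0, 1, 1] ∨ b = -![0, 1, 1]) ∧
      (c = ![0, 1, -1] ∨ c = -![0, 1, -1]) := by decide +kernel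

theorem basis_three : ∀ u : Vec, ∃ x y z : ZMod 3, u = x • ![1, 0, 0] + y • ![0, 1, 1] + z • ![0, 1, -1] := by
  decide +kernel

theorem basis_facts : sV ![1, 0, 0] = ![1, 0, 0] ∧ sV ![0, 1, 1] = ![0, 1, 1] ∧ sV ![0, 1, -1] = -![0, 1, -1] ∧
    dot ![1, 0, 0] ![1, 0, 0] = 1 ∧ dot ![0, 1, 1] ![0, 1, 1] = -1 ∧ dot ![1, 0, 0] ![0, 1, 1] = 0 ∧
    dot ![0, 1, -1] ![0, 1, -1] = -1 := by decide +kernel

theorem vec_two : ∀ u : Vec, u + u = 0 → u = 0 := by decide +kernel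

theorem neg_first : mono 1 (![-1, 1, 1] : X.Sgn) (-![1, 0, 0]) = ![1, 0, 0] := by decide +kernel

namespace Dbl

variable {G : Type*} [Group G] [Finite G] {T : Loc G} (D : Dbl T)

theorem s_inv : D.s⁻¹ = D.s := D.hs.inv_eq

theorem s_notY : D.s ∉ D.Y := fun h => by
  have hη := D.hs.eta
  rcases D.mem_Zt.1 (D.Y_inf_NA h D.move_s.mem) with e | e
  · exact hη (by rw [show (⟨D.s, D.hs.mem⟩ : T.C) = 1 from Subtype.ext e, map_one])
  · exact hη (by rw [show (⟨D.s, D.hs.mem⟩ : T.C) = ⟨D.F.t, D.F.ht.mem⟩ from Subtype.ext e, D.F.ht.eta])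

theorem Y_norm {y : G} (hy : y ∈ D.Y) : ∀ x ∈ D.Y, y * x * y⁻¹ ∈ D.Y := fun x hx =>
  mul_mem (mul_mem hy hx) (inv_mem hy)

/-- The elements normalising `Y` that centralise `σ` modulo `Y`. -/
def HS : Subgroup G where
  carrier := {g | g * D.F.t = D.F.t * g ∧ g ∈ Subgroup.normalizer (D.Y : Set G) ∧ g * D.s * g⁻¹ * D.s⁻¹ ∈ D.Y}
  one_mem' := ⟨by simp, one_mem _, by simp⟩
  mul_mem' {g h} hg hh := ⟨((show Commute g D.F.t from hg.1).mul_left hh.1).eq, mul_mem hg.2.1 hh.2.1, by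
    rw [show g * h * D.s * (g * h)⁻¹ * D.s⁻¹ = g * (h * D.s * h⁻¹ * D.s⁻¹) * g⁻¹ * (g * D.s * g⁻¹ * D.s⁻¹) by group]
    exact mul_mem ((Subgroup.mem_normalizer_iff.1 hg.2.1 _).1 hh.2.2) hg.2.2⟩
  inv_mem' {g} hg := ⟨(show Commute g D.F.t from hg.1).inv_left.eq, inv_mem hg.2.1, by
    rw [show g⁻¹ * D.s * g⁻¹⁻¹ * D.s⁻¹ = g⁻¹ * (g * D.s * g⁻¹ * D.s⁻¹)⁻¹ * g⁻¹⁻¹ by group]
    exact (Subgroup.mem_normalizer_iff.1 (inv_mem hg.2.1) _).1 (inv_mem hg.2.2)⟩

theorem mem_HS {g : G} : g ∈ D.HS ↔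
    g * D.F.t = D.F.t * g ∧ g ∈ Subgroup.normalizer (D.Y : Set G) ∧ g * D.s * g⁻¹ * D.s⁻¹ ∈ D.Y := Iff.rfl

theorem NA_norm_Y {k : G} (hk : k ∈ D.NA) : k ∈ Subgroup.normalizer (D.Y : Set G) :=
  Subgroup.mem_normalizer_fintype fun _ hy => D.NA_conj_Y hk hy

theorem Y_le_HS : D.Y ≤ D.HS := fun y hy => ⟨D.Y_comm_t hy, Subgroup.le_normalizer hy, by
  rw [show y * D.s * y⁻¹ * D.s⁻¹ = y * (D.s * y⁻¹ * D.s⁻¹) by group]
  exact mul_mem hy (D.NA_conj_Y D.move_s.mem (inv_mem hy))⟩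

theorem s_HS : D.s ∈ D.HS := ⟨D.hs.comm, D.NA_norm_Y D.move_s.mem, by simp⟩

theorem ea_HS {u : Vec} (hu : sV u = u) : D.F.ea u ∈ D.HS :=
  ⟨(Frame.ea_comm_t u).symm, D.NA_norm_Y (D.move_ea u).mem, by
    have h := D.move_s.act u
    rw [hu] at h
    rw [show D.F.ea u * D.s * (D.F.ea u)⁻¹ * D.s⁻¹ = D.F.ea u * (D.s * D.F.ea u * D.s⁻¹)⁻¹ by group, h,
      mul_inv_cancel]
    exact one_mem _⟩

/-- `Y⟨σ⟩`. -/
def W : Subgroup G where
  carrier := {g | g ∈ D.Y ∨ g * D.s ∈ D.Y}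
  one_mem' := Or.inl (one_mem _)
  mul_mem' {g h} hg hh := by
    have conj : ∀ y ∈ D.Y, D.s * y * D.s ∈ D.Y := fun y hy => by
      have := D.NA_conj_Y D.move_s.mem hy
      rwa [D.s_inv] at this
    rcases hg with hg | hg <;> rcases hh with hh | hh
    · exact Or.inl (mul_mem hg hh)
    · exact Or.inr (by rw [mul_assoc]; exact mul_mem hg hh)
    · refine Or.inr ?_
      rw [show g * h * D.s = g * D.s * (D.s⁻¹ * h * D.s) by group, D.s_inv]
      exact mul_mem hg (conj h hh)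
    · refine Or.inl ?_
      rw [show g * h = g * D.s * (D.s⁻¹ * (h * D.s) * D.s⁻¹) by group, D.s_inv]
      exact mul_mem hg (conj _ hh)
  inv_mem' {g} hg := by
    rcases hg with hg | hg
    · exact Or.inl (inv_mem hg)
    · refine Or.inr ?_
      rw [show g⁻¹ * D.s = D.s * (g * D.s)⁻¹ * D.s by group]
      have := D.NA_conj_Y D.move_s.mem (inv_mem hg)
      rwa [D.s_inv] at this

theorem Y_le_W : D.Y ≤ D.W := fun _ hy => Or.inl hy

theorem W_le_HS : D.W ≤ D.HS := by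
  rintro g (hg | hg)
  · exact D.Y_le_HS hg
  · have := mul_mem (D.Y_le_HS hg) (inv_mem D.s_HS)
    rwa [mul_inv_cancel_right] at this

instance W_normal : (D.W.subgroupOf D.HS).Normal where
  conj_mem x hx g := by
    rw [Subgroup.mem_subgroupOf] at hx ⊢
    push_cast
    have hY := fun y hy => (Subgroup.mem_normalizer_iff.1 g.2.2.1 y).1 hy
    rcases hx with hx | hx
    · exact Or.inl (hY _ hx)
    · refine Or.inr ?_
      have e : (g : G) * D.s * (g : G)⁻¹ * D.s⁻¹ ∈ D.Y := g.2.2.2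
      rw [show (g : G) * x * (g : G)⁻¹ * D.s = (g : G) * (x * D.s) * (g : G)⁻¹ * ((g : G) * D.s⁻¹ * (g : G)⁻¹ * D.s) by
        group]
      refine mul_mem (hY _ hx) ?_
      have := e
      nth_rw 1 [← D.s_inv] at this
      nth_rw 2 [← D.s_inv] at this
      rwa [inv_inv] at this

/-- `C_{HS}` modulo `Y⟨σ⟩`. -/
abbrev HQ : Type _ := ↥D.HS ⧸ D.W.subgroupOf D.HS

/-- The projection. -/
def qH : D.HS →* D.HQ := QuotientGroup.mk' _

theorem qH_one {g : D.HS} : D.qH g = 1 ↔ (g : G) ∈ D.W := (QuotientGroup.eq_one_iff g).trans Subgroup.mem_subgroupOf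

/-- The plane fixed by `σ`. -/
def iH : Multiplicative (Fin 2 → ZMod 3) →* D.HS :=
  MonoidHom.mk' (fun w => ⟨D.F.ea (sfix w.toAdd), D.ea_HS (sV_sfix _)⟩) fun v w => Subtype.ext (by
    show D.F.ea (sfix (v.toAdd + w.toAdd)) = D.F.ea (sfix v.toAdd) * D.F.ea (sfix w.toAdd)
    rw [sfix_add, D.ea_add])

theorem ea_mem_W {u : Vec} (hu : sV u = u) (h : D.F.ea u ∈ D.W) : u = 0 := by
  rcases h with h | h
  · exact D.ea_mem_Y h
  · refine vec_two u (D.ea_mem_Y ?_)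
    have h2 := mul_mem h h
    have hc : Commute D.s (D.F.ea u) := mul_inv_eq_iff_eq_mul.1 (by rw [D.move_s.act, hu])
    rwa [hc.mul_mul_mul_comm, ← D.ea_add, D.hs.sq, mul_one] at h2

theorem qi_inj : Function.Injective (D.qH.comp D.iH) := by
  rw [injective_iff_map_eq_one]
  intro w hw
  exact Multiplicative.toAdd.injective (sfix_zero _ (D.ea_mem_W (sV_sfix _) (D.qH_one.1 hw)))

/-- An element congruent to a point modulo `Y⟨σ⟩` is moved onto it by `Y`. -/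
theorem adjust {x : G} (hx : x ^ 3 = 1) {u : Vec} (hu : sV u = u) (h : x * (D.F.ea u)⁻¹ ∈ D.W) :
    ∃ h ∈ D.Y, h * x * h⁻¹ = D.F.ea u := by
  have hY3 : ¬ 3 ∣ Nat.card D.Y := by rw [D.card_Y]; norm_num
  have hn : ∀ y ∈ D.Y, D.F.ea u * y * (D.F.ea u)⁻¹ ∈ D.Y := fun y hy => (D.move_ea u).conj_Y D hy
  rcases h with h | h
  · obtain ⟨k, hk, e⟩ := conj_of_three D.Y hY3 hn (D.ea_cube u) h (by rwa [inv_mul_cancel_right])
    exact ⟨k, hk, by rwa [inv_mul_cancel_right] at e⟩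
  · exfalso
    have hc : Commute D.s (D.F.ea u) := mul_inv_eq_iff_eq_mul.1 (by rw [D.move_s.act, hu])
    set a := D.s * D.F.ea u with ha
    set y := x * (D.F.ea u)⁻¹ * D.s with hy
    have hxe : x = y * a := by
      rw [hy, ha, show x * (D.F.ea u)⁻¹ * D.s * (D.s * D.F.ea u) = x * (D.F.ea u)⁻¹ * (D.s * D.s) * D.F.ea u by group,
        D.hs.sq]
      group
    have hconj : ∀ z ∈ D.Y, a * z * a⁻¹ ∈ D.Y := fun z hz =>
      D.NA_conj_Y (mul_mem D.move_s.mem (D.move_ea u).mem) hz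
    have ha3 : a ^ 3 = D.s := by
      rw [ha, hc.mul_pow, D.ea_cube, mul_one, pow_succ, pow_two, D.hs.sq, one_mul]
    refine D.s_notY ?_
    have e : (1 : G) = y * (a * y * a⁻¹) * (a * (a * y * a⁻¹) * a⁻¹) * a ^ 3 := by
      rw [← hx, hxe]
      simp only [pow_succ, pow_zero, one_mul]
      group
    rw [ha3] at e
    exact (Subgroup.mul_mem_cancel_left _ (mul_mem (mul_mem h (hconj _ h)) (hconj _ (hconj _ h)))).1 (e ▸ one_mem _)

/-- An element carrying a fixed point to itself modulo `Y⟨σ⟩` lies in `M`. -/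
theorem mem_M_of_fix {g : D.HS} {u : Vec} (hu0 : u ≠ 0) (hu : sV u = u)
    (h : (g : G) * D.F.ea u * (g : G)⁻¹ * (D.F.ea u)⁻¹ ∈ D.W) : (g : G) ∈ D.M := by
  obtain ⟨k, hk, e⟩ := D.adjust (by rw [conj_pow, D.ea_cube, mul_one, mul_inv_cancel]) hu h
  have hc : k * (g : G) ∈ D.M := D.cent_le_M hu0
    ((show Commute k D.F.t from D.Y_comm_t hk).mul_left g.2.1).eq (mul_inv_eq_iff_eq_mul.1 (by
      rw [show k * (g : G) * D.F.ea u * (k * (g : G))⁻¹ = k * ((g : G) * D.F.ea u * (g : G)⁻¹) * k⁻¹ by group, e]))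
  exact (Subgroup.mul_mem_cancel_left _ (D.Y_le_M hk)).1 hc

/-- An element carrying the point of value one into the plane modulo `Y⟨σ⟩` lies in `M`. -/
theorem mem_M_of_one {g : D.HS} {u' : Vec} (hu' : sV u' = u')
    (h : (g : G) * D.F.ea ![1, 0, 0] * (g : G)⁻¹ * (D.F.ea u')⁻¹ ∈ D.W) : (g : G) ∈ D.M := by
  obtain ⟨k, hk, e⟩ := D.adjust (by rw [conj_pow, D.ea_cube, mul_one, mul_inv_cancel]) hu' h
  have e' : k * (g : G) * D.F.ea ![1, 0, 0] * (k * (g : G))⁻¹ = D.F.ea u' := by rw [← e]; group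
  have hq : qf (ePt u') = 1 := (D.hF.qf_conj e').symm.trans (wt_one_qf _ (by decide))
  have hkg : (k * (g : G)) * D.F.t = D.F.t * (k * (g : G)) :=
    ((show Commute k D.F.t from D.Y_comm_t hk).mul_left g.2.1).eq
  refine (Subgroup.mul_mem_cancel_left _ (D.Y_le_M hk)).1 ?_
  rcases fix_one u' hu' (qf_one_wt u' hq) with rfl | rfl
  · exact D.cent_le_M (by decide) hkg (mul_inv_eq_iff_eq_mul.1 e')
  · obtain ⟨c, -, hc⟩ := D.exists_move_sign ![-1, 1, 1]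
    refine (Subgroup.mul_mem_cancel_left _ (D.NA_le_M hc.mem)).1 (D.cent_le_M (u := ![1, 0, 0]) (by decide) ?_ ?_)
    · exact ((show Commute c D.F.t from hc.comm).mul_left hkg).eq
    · refine mul_inv_eq_iff_eq_mul.1 ?_
      rw [show c * (k * (g : G)) * D.F.ea ![1, 0, 0] * (c * (k * (g : G)))⁻¹ =
        c * (k * (g : G) * D.F.ea ![1, 0, 0] * (k * (g : G))⁻¹) * c⁻¹ by group, e', hc.act, neg_first]

/-- The image of the fixed plane. -/
def EQ : Subgroup D.HQ := (D.qH.comp D.iH).range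

theorem ea_EQ {u : Vec} (hu : sV u = u) : D.qH ⟨D.F.ea u, D.ea_HS hu⟩ ∈ D.EQ := by
  obtain ⟨w, rfl⟩ := sfix_surj u hu
  exact ⟨Multiplicative.ofAdd w, rfl⟩

theorem mem_EQ {x : D.HQ} : x ∈ D.EQ ↔ ∃ u, ∃ hu : sV u = u, D.qH ⟨D.F.ea u, D.ea_HS hu⟩ = x :=
  ⟨fun ⟨w, hw⟩ => ⟨_, sV_sfix _, hw⟩, fun ⟨u, hu, e⟩ => e ▸ D.ea_EQ hu⟩

theorem conj_congr {g : D.HS} {u u' : Vec} (hu : sV u = u) (hu' : sV u' = u')
    (h : D.qH g * D.qH ⟨D.F.ea u, D.ea_HS hu⟩ * (D.qH g)⁻¹ = D.qH ⟨D.F.ea u', D.ea_HS hu'⟩) :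
    (g : G) * D.F.ea u * (g : G)⁻¹ * (D.F.ea u')⁻¹ ∈ D.W := by
  refine D.qH_one.1 (?_ : D.qH (g * ⟨D.F.ea u, D.ea_HS hu⟩ * g⁻¹ * ⟨D.F.ea u', D.ea_HS hu'⟩⁻¹) = 1)
  simp only [map_mul, map_inv, h, mul_inv_cancel]

/-- The shape of the elements of `M` here. -/
theorem shape {g : D.HS} (hg : (g : G) ∈ D.M) : ∃ y ∈ D.Y, ∃ k ∈ D.HS, ∃ f,
    (g : G) = y * k ∧ D.Move k f ∧ (∀ u v, f (u + v) = f u + f v) ∧ (∀ u, f (sV u) = sV (f u)) := by
  obtain ⟨y, hy, k, hk, he⟩ := hg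
  have hkH : k ∈ D.HS := by
    rw [show k = y⁻¹ * (g : G) by rw [he, inv_mul_cancel_left]]
    exact mul_mem (inv_mem (D.Y_le_HS hy)) g.2
  obtain ⟨f, hf, hadd⟩ := D.exists_move_of_NA hk
  refine ⟨y, hy, k, hkH, f, he, hf, hadd, fun u => ?_⟩
  have hz := D.Y_inf_NA hkH.2.2
    (mul_mem (mul_mem (mul_mem hk D.move_s.mem) (inv_mem hk)) (inv_mem D.move_s.mem))
  set z := k * D.s * k⁻¹ * D.s⁻¹ with hzdef
  have e : k * D.s = z * D.s * k := by rw [hzdef]; group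
  refine Frame.ea_inj (F := D.F) ?_
  calc D.F.ea (f (sV u)) = k * D.s * D.F.ea u * (k * D.s)⁻¹ := by
        rw [← hf.act, ← D.move_s.act]; group
    _ = z * (D.s * (k * D.F.ea u * k⁻¹) * D.s⁻¹) * z⁻¹ := by rw [e]; group
    _ = D.F.ea (sV (f u)) := by
        rw [hf.act, D.move_s.act, ← D.Zt_comm hz (Frame.ea_comm_t _).symm, mul_inv_cancel_right]

/-- The images of the basis. -/
theorem basis_images {k : G} {f : Vec → Vec} (hf : D.Move k f) (hs : ∀ u, f (sV u) = sV (f u)) :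
    (f ![1, 0, 0] = ![1, 0, 0] ∨ f ![1, 0, 0] = -![1, 0, 0]) ∧
    (f ![0, 1, 1] = ![0, 1, 1] ∨ f ![0, 1, 1] = -![0, 1, 1]) ∧
    (f ![0, 1, -1] = ![0, 1, -1] ∨ f ![0, 1, -1] = -![0, 1, -1]) := by
  obtain ⟨b1, b2, b3, d1, d2, d12, d3⟩ := basis_facts
  exact sV_images _ _ _ (by rw [← hs, b1]) (by rw [← hs, b2]) (by rw [← hs, b3, hf.neg D])
    (by rw [hf.dot_eq, d1]) (by rw [hf.dot_eq, d2]) (by rw [hf.dot_eq, d12]) (by rw [hf.dot_eq, d3])

theorem eq_id_of_basis {k : G} {f : Vec → Vec} (hf : D.Move k f) (hadd : ∀ u v, f (u + v) = f u + f v)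
    (h1 : f ![1, 0, 0] = ![1, 0, 0]) (h2 : f ![0, 1, 1] = ![0, 1, 1]) (h3 : f ![0, 1, -1] = ![0, 1, -1])
    (u : Vec) : f u = u := by
  have h0 : f 0 = 0 := by
    have h := hadd 0 0
    rwa [add_zero, left_eq_add] at h
  have hsm : ∀ (c : ZMod 3) (v : Vec), f v = v → f (c • v) = c • v := fun c v hv => by
    rcases zmod3_cases c with rfl | rfl | rfl
    · rw [zero_smul, h0]
    · rw [one_smul, hv]
    · rw [neg_smul, one_smul, hf.neg D, hv]
  obtain ⟨x, y, z, rfl⟩ := basis_three u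
  rw [hadd, hadd, hsm _ _ h1, hsm _ _ h2, hsm _ _ h3]

/-- An element of `M` acting trivially on the axis lies in the plane. -/
theorem fix_mem {g : D.HS} {y k : G} (hy : y ∈ D.Y) (hk : k ∈ D.HS) (he : (g : G) = y * k)
    (hfix : ∀ u, k * D.F.ea u = D.F.ea u * k) : D.qH g ∈ D.EQ := by
  obtain ⟨v, hv⟩ := D.cent_axis hk.1 hfix
  obtain ⟨z, hz, hkz⟩ : ∃ z ∈ D.Zt, k = D.F.ea v * z := by
    rcases hv with e | e
    · exact ⟨1, one_mem _, by rw [mul_one, e]⟩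
    · exact ⟨_, D.t_Zt, e⟩
  have hveH : D.F.ea v ∈ D.HS := by
    rw [show D.F.ea v = k * z⁻¹ by rw [hkz, mul_inv_cancel_right]]
    exact mul_mem hk (inv_mem (D.Y_le_HS (D.Zt_le_Y hz)))
  have hvs : sV v = v := by
    refine (sub_eq_zero.1 (D.ea_mem_Y ?_)).symm
    rw [sub_eq_add_neg, D.ea_add, D.ea_neg, ← D.move_s.act,
      show D.F.ea v * (D.s * D.F.ea v * D.s⁻¹)⁻¹ = D.F.ea v * D.s * (D.F.ea v)⁻¹ * D.s⁻¹ by group]
    exact hveH.2.2
  refine D.mem_EQ.2 ⟨v, hvs, ?_⟩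
  rw [← inv_mul_eq_one, ← map_inv, ← map_mul, D.qH_one]
  refine D.Y_le_W ?_
  push_cast
  rw [he, hkz, ← mul_assoc, ← mul_assoc]
  have := (D.move_ea (-v)).conj_Y D hy
  rw [D.ea_neg, inv_inv] at this
  exact mul_mem this (D.Zt_le_Y hz)

/-- `HS ≤ M`. -/
theorem HS_le_M : D.HS ≤ D.M := by
  classical
  have hcard : Nat.card D.EQ = 9 := by
    rw [EQ, ← Nat.card_congr (MonoidHom.ofInjective D.qi_inj).toEquiv, Nat.card_congr Multiplicative.toAdd,
      Nat.card_fun, Nat.card_fin, Nat.card_zmod]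
    rfl
  have hcomm : IsMulCommutative D.EQ := ⟨⟨fun a b => Subtype.ext (by
    obtain ⟨u, hu⟩ := a.2
    obtain ⟨v, hv⟩ := b.2
    show (a : D.HQ) * b = b * a
    rw [← hu, ← hv, ← map_mul, ← map_mul, mul_comm])⟩⟩
  have hexp : ∀ e ∈ D.EQ, e ^ 3 = 1 := by
    intro e he
    obtain ⟨u, hu, rfl⟩ := D.mem_EQ.1 he
    rw [← map_pow, show (⟨D.F.ea u, D.ea_HS hu⟩ : D.HS) ^ 3 = 1 from Subtype.ext (D.ea_cube u), map_one]
  -- elements of `M` normalise the plane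
  have hnormM : ∀ g : D.HS, (g : G) ∈ D.M → D.qH g ∈ Subgroup.normalizer (D.EQ : Set D.HQ) := by
    intro g hg
    obtain ⟨y, hy, k, hk, f, he, hf, hadd, hs⟩ := D.shape hg
    refine Subgroup.mem_normalizer_fintype fun x hx => ?_
    obtain ⟨u, hu, rfl⟩ := D.mem_EQ.1 hx
    have hfu : sV (f u) = f u := by rw [← hs, hu]
    refine D.mem_EQ.2 ⟨f u, hfu, ?_⟩
    rw [← inv_mul_eq_one, ← map_inv, ← map_inv, ← map_mul, ← map_mul, ← map_mul, D.qH_one]
    refine D.Y_le_W ?_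
    push_cast
    rw [he, show (D.F.ea (f u))⁻¹ * (y * k * D.F.ea u * (y * k)⁻¹) =
      (D.F.ea (f u))⁻¹ * y * (k * D.F.ea u * k⁻¹) * y⁻¹ by group, hf.act]
    have := (D.move_ea (-f u)).conj_Y D hy
    rw [D.ea_neg, inv_inv] at this
    exact mul_mem this (inv_mem hy)
  have hC : Subgroup.centralizer (D.EQ : Set D.HQ) = D.EQ := by
    refine le_antisymm (fun x hx => ?_) (Subgroup.le_centralizer D.EQ)
    obtain ⟨g, rfl⟩ := QuotientGroup.mk'_surjective _ x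
    have hfx : ∀ u (hu : sV u = u), (g : G) * D.F.ea u * (g : G)⁻¹ * (D.F.ea u)⁻¹ ∈ D.W := fun u hu =>
      D.conj_congr hu hu (by
        show QuotientGroup.mk' _ g * _ * (QuotientGroup.mk' _ g)⁻¹ = _
        rw [← Subgroup.mem_centralizer_iff.1 hx _ (D.ea_EQ hu), mul_inv_cancel_right])
    have hgM := D.mem_M_of_fix (u := ![1, 0, 0]) (by decide) basis_facts.1 (hfx _ basis_facts.1)
    obtain ⟨y, hy, k, hk, f, he, hf, hadd, hs⟩ := D.shape hgM
    have hpt : ∀ u, sV u = u → f u = u := by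
      intro u hu
      refine sub_eq_zero.1 (D.ea_mem_W ?_ ?_)
      · rw [sub_eq_add_neg]
        have hfu : sV (f u) = f u := by rw [← hs, hu]
        funext i
        have h1 := congrFun hfu i
        have h2 := congrFun hu i
        fin_cases i <;> simp [sV] at h1 h2 ⊢ <;> simp [h1, h2]
      · rw [sub_eq_add_neg, D.ea_add, D.ea_neg, ← hf.act,
          show k * D.F.ea u * k⁻¹ * (D.F.ea u)⁻¹ = y⁻¹ * ((g : G) * D.F.ea u * (g : G)⁻¹ * (D.F.ea u)⁻¹) *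
            (D.F.ea u * y * (D.F.ea u)⁻¹) by rw [he]; group]
        exact mul_mem (mul_mem (inv_mem (D.Y_le_W hy)) (hfx u hu)) (D.Y_le_W ((D.move_ea u).conj_Y D hy))
    obtain ⟨-, -, h3⟩ := D.basis_images hf hs
    rcases h3 with h3 | h3
    · exact D.fix_mem hy hk he fun u => mul_inv_eq_iff_eq_mul.1 (by
        rw [hf.act, D.eq_id_of_basis hf hadd (hpt _ basis_facts.1) (hpt _ basis_facts.2.1) h3])
    · have hks := hf.mul D D.move_s
      have hadd' : ∀ u v, (f ∘ sV) (u + v) = (f ∘ sV) u + (f ∘ sV) v := fun u v => by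
        rw [Function.comp_apply, Function.comp_apply, Function.comp_apply, ← hadd]
        congr 1
        funext i
        fin_cases i <;> simp [sV]
      have h := D.fix_mem (g := g * ⟨D.s, D.s_HS⟩) hy (mul_mem hk D.s_HS)
        (show (g : G) * D.s = y * (k * D.s) by rw [he, mul_assoc]) fun u => mul_inv_eq_iff_eq_mul.1 (by
          rw [hks.act, D.eq_id_of_basis hks hadd'
            (by rw [Function.comp_apply, basis_facts.1, hpt _ basis_facts.1])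
            (by rw [Function.comp_apply, basis_facts.2.1, hpt _ basis_facts.2.1])
            (by rw [Function.comp_apply, basis_facts.2.2.1, hf.neg D, h3, neg_neg])])
      rw [map_mul, D.qH_one.2 (show ((⟨D.s, D.s_HS⟩ : D.HS) : G) ∈ D.W from Or.inr (by rw [D.hs.sq]; exact one_mem _)),
        mul_one] at h
      exact h
  have hloc : ∀ e ∈ D.EQ, e ≠ 1 → Subgroup.centralizer ({e} : Set D.HQ) ≤
      Subgroup.normalizer (D.EQ : Set D.HQ) := by
    intro e he he1 x hx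
    obtain ⟨g, rfl⟩ := QuotientGroup.mk'_surjective _ x
    obtain ⟨u, hu, rfl⟩ := D.mem_EQ.1 he
    have hu0 : u ≠ 0 := fun e0 => he1 (D.qH_one.2 (by
      show D.F.ea u ∈ D.W
      rw [e0, D.ea_zero]; exact one_mem _))
    refine hnormM g (D.mem_M_of_fix hu0 hu (D.conj_congr hu hu ?_))
    show QuotientGroup.mk' _ g * _ * (QuotientGroup.mk' _ g)⁻¹ = _
    rw [Subgroup.mem_centralizer_singleton_iff.1 hx, mul_inv_cancel_right]
  have hM : ∀ g : D.HS, D.qH g ∈ Subgroup.normalizer (D.EQ : Set D.HQ) → (g : G) ∈ D.M := by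
    intro g hg
    obtain ⟨u', hu', e⟩ := D.mem_EQ.1 ((Subgroup.mem_normalizer_iff.1 hg _).1 (D.ea_EQ basis_facts.1))
    exact D.mem_M_of_one hu' (D.conj_congr basis_facts.1 hu' e.symm)
  have hsq : ∀ x ∈ Subgroup.normalizer (D.EQ : Set D.HQ), x * x ∈ D.EQ := by
    intro x hx
    obtain ⟨g, rfl⟩ := QuotientGroup.mk'_surjective _ x
    obtain ⟨y, hy, k, hk, f, he, hf, hadd, hs⟩ := D.shape (hM g hx)
    obtain ⟨h1, h2, h3⟩ := D.basis_images hf hs
    have hkk := hf.mul D hf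
    have hadd' : ∀ u v, (f ∘ f) (u + v) = (f ∘ f) u + (f ∘ f) v := fun u v => by
      simp only [Function.comp_apply, hadd]
    have two : ∀ {v : Vec}, (f v = v ∨ f v = -v) → (f ∘ f) v = v := fun {v} h => by
      rcases h with h | h <;> simp [Function.comp_apply, h, hf.neg D]
    rw [← map_mul]
    refine D.fix_mem (g := g * g) (mul_mem hy ((Subgroup.mem_normalizer_iff.1 hk.2.1 y).1 hy)) (mul_mem hk hk) ?_
      fun u => mul_inv_eq_iff_eq_mul.1 (by rw [hkk.act, D.eq_id_of_basis hkk hadd' (two h1) (two h2) (two h3)])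
    push_cast
    rw [he]
    group
  have htop := SymNine.plane_normal D.EQ hcard hcomm hexp hC hloc hsq
  intro g hg
  exact hM ⟨g, hg⟩ (htop ▸ Subgroup.mem_top _)

end Dbl

end Loc

end Cfsg.Agent.Spor.OmegaEightThree
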