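import Cfsg.Agent.Lib.Spor.OmegaEightThree.Reflections
import Cfsg.Agent.Lib.Spor.OmegaEightThree.AxisData

/-!
If `C/Q ≅ SL(2,3) × 2`, the second factor is represented by an involution commuting with `t` and acting on `E`
as the reflection at `r`; consequently an element of `C` fixing `r` lies in `O^2(C)`.
-/

set_option autoImplicit false
set_option linter.unusedSectionVars false
set_option maxHeartbeats 1000000

namespace Cfsg.Agent.Spor.OmegaEightThree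

open Cfsg.Agent.Spor.PSLFourThree (com)

local notation "SL2" => Matrix.SpecialLinearGroup (Fin 2) (ZMod 3)

theorem mult_two_ne : ∀ a b : Multiplicative (ZMod 2), a ≠ 1 → b ≠ 1 → a * b = 1 := by decide

theorem mult_two_cases : ∀ a : Multiplicative (ZMod 2), a * a = 1 := by decide

namespace Pre

variable {G : Type*} [Group G] [Finite G] {T : Pre G} {t : G} (ht : T.IsT t)
include ht

/-- Every element of `C` can be moved by `Q` to one commuting with `t`. -/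
theorem IsT.exists_comm (c : T.C) : ∃ a ∈ T.Q, a⁻¹ * c * t = t * (a⁻¹ * c) := by
  let tC : T.C := ⟨t, ht.mem⟩
  set a : T.C := tC⁻¹ * (c * tC * c⁻¹) with ha
  have haQ : (a : G) ∈ T.Q := by
    refine (T.ρker a).1 ⟨?_, ?_⟩
    · rw [ha, map_mul, map_mul, map_mul, map_inv, map_inv, ht.rho,
        ← neg_one_central, mul_inv_cancel_right, inv_mul_cancel]
    · rw [ha, map_mul, map_mul, map_mul, map_inv, map_inv, ht.eta]
      simp
  have hct : (c : G) * t * (c : G)⁻¹ = t * a := by simp [ha, tC, mul_assoc]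
  have hsq : t * a * (t * (a : G)) = 1 := by
    rw [← hct, conj_mul, ht.sq]
    group
  have h3 := T.cube_iff haQ
  have hta : t * (a : G) * t = (a : G)⁻¹ := eq_inv_of_mul_eq_one_left (by rw [← hsq]; group)
  have hconj : (c : G) * t * (c : G)⁻¹ = a * t * (a : G)⁻¹ := by
    rw [hct, show (a : G) * t * (a : G)⁻¹ = t * (t * a * t) * (a : G)⁻¹ by
      rw [show t * (t * (a : G) * t) = t * t * a * t by group, ht.sq, one_mul], hta, mul_assoc,
      ← mul_inv_rev]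
    congr 1
    exact eq_inv_of_mul_eq_one_left (by rw [← mul_assoc]; exact h3)
  refine ⟨a, haQ, ?_⟩
  calc (a : G)⁻¹ * c * t = (a : G)⁻¹ * ((c : G) * t * (c : G)⁻¹) * c := by group
    _ = t * ((a : G)⁻¹ * c) := by rw [hconj]; group

omit ht in
/-- The action on `Q/Z` depends on the two projections only. -/
theorem μ_congr {c d : T.C} (h1 : T.ρ c = T.ρ d) (h2 : T.η c = T.η d) : T.μ c = T.μ d := by
  have hQ : ((c⁻¹ * d : T.C) : G) ∈ T.Q := (T.ρker _).1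
    ⟨by rw [map_mul, map_inv, h1, inv_mul_cancel], by rw [map_mul, map_inv, h2, inv_mul_cancel]⟩
  have h := T.μ_one_of_Q hQ
  rwa [map_mul, map_inv, inv_mul_eq_one] at h

omit ht in
/-- An element over `1` commutes with the action. -/
theorem μ_act {c : T.C} (hc : ∀ γ, T.ρ c * γ = γ * T.ρ c) (γ : SL2) (v : T.V) :
    T.μ c (T.act γ v) = T.act γ (T.μ c v) := by
  obtain ⟨d, rfl, hd⟩ := T.ρsurj γ
  rw [T.act_ρ hd, ← MulAut.mul_apply, ← MulAut.mul_apply, ← map_mul, ← map_mul,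
    μ_congr (c := c * d) (d := d * c) (by rw [map_mul, map_mul, hc])
      (by rw [map_mul, map_mul, mul_comm])]

end Pre

namespace Loc

/-- The reflection at `r`. -/
def sR (v : Four) : Four := ![v 0, v 1, -v 2, v 3]

theorem sR_f : ∀ x : Four, bil x ![1, 0, 0, 0] = 1 → bil x ![0, 1, 0, 0] = 0 → bil x (-![0, 0, 1, 0]) = 0 →
    qf x = 0 → x = ![0, 0, 0, 1] := fun x h1 h2 h3 h4 => f_fixed x h1 h2 (by
  rw [bil_eq] at h3 ⊢
  simp only [Pi.neg_apply] at h3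
  linear_combination -h3) h4

theorem pow_cases {M : Type*} [Group M] {x y : M} (hx : x ^ 3 = 1) (hy : y ∈ Subgroup.zpowers x) :
    y = 1 ∨ y = x ∨ y = x⁻¹ := by
  obtain ⟨k, rfl⟩ := Subgroup.mem_zpowers_iff.1 hy
  rw [← pow_val_intCast hx]
  rcases zmod3_cases (k : ZMod 3) with e | e | e <;> rw [e]
  · exact Or.inl (by simp)
  · exact Or.inr (Or.inl (by simp [ZMod.val_one]))
  · refine Or.inr (Or.inr ?_)
    rw [show (-1 : ZMod 3).val = 2 from rfl]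
    exact eq_inv_of_mul_eq_one_left (by rw [← pow_succ, hx])

variable {G : Type*} [Group G] [Finite G] {T : Loc G}

namespace Frame

/-- An involution representing the second factor. -/
structure IsSig (F : Frame T) (s : G) : Prop where
  mem : s ∈ T.C
  sq : s * s = 1
  central : ∀ γ, T.ρ ⟨s, mem⟩ * γ = γ * T.ρ ⟨s, mem⟩
  eta : T.η ⟨s, mem⟩ ≠ 1
  comm : s * F.t = F.t * s
  act : F.Act s sR

variable {F : Frame T}

theorem μ_t : T.μ ⟨F.t, F.ht.mem⟩ (T.bar ⟨F.n, F.n_mem⟩) = (T.bar ⟨F.n, F.n_mem⟩)⁻¹ := by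
  rw [Pre.μ_bar, ← Pre.bar_inv]
  refine congrArg T.bar (Subtype.ext ?_)
  exact F.comps.inv

variable (hF : F.Classified)
include hF

theorem Classified.exists_sig (hD : ¬ ∀ c : T.C, T.η c = 1) : ∃ s, F.IsSig s := by
  classical
  push Not at hD
  obtain ⟨c₀, hc₀⟩ := hD
  obtain ⟨d, hd, hdη⟩ := T.ρsurj (T.ρ c₀)
  set c₁ := d⁻¹ * c₀ with hc₁
  have hρ₁ : T.ρ c₁ = 1 := by rw [hc₁, map_mul, map_inv, hd, inv_mul_cancel]
  have hη₁ : T.η c₁ ≠ 1 := by rwa [hc₁, map_mul, map_inv, hdη, inv_one, one_mul]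
  obtain ⟨a, ha, hat⟩ := F.ht.exists_comm c₁
  set c₂ : T.C := (⟨a, T.Q_le_C ha⟩ : T.C)⁻¹ * c₁ with hc₂
  obtain ⟨ha1, ha2⟩ := (T.ρker ⟨a, T.Q_le_C ha⟩).2 ha
  have hρ₂ : T.ρ c₂ = 1 := by rw [hc₂, map_mul, map_inv, ha1, inv_one, one_mul, hρ₁]
  have hη₂ : T.η c₂ ≠ 1 := by rwa [hc₂, map_mul, map_inv, ha2, inv_one, one_mul]
  have hQ2 : (c₂ : G) ^ 2 ∈ T.Q := (T.ρker (c₂ ^ 2)).1
    ⟨by rw [map_pow, hρ₂, one_pow], by rw [pow_two, map_mul, mult_two_cases]⟩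
  set c₃ := c₂ ^ 3 with hc₃
  have hsq₃ : c₃ * c₃ = 1 := Subtype.ext (by
    rw [Subgroup.coe_mul, hc₃, Subgroup.coe_pow, ← pow_two, ← pow_mul, mul_comm, pow_mul]
    exact T.exp _ hQ2)
  have hρ₃ : T.ρ c₃ = 1 := by rw [hc₃, map_pow, hρ₂, one_pow]
  have hη₃ : T.η c₃ ≠ 1 := by rw [hc₃, map_pow, pow_succ, pow_two, mult_two_cases, one_mul]; exact hη₂
  have ht₃ : Commute (c₃ : G) F.t := by
    rw [hc₃, Subgroup.coe_pow]
    exact (show Commute (c₂ : G) F.t from hat).pow_left 3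
  -- the lines of `n` and `r`
  have hn : T.bar ⟨F.n, F.n_mem⟩ ∈ T.minus := (F.ht.minus_iff F.n_mem).2 F.comps.hn1
  have hr : T.bar ⟨F.r, F.r_mem⟩ ∈ T.plus := (F.ht.plus_iff F.r_mem).2 F.comps.cent
  have hσ3 : T.ρ ⟨F.f, F.f_C⟩ ^ 3 = 1 := by
    rw [← map_pow, show (⟨F.f, F.f_C⟩ : T.C) ^ 3 = 1 from Subtype.ext F.f_cube, map_one]
  have hline := (pair_comp F.ht F.hg F.comps.hn F.comps.hr F.comps.he F.comps.hn1 F.comps.cent).2.2.1
  have hn' : ∀ c : T.C, (∀ γ, T.ρ c * γ = γ * T.ρ c) →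
      T.μ c (T.bar ⟨F.n, F.n_mem⟩) = T.bar ⟨F.n, F.n_mem⟩ ∨
      T.μ c (T.bar ⟨F.n, F.n_mem⟩) = (T.bar ⟨F.n, F.n_mem⟩)⁻¹ := by
    intro c hc
    obtain ⟨p, hp, m, hm, e⟩ := Subgroup.mem_sup.1 (fixed_plane F.ht F.hg F.comps.hn F.comps.hr F.comps.he
      F.comps.hn1 F.comps.cent hσ3 F.ρ_f_ne F.act_f_n (v := T.μ c (T.bar ⟨F.n, F.n_mem⟩))
      (by rw [← Pre.μ_act hc, F.act_f_n]))
    have hmm : T.μ c (T.bar ⟨F.n, F.n_mem⟩) ∈ T.minus := by
      rw [T.mem_minus, ← Pre.μ_act hc, T.mem_minus.1 hn, map_inv]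
    have hp1 : p = 1 := T.plus_minus ((Subgroup.zpowers_le.2 hr) hp) (by
      rw [show p = T.μ c (T.bar ⟨F.n, F.n_mem⟩) * m⁻¹ by rw [← e, mul_inv_cancel_right]]
      exact mul_mem hmm (inv_mem ((Subgroup.zpowers_le.2 hn) hm)))
    rw [← e, hp1, one_mul]
    refine (pow_cases (T.V_cube _) hm).resolve_left fun h1 => ?_
    rw [hp1, h1, one_mul] at e
    exact F.n_notZ (T.bar_eq_one.1 ((map_eq_one_iff _ (T.μ c).injective).1 e.symm))
  have hr' : ∀ c : T.C, (∀ γ, T.ρ c * γ = γ * T.ρ c) →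
      T.μ c (T.bar ⟨F.r, F.r_mem⟩) = T.bar ⟨F.r, F.r_mem⟩ ∨
      T.μ c (T.bar ⟨F.r, F.r_mem⟩) = (T.bar ⟨F.r, F.r_mem⟩)⁻¹ := by
    intro c hc
    obtain ⟨p, hp, m, hm, e⟩ := Subgroup.mem_sup.1 (fixed_plane F.ht F.hg F.comps.hn F.comps.hr F.comps.he
      F.comps.hn1 F.comps.cent hσ3 F.ρ_f_ne F.act_f_n (v := T.μ c (T.bar ⟨F.r, F.r_mem⟩))
      (by rw [← Pre.μ_act hc, hline.2]))
    have hpp : T.μ c (T.bar ⟨F.r, F.r_mem⟩) ∈ T.plus := by
      rw [T.mem_plus, ← Pre.μ_act hc, T.mem_plus.1 hr]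
    have hm1 : m = 1 := T.plus_minus (by
      rw [show m = p⁻¹ * T.μ c (T.bar ⟨F.r, F.r_mem⟩) by rw [← e, inv_mul_cancel_left]]
      exact mul_mem (inv_mem ((Subgroup.zpowers_le.2 hr) hp)) hpp) ((Subgroup.zpowers_le.2 hn) hm)
    rw [← e, hm1, mul_one]
    refine (pow_cases (T.V_cube _) hp).resolve_left fun h1 => ?_
    rw [hm1, h1, one_mul] at e
    exact F.r_notZ (T.bar_eq_one.1 ((map_eq_one_iff _ (T.μ c).injective).1 e.symm))
  -- the sign on `n`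
  obtain ⟨c, hcsq, hcc, hη, hct, hcn⟩ : ∃ c : T.C, c * c = 1 ∧ (∀ γ, T.ρ c * γ = γ * T.ρ c) ∧ T.η c ≠ 1 ∧
      Commute (c : G) F.t ∧ T.μ c (T.bar ⟨F.n, F.n_mem⟩) = T.bar ⟨F.n, F.n_mem⟩ := by
    rcases hn' c₃ (fun γ => by rw [hρ₃, one_mul, mul_one]) with e | e
    · exact ⟨c₃, hsq₃, fun γ => by rw [hρ₃, one_mul, mul_one], hη₃, ht₃, e⟩
    · refine ⟨c₃ * ⟨F.t, F.ht.mem⟩, Subtype.ext ?_, fun γ => ?_, ?_, ?_, ?_⟩
      · push_cast
        rw [ht₃.symm.mul_mul_mul_comm, F.ht.sq, ← Subgroup.coe_mul, hsq₃]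
        simp
      · rw [map_mul, hρ₃, one_mul, F.ht.rho, neg_one_central]
      · rwa [map_mul, F.ht.eta, mul_one]
      · push_cast
        exact ht₃.mul_left (Commute.refl _)
      · rw [map_mul, MulAut.mul_apply, μ_t, map_inv, e, inv_inv]
  set s : G := (c : G) with hs
  have hs2 : s * s = 1 := congrArg Subtype.val hcsq
  have hsi : s⁻¹ = s := inv_eq_of_mul_eq_one_right hs2
  obtain ⟨i, hi⟩ : ∃ i : ℤ, s * F.n * s⁻¹ = F.n * T.z ^ i := by
    rw [Pre.μ_bar] at hcn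
    obtain ⟨l, hl⟩ := Subgroup.mem_zpowers_iff.1 (T.bar_eq.1 hcn.symm)
    exact ⟨l, by rw [hl, mul_inv_cancel_left]⟩
  have hti := F.ht.inv_eq
  have hsn : s * F.n * s⁻¹ = F.n := by
    have h1 : F.t * (s * F.n * s⁻¹) * F.t⁻¹ = (s * F.n * s⁻¹)⁻¹ := by
      rw [show F.t * (s * F.n * s⁻¹) * F.t⁻¹ = F.t * s * F.n * (F.t * s)⁻¹ by group, ← hct.eq,
        show s * F.t * F.n * (s * F.t)⁻¹ = s * (F.t * F.n * F.t⁻¹) * s⁻¹ by group, F.comps.inv]
      group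
    have hzn : Commute (T.z ^ i) F.n := (show Commute T.z F.n from F.n_z.symm).zpow_left i
    rw [hi, show F.t * (F.n * T.z ^ i) * F.t⁻¹ = F.t * F.n * F.t⁻¹ * (F.t * T.z ^ i * F.t⁻¹) by group,
      F.comps.inv, ((show Commute F.t T.z from F.t_z).zpow_right i).eq, mul_inv_cancel_right, mul_inv_rev,
      hzn.inv_right.inv_left.eq, mul_right_inj] at h1
    have h2 : T.z ^ (i + i) = 1 := by
      rw [zpow_add]
      nth_rw 1 [h1]
      exact inv_mul_cancel _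
    have h3 : (3 : ℤ) ∣ i := by
      have h := orderOf_dvd_iff_zpow_eq_one.2 h2
      rw [T.hz] at h
      omega
    obtain ⟨m, rfl⟩ := h3
    rw [hi, zpow_mul, show T.z ^ (3 : ℤ) = 1 by exact_mod_cast T.z_cube, one_zpow, mul_one]
  obtain ⟨ε, hε, j, hj⟩ : ∃ ε : G, (ε = F.r ∨ ε = F.r⁻¹) ∧ ∃ j : ℤ, s * F.r * s⁻¹ = ε * T.z ^ j := by
    rcases hr' c hcc with e | e <;> rw [Pre.μ_bar] at e
    · obtain ⟨l, hl⟩ := Subgroup.mem_zpowers_iff.1 (T.bar_eq.1 e.symm)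
      exact ⟨_, Or.inl rfl, l, by rw [hl, mul_inv_cancel_left]⟩
    · rw [← Pre.bar_inv] at e
      have hl' := T.bar_eq.1 e.symm
      push_cast at hl'
      obtain ⟨l, hl⟩ := Subgroup.mem_zpowers_iff.1 hl'
      exact ⟨_, Or.inr rfl, l, by rw [hl, mul_inv_cancel_left]⟩
  have hεE : ε ∈ F.E := by rcases hε with rfl | rfl <;> [exact F.r_mem_E; exact inv_mem F.r_mem_E]
  have hrE : s * F.r * s⁻¹ ∈ F.E := hj ▸ mul_mem hεE (Subgroup.zpow_mem _ F.z_mem_E _)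
  have hfE : s * F.f * s⁻¹ ∈ F.E := by
    refine F.mem_E_of_C (c := c * ⟨F.f, F.f_C⟩ * c⁻¹) ?_ ?_ ?_
    · rw [map_mul, map_mul, map_inv, mul_comm (T.η c), mul_inv_cancel_right]
      exact T.η_cube (n := 1) (Subtype.ext (by rw [pow_one, Subgroup.coe_pow]; exact F.f_cube))
    · have h := (Commute.conj_iff s).2 (show Commute F.f F.n from F.f_n)
      rw [hsn] at h
      exact h.eq
    · have h := (Commute.conj_iff s).2 (show Commute F.f F.r from F.f_r)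
      have hz : Commute (s * F.f * s⁻¹) T.z := by
        have := (Commute.conj_iff s).2 (show Commute F.f T.z from F.f_z)
        rwa [T.conj_Z c.2 T.z_mem] at this
      rw [hj] at h
      have h2 := h.mul_right (hz.zpow_right j).inv_right
      rw [mul_inv_cancel_right] at h2
      rcases hε with rfl | rfl
      · exact h2.eq
      · have h4 := h2.inv_right
        rw [inv_inv] at h4
        exact h4.eq
  have hsz : s * T.z * s⁻¹ = T.z := T.conj_Z c.2 T.z_mem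
  have hN : s ∈ Subgroup.normalizer (F.E : Set G) := by
    refine Subgroup.mem_normalizer_fintype fun x hx => ?_
    obtain ⟨v, rfl⟩ := F.mem_E_iff.1 hx
    obtain ⟨x₀, hx₀⟩ := F.mem_E_iff.1 hrE
    obtain ⟨x₁, hx₁⟩ := F.mem_E_iff.1 hfE
    rw [F.conj_el (by rw [hsz, F.el_z]) (by rw [hsn, F.el_n]) hx₀.symm hx₁.symm v]
    exact F.el_mem _
  obtain ⟨φ, hφ⟩ := F.exists_act hN
  have φz : φ ![1, 0, 0, 0] = ![1, 0, 0, 0] := hφ.apply_eq (by rw [F.el_z, hsz])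
  have φn : φ ![0, 1, 0, 0] = ![0, 1, 0, 0] := hφ.apply_eq (by rw [F.el_n, hsn])
  have φr : φ ![0, 0, 1, 0] = ![(j : ZMod 3), 0, 1, 0] ∨ φ ![0, 0, 1, 0] = ![(j : ZMod 3), 0, -1, 0] := by
    have hz : F.el ![(j : ZMod 3), 0, 0, 0] = T.z ^ j := by
      rw [show (![(j : ZMod 3), 0, 0, 0] : Four) = (j : ZMod 3) • ![1, 0, 0, 0] by simp, F.el_smul, F.el_z,
        pow_val_intCast T.z_cube]
    refine hε.imp (fun e => hφ.apply_eq ?_) fun e => hφ.apply_eq ?_ <;>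
      rw [F.el_r, hj, e, ← hz]
    · rw [← F.el_r, ← F.el_mul]; simp
    · rw [← F.el_r, ← F.el_neg, ← F.el_mul]; simp
  have hid : φ ![0, 0, 1, 0] ≠ ![0, 0, 1, 0] := by
    intro φr
    have φf : φ ![0, 0, 0, 1] = ![0, 0, 0, 1] := f_fixed _ (by rw [← φz, hF.bil_image hφ]; exact bil_f.1)
      (by rw [← φn, hF.bil_image hφ]; exact bil_f.2.1) (by rw [← φr, hF.bil_image hφ]; exact bil_f.2.2)
      (by rw [hF.isom hφ]; exact qf_basic.2.2.2.1)
    have hsE : s ∈ F.E := hF.cent_E fun v => mul_inv_eq_iff_eq_mul.1 (by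
      rw [hφ, hφ.linear v, φz, φn, φr, φf, ← four_split v])
    obtain ⟨v, hv⟩ := F.mem_E_iff.1 hsE
    refine hη (T.η_cube (n := 1) (Subtype.ext ?_))
    rw [pow_one, Subgroup.coe_pow, ← hs, ← hv]
    exact F.el_cube v
  have φr : φ ![0, 0, 1, 0] = ![(j : ZMod 3), 0, -1, 0] := by
    refine φr.resolve_left fun e => hid ?_
    -- an involution
    have h2 := ((hφ.mul hφ) ![0, 0, 1, 0])
    rw [hs2, one_mul, inv_one, mul_one] at h2
    have h3 := F.el_inj h2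
    rw [Function.comp_apply, e, show (![(j : ZMod 3), 0, 1, 0] : Four) = (j : ZMod 3) • ![1, 0, 0, 0] + ![0, 0, 1, 0]
      by simp, hφ.add, hφ.smul, φz, e] at h3
    have h4 := congrFun h3 0
    simp at h4
    have hj0 : (j : ZMod 3) = 0 := (show ∀ a : ZMod 3, a + a = 0 → a = 0 by decide) _ h4.symm
    rw [e, hj0]
  -- the translation
  obtain ⟨q₀, hq₀, hq₀t, hV⟩ := hF.exists_V
  set m := (-(j : ZMod 3)).val with hm
  obtain ⟨s', hs'⟩ : ∃ s', s' = q₀ ^ m * s * (q₀ ^ m)⁻¹ := ⟨_, rfl⟩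
  have hqC : q₀ ^ m ∈ T.C := pow_mem (T.Q_le_C hq₀) m
  have hmem : s' ∈ T.C := hs' ▸ mul_mem (mul_mem hqC c.2) (inv_mem hqC)
  have heq : (⟨s', hmem⟩ : T.C) = ⟨q₀ ^ m, hqC⟩ * c * ⟨q₀ ^ m, hqC⟩⁻¹ := Subtype.ext hs'
  have hs't : s' * F.t = F.t * s' := by
    have hq : Commute (q₀ ^ m) F.t := (show Commute q₀ F.t from hq₀t.symm).pow_left m
    exact hs' ▸ ((hq.mul_left hct).mul_left hq.inv_left).eq
  have hρm : T.ρ ⟨q₀ ^ m, hqC⟩ = 1 := ((T.ρker ⟨q₀ ^ m, hqC⟩).2 (pow_mem hq₀ m)).1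
  obtain ⟨θ, hθ⟩ : ∃ θ, F.Act s' θ :=
    F.exists_act (hs' ▸ mul_mem (mul_mem (pow_mem hV.mem m) hN) (inv_mem (pow_mem hV.mem m)))
  have hVm := iterate_pow hV m
  have hcomp : ∀ v, θ (mV^[m] v) = mV^[m] (φ v) := fun v => hθ.apply_eq (by
    rw [← hVm v, ← hVm (φ v), ← hφ v, hs']
    group)
  have θz : θ ![1, 0, 0, 0] = ![1, 0, 0, 0] := by
    have h := hcomp ![1, 0, 0, 0]
    rwa [(mV_iter m).2.1, φz, (mV_iter m).2.1] at h
  have θn : θ ![0, 1, 0, 0] = ![0, 1, 0, 0] := by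
    have h := hcomp ![0, 1, 0, 0]
    rwa [(mV_iter m).2.2, φn, (mV_iter m).2.2] at h
  have θr : θ ![0, 0, 1, 0] = -![0, 0, 1, 0] := by
    have h := hcomp ![0, 0, 1, 0]
    rw [(mV_iter m).1, φr, show (![(m : ZMod 3), 0, 1, 0] : Four) = (m : ZMod 3) • ![1, 0, 0, 0] + ![0, 0, 1, 0]
      by simp, hθ.add, hθ.smul, θz,
      show (![(j : ZMod 3), 0, -1, 0] : Four) = (j : ZMod 3) • ![1, 0, 0, 0] + -![0, 0, 1, 0] by simp,
      hVm.add, hVm.smul, hVm.neg, (mV_iter m).2.1, (mV_iter m).1, hm, ZMod.natCast_zmod_val] at h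
    rw [← add_left_cancel_iff (a := (-(j : ZMod 3)) • (![1, 0, 0, 0] : Four)), h]
    have key : ∀ a : ZMod 3, a + a = -a := by decide
    funext k
    fin_cases k <;> simp
    exact key _
  have θf : θ ![0, 0, 0, 1] = ![0, 0, 0, 1] := sR_f _ (by rw [← θz, hF.bil_image hθ]; exact bil_f.1)
    (by rw [← θn, hF.bil_image hθ]; exact bil_f.2.1) (by rw [← θr, hF.bil_image hθ]; exact bil_f.2.2)
    (by rw [hF.isom hθ]; exact qf_basic.2.2.2.1)
  refine ⟨s', hmem, ?_, ?_, ?_, hs't, hθ.congr fun v => ?_⟩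
  · rw [hs', conj_mul, hs2, mul_one, mul_inv_cancel]
  · rw [heq, map_mul, map_mul, map_inv, hρm, one_mul, inv_one, mul_one]
    exact hcc
  · rwa [heq, map_mul, map_mul, map_inv, mul_comm (T.η ⟨q₀ ^ m, hqC⟩), mul_inv_cancel_right]
  · rw [hθ.linear v, θz, θn, θr, θf]
    funext k
    fin_cases k <;> simp [sR]

/-- An element of `C` commuting with `r` lies in `O^2(C)`. -/
theorem Classified.η_of_fix_r (c : T.C) (hc : (c : G) * F.r = F.r * c) : T.η c = 1 := by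
  by_contra hη
  obtain ⟨s, hs⟩ := hF.exists_sig fun h => hη (h c)
  have hcη : T.η (⟨s, hs.mem⟩ * c) = 1 := by rw [map_mul]; exact mult_two_ne _ _ hs.eta hη
  have hline := (pair_comp F.ht F.hg F.comps.hn F.comps.hr F.comps.he F.comps.hn1 F.comps.cent).2.2.1
  have h := T.act_bar hcη ⟨F.r, F.r_mem⟩
  rw [hline.2] at h
  have hz := T.bar_eq.1 h
  push_cast at hz
  rw [show s * (c : G) * F.r * (s * (c : G))⁻¹ = s * ((c : G) * F.r * (c : G)⁻¹) * s⁻¹ by group, hc,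
    mul_inv_cancel_right, ← F.el_r, hs.act, ← F.el_neg, ← F.el_mul] at hz
  refine F.r_notZ ?_
  have e : (-(![0, 0, 1, 0] : Four) + sR ![0, 0, 1, 0]) = ![0, 0, 1, 0] := by decide
  rwa [e, F.el_r] at hz

end Frame

end Loc

end Cfsg.Agent.Spor.OmegaEightThree
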