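import Cfsg.Agent.Lib.Spor.OmegaEightThree.IndexThree
import Cfsg.Agent.Lib.Spor.OmegaEightThree.Double.Sigma

/-!
A fixed point of `t` in `Q` moving `r` is not conjugate to an element of `E`: the Sylow `3`-subgroups of its
centraliser have order at most `81`.
-/

set_option autoImplicit false
set_option linter.unusedSectionVars false
set_option maxHeartbeats 1000000

namespace Cfsg.Agent.Spor.OmegaEightThree

open Cfsg.Agent.Spor.PSLFourThree (com)

namespace Loc

theorem mV_n : Frame.mV (![0, 1, 0, 0] : Four) = ![0, 1, 0, 0] := by decide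

theorem mU_r : Frame.mU (![0, 0, 1, 0] : Four) = ![0, 0, 1, 0] := by decide

theorem moved_points : Frame.mU (![0, 1, 0, 0] : Four) ≠ ![0, 1, 0, 0] ∧
    Frame.mV (![0, 0, 1, 0] : Four) = ![1, 0, 0, 0] + ![0, 0, 1, 0] := by decide

variable {G : Type*} [Group G] [Finite G] {T : Loc G}

namespace Frame

variable {F : Frame T} (hF : F.Classified)

theorem com_mV {q : G} (hV : F.Act q mV) : com q F.r = T.z := by
  rw [com, ← F.el_r, hV, moved_points.2, F.el_mul, F.el_z, mul_inv_cancel_right]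

include hF

/-- The `3`-subgroups of the centraliser of a fixed point moving `r` have order at most `81`. -/
theorem Classified.card_le_plus {σ : G} (hσ : σ ∈ T.Q) (hσt : F.t * σ = σ * F.t) (hσr : com σ F.r = T.z)
    {S : Subgroup G} (hS : IsPGroup 3 S) (hSσ : S ≤ Subgroup.centralizer {σ}) : Nat.card S ≤ 81 := by
  classical
  haveI : Fact (Nat.Prime 3) := ⟨Nat.prime_three⟩
  set Cσ := Subgroup.centralizer ({σ} : Set G) with hCσ
  set P : Subgroup G := T.Q ⊓ Cσ with hPdef
  have hPσ : P ≤ Cσ := inf_le_right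
  have hPp : IsPGroup 3 P := (IsPGroup.of_card (p := 3) (n := 5) (by rw [T.card_Q]; norm_num)).to_le inf_le_left
  have hP81 : Nat.card P ≤ 81 := by
    obtain ⟨k, hk, e⟩ := (Nat.dvd_prime_pow Nat.prime_three (m := 5)).1
      (show Nat.card P ∣ 3 ^ 5 by
        rw [show (3 : ℕ) ^ 5 = 243 by norm_num, ← T.card_Q]; exact Subgroup.card_dvd_of_le inf_le_left)
    rw [e]
    interval_cases k <;> try norm_num
    exfalso
    have heq : P = T.Q := Subgroup.eq_of_le_of_card_ge inf_le_left (by rw [T.card_Q, e]; norm_num)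
    have h1 : F.r ∈ P := heq ▸ F.r_mem
    rw [Pre.com_eq_one_iff.2 (Subgroup.mem_centralizer_singleton_iff.1 h1.2).symm] at hσr
    exact T.z_ne hσr.symm
  obtain ⟨S₁, hS₁⟩ := IsPGroup.exists_le_sylow (P := P.subgroupOf Cσ) (hPp.comap_subtype (H := P) (K := Cσ))
  have hS₁eq : P.subgroupOf Cσ = S₁ := by
    by_contra hne
    haveI := S₁.isPGroup'.isNilpotent
    have hlt : P.subgroupOf Cσ < S₁ := lt_of_le_of_ne hS₁ hne
    obtain ⟨x, hx, hxn⟩ := SetLike.exists_of_lt ((Group.normalizerCondition_of_isNilpotent (G := S₁))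
      ((P.subgroupOf Cσ).subgroupOf S₁)
      (lt_top_iff_ne_top.2 fun h => hne (le_antisymm hS₁ (Subgroup.subgroupOf_eq_top.1 h))))
    refine hxn (hF.norm_mem_cent hσ hσt hσr (x := ((x : Cσ) : G)) ?_ ?_
      (Subgroup.mem_centralizer_singleton_iff.1 (x : Cσ).2))
    · refine Subgroup.mem_normalizer_fintype fun a ha => ?_
      have := (Subgroup.mem_normalizer_iff.1 hx ⟨⟨a, hPσ ha⟩, hS₁ ha⟩).1 ha
      exact this
    · obtain ⟨m, hm⟩ := S₁.isPGroup' x
      exact ⟨m, congrArg (fun y : S₁ => ((y : Cσ) : G)) hm⟩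
  obtain ⟨S₂, hS₂⟩ := IsPGroup.exists_le_sylow (P := S.subgroupOf Cσ) (hS.comap_subtype (H := S) (K := Cσ))
  have h1 : Nat.card (S₁ : Subgroup Cσ) ≤ 81 := by
    rw [← hS₁eq, Nat.card_congr (Subgroup.subgroupOfEquivOfLe hPσ).toEquiv]
    exact hP81
  rw [← Nat.card_congr (Subgroup.subgroupOfEquivOfLe hSσ).toEquiv]
  refine (Subgroup.card_le_of_le hS₂).trans ?_
  rwa [S₂.card_eq_multiplicity, ← S₁.card_eq_multiplicity]

/-- The centraliser of an element of `E` contains a `3`-subgroup of order at least `243`. -/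
theorem Classified.exists_big {v : Four} (hv : v ≠ 0) :
    ∃ S : Subgroup G, IsPGroup 3 S ∧ S ≤ Subgroup.centralizer {F.el v} ∧ 243 ≤ Nat.card S := by
  haveI : Fact (Nat.Prime 3) := ⟨Nat.prime_three⟩
  obtain ⟨q₁, h₁, hU⟩ := hF.exists_U
  obtain ⟨q₀, h₀, -, hV⟩ := hF.exists_V
  -- transport along a conjugation
  have move : ∀ (k x : G), (k * F.el v * k⁻¹ = x ∨ k * F.el v * k⁻¹ = x⁻¹) → ∀ S : Subgroup G, IsPGroup 3 S →
      S ≤ Subgroup.centralizer {x} → 243 ≤ Nat.card S →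
      ∃ S : Subgroup G, IsPGroup 3 S ∧ S ≤ Subgroup.centralizer {F.el v} ∧ 243 ≤ Nat.card S := by
    intro k x hk S hS hSx hc
    refine ⟨S.map (MulAut.conj k⁻¹).toMonoidHom, hS.map _, ?_,
      by rwa [Subgroup.card_map_of_injective (MulAut.conj k⁻¹).injective]⟩
    rintro _ ⟨s, hs, rfl⟩
    refine Subgroup.mem_centralizer_singleton_iff.2 ?_
    have hc : Commute s (k * F.el v * k⁻¹) := by
      have h := show Commute s x from Subgroup.mem_centralizer_singleton_iff.1 (hSx hs)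
      rcases hk with e | e <;> rw [e]
      · exact h
      · exact h.inv_right
    have := (Commute.conj_iff k⁻¹).2 hc
    simp only [MulEquiv.coe_toMonoidHom, MulAut.conj_apply]
    rw [show k⁻¹ * (k * F.el v * k⁻¹) * k⁻¹⁻¹ = F.el v by group] at this
    exact this.eq
  have hext : ∀ (q : G) (φ : Four → Four), q ∈ T.Q → F.Act q φ → ∀ u w : Four, φ u ≠ u → φ w = w →
      IsPGroup 3 (F.ext q) ∧ F.ext q ≤ Subgroup.centralizer {F.el w} ∧ 243 ≤ Nat.card (F.ext q) := by
    intro q φ hq hA u w hu hw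
    have hqE : q ∉ F.E := fun h => by
      obtain ⟨x, rfl⟩ := F.mem_E_iff.1 h
      exact hu (hA.apply_eq (by rw [F.el_comm, mul_inv_cancel_right]))
    obtain ⟨hp, hc⟩ := card_ext hA.mem (T.exp q hq) hqE
    refine ⟨hp, sup_le (fun a ha => ?_) (Subgroup.zpowers_le.2 ?_), hc.ge⟩
    · obtain ⟨x, rfl⟩ := F.mem_E_iff.1 ha
      exact Subgroup.mem_centralizer_singleton_iff.2 (F.el_comm _ _)
    · exact Subgroup.mem_centralizer_singleton_iff.2 (mul_inv_eq_iff_eq_mul.1 (by rw [hA, hw]))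
  rcases qf_cases (qf v) with h | h | h
  · obtain ⟨g, hg⟩ := ((hF.iff_qf v).2 ⟨hv, h⟩).cases
    refine move g⁻¹ T.z ?_ T.Q (IsPGroup.of_card (n := 5) (by rw [T.card_Q]; norm_num)) ?_ (by rw [T.card_Q])
    · rcases hg with e | e
      · left; rw [← e]; group
      · right; rw [← inv_inv (F.el v), ← e]; group
    · exact fun a ha => Subgroup.mem_centralizer_singleton_iff.2 (T.mem_C.1 (T.Q_le_C ha))
  · obtain ⟨k, -, -, hk⟩ := hF.to_n h
    obtain ⟨a, b, c⟩ := hext q₀ mV h₀ hV ![0, 0, 1, 0] ![0, 1, 0, 0] translate_moves.2.2.1 mV_n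
    rw [F.el_n] at b
    exact move k F.n hk _ a b c
  · obtain ⟨k, -, -, hk⟩ := hF.to_r h
    obtain ⟨a, b, c⟩ := hext q₁ mU h₁ hU ![0, 1, 0, 0] ![0, 0, 1, 0] moved_points.1 mU_r
    rw [F.el_r] at b
    exact move k F.r hk _ a b c

/-- A fixed point moving `r` is not conjugate to an element of `E`. -/
theorem Classified.not_conj_E {σ : G} (hσ : σ ∈ T.Q) (hσt : F.t * σ = σ * F.t) (hσr : com σ F.r = T.z) (g : G)
    (v : Four) : g * σ * g⁻¹ ≠ F.el v := by
  intro h
  by_cases hv : v = 0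
  · rw [hv, F.el_zero, conj_eq_one_iff] at h
    subst h
    rw [show com (1 : G) F.r = 1 by simp [com]] at hσr
    exact T.z_ne hσr.symm
  obtain ⟨S, hS, hSv, hc⟩ := hF.exists_big hv
  have hle : S.map (MulAut.conj g⁻¹).toMonoidHom ≤ Subgroup.centralizer {σ} := by
    rintro _ ⟨s, hs, rfl⟩
    refine Subgroup.mem_centralizer_singleton_iff.2 ?_
    have := (Commute.conj_iff g⁻¹).2 (show Commute s (F.el v) from Subgroup.mem_centralizer_singleton_iff.1 (hSv hs))
    rw [← h, show g⁻¹ * (g * σ * g⁻¹) * g⁻¹⁻¹ = σ by group] at this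
    exact this.eq
  have h81 := hF.card_le_plus hσ hσt hσr (hS.map (MulAut.conj g⁻¹).toMonoidHom) hle
  rw [Subgroup.card_map_of_injective (MulAut.conj g⁻¹).injective] at h81
  omega

end Frame

end Loc

end Cfsg.Agent.Spor.OmegaEightThree
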