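import Cfsg.Agent.Lib.Spor.OmegaEightThree.Double.Sylow

/-!
A product of elements of two of the quaternion groups is not conjugate to `σ`: the character of `C_G(r)`
distinguishes them.
-/

set_option autoImplicit false
set_option linter.unusedSectionVars false
set_option maxHeartbeats 1000000
set_option maxRecDepth 100000

namespace Cfsg.Agent.Spor.OmegaEightThree

open X (Vec wt mono dot hh hh_wt Sgn)

namespace Loc

/-- The reflection at a point of value `-1`. -/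
def rneg (p v : Four) : Four := v + bil v p • p

theorem rneg_r : ∀ v : Four, rneg ![0, 0, 1, 0] v = sR v := by decide +kernel

theorem perp_r : (∀ v : Four, bil v ![0, 0, 1, 0] = 0 ↔ v 2 = 0) ∧
    ∀ v : Four, bil ![0, 0, 1, 0] v = 0 ↔ v 2 = 0 := by decide +kernel

/-- The singular points orthogonal to `r`, up to sign. -/
def singR : Fin 4 → Four := ![![1, 0, 0, 0], ![0, 0, 0, 1], ![-1, 1, 0, 1], ![-1, -1, 0, 1]]

theorem sing_facts : Frame.mU (singR 1) = singR 2 ∧ Frame.mU (singR 2) = singR 3 := by decide +kernel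

theorem sing_for : ∀ q : Four, qf q = 1 → q 2 = 0 →
    refl q ![0, 0, 1, 0] = ![0, 0, 1, 0] ∧ ∃ i : Fin 4, refl q (singR i) = singR i := by decide +kernel

theorem rneg_split : ∀ p : Four, qf p = -1 → p 2 = 0 →
    (∀ v, rneg p v = negR (refl ![0, 1, 0, 0] (refl ![1, 0, 0, 1] v))) ∨
    (∀ v, rneg p v = negR (refl ![1, 1, 0, 0] (refl ![0, 1, 0, 1] v))) ∨
    (∀ v, rneg p v = negR (refl ![1, -1, 0, 0] (refl ![0, -1, 0, 1] v))) := by decide +kernel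

theorem split_pts :
    (qf (![0, 1, 0, 0] : Four) = 1 ∧ qf (![1, 0, 0, 1] : Four) = 1) ∧
    (qf (![1, 1, 0, 0] : Four) = 1 ∧ qf (![0, 1, 0, 1] : Four) = 1) ∧
    (qf (![1, -1, 0, 0] : Four) = 1 ∧ qf (![0, -1, 0, 1] : Four) = 1) := by decide +kernel

variable {G : Type*} [Group G] [Finite G] {T : Loc G}

namespace Frame

variable {F : Frame T} (hF : F.Classified)
include hF

theorem Classified.V_sing {V : F.Cr →* Multiplicative (ZMod 2)}
    (h1 : ∀ g : F.Cr, (g : G) * T.z = T.z * g → V g = 1) (h2 : ∀ g : F.Cr, (g : G) * F.f = F.f * g → V g = 1)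
    (g : F.Cr) (i : Fin 4) (hg : (g : G) * F.el (singR i) = F.el (singR i) * g) : V g = 1 := by
  obtain ⟨u, hu, hU⟩ := hF.exists_U
  have hur : u ∈ F.Cr := F.mem_Cr.2 (mul_inv_eq_iff_eq_mul.1 (by rw [← F.el_r, hU, mU_r]))
  set uC : F.Cr := ⟨u, hur⟩
  have huV : V uC = 1 := h1 uC (T.mem_C.1 (T.Q_le_C hu))
  have step : ∀ (c : F.Cr) (v : Four), V c = 1 → (c : G) * F.el (singR 1) * (c : G)⁻¹ = F.el v →
      (g : G) * F.el v = F.el v * g → V g = 1 := by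
    intro c v hc hcv hgv
    have hf : ((c⁻¹ * g * c : F.Cr) : G) * F.f = F.f * (c⁻¹ * g * c : F.Cr) := by
      push_cast
      refine (Commute.conj_iff (c : G)).1 ?_
      rw [show (c : G) * ((c : G)⁻¹ * g * c) * (c : G)⁻¹ = g by group, ← F.el_f,
        show (![0, 0, 0, 1] : Four) = singR 1 from rfl, hcv]
      exact hgv
    have := h2 _ hf
    rwa [map_mul, map_mul, map_inv, hc, inv_one, one_mul, mul_one] at this
  fin_cases i
  · exact h1 g (by rw [← F.el_z]; exact hg)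
  · exact step 1 _ (map_one _) (by simp) hg
  · exact step uC _ huV (by rw [hU, sing_facts.1]; rfl) hg
  · refine step (uC * uC) _ (by rw [map_mul, huV, mul_one]) ?_ hg
    rw [Subgroup.coe_mul, (hU.mul hU) (singR 1), Function.comp_apply, sing_facts.1, sing_facts.2]
    rfl

/-- The character is trivial on the reflections of value `1` fixing `r`. -/
theorem Classified.exists_refl_V {V : F.Cr →* Multiplicative (ZMod 2)}
    (h1 : ∀ g : F.Cr, (g : G) * T.z = T.z * g → V g = 1) (h2 : ∀ g : F.Cr, (g : G) * F.f = F.f * g → V g = 1)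
    {q : Four} (hq : qf q = 1) (hq2 : q 2 = 0) : ∃ a : F.Cr, V a = 1 ∧ F.Act (a : G) (refl q) := by
  obtain ⟨a, ha⟩ := hF.exists_refl hq
  obtain ⟨hr, i, hi⟩ := sing_for q hq hq2
  have har : a ∈ F.Cr := F.mem_Cr.2 (mul_inv_eq_iff_eq_mul.1 (by rw [← F.el_r, ha.act, hr]))
  exact ⟨⟨a, har⟩, hF.V_sing h1 h2 _ i (mul_inv_eq_iff_eq_mul.1 (by rw [ha.act, hi])), ha.act⟩

end Frame

namespace Dbl

variable (D : Dbl T)

theorem exists_preimage {c : G} {f : Vec → Vec} (hc : D.Move c f) {v h : Vec} (hv : wt v = 3)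
    (e : f v = h ∨ f v = -h) {x : G} (hx : x ∈ D.R h) : ∃ x₀ ∈ D.R v, c * x₀ * c⁻¹ = x := by
  have hfx : x ∈ D.R (f v) := by
    rcases e with e | e <;> rw [e]
    · exact hx
    · rwa [D.R_neg]
  have hsub : (D.R v).map (MulAut.conj c).toMonoidHom = D.R (f v) := by
    refine Subgroup.eq_of_le_of_card_ge ?_ ?_
    · rintro _ ⟨a, ha, rfl⟩
      exact hc.map_R D hv ha
    · rw [Subgroup.card_map_of_injective (MulAut.conj c).injective, D.card_R hv, D.card_R (hc.wt_three D hv)]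
  rw [← hsub] at hfx
  obtain ⟨a, ha, e'⟩ := hfx
  exact ⟨a, ha, e'⟩

/-- A product of elements of two components is not conjugate to `σ`. -/
theorem pair_not_conj {h k : Vec} (hh3 : wt h = 3) (hk : wt k = 3) (h1 : h ≠ k) (h2 : h ≠ -k) {x y : G}
    (hx : x ∈ D.R h) (hy : y ∈ D.R k) (g : G) : g * (x * y) * g⁻¹ ≠ D.s := by
  intro hg
  obtain ⟨i, ε, e1, e2⟩ := pair_orbit h k hh3 hk h1 h2
  have hc := (D.move_sg ε).mul D (D.move_pow i.1)
  set c := D.sg ε * D.w ^ i.1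
  obtain ⟨x₀, hx₀, rfl⟩ := D.exists_preimage hc (by decide) e1 hx
  obtain ⟨y₀, hy₀, rfl⟩ := D.exists_preimage hc (by decide) e2 hy
  obtain ⟨V, hVz, hVf, hV3, -, -, -⟩ := D.hF.r_facts D.hs
  have hxr : x₀ * D.F.r = D.F.r * x₀ := by
    have := D.R_fix (by decide) dot_vr.1 hx₀
    rwa [Frame.ea, ePt_vr, D.F.el_r] at this
  have hyr : y₀ * D.F.r = D.F.r * y₀ := by
    have := D.R_fix (by decide) dot_vr.2.1 hy₀
    rwa [Frame.ea, ePt_vr, D.F.el_r] at this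
  set xC : D.F.Cr := ⟨x₀, D.F.mem_Cr.2 hxr⟩
  set yC : D.F.Cr := ⟨y₀, D.F.mem_Cr.2 hyr⟩
  have hVx : V xC = 1 := hVz _ (by
    have := D.R_fix (u := vz) (by decide) (by decide) hx₀
    rwa [Frame.ea, ePt_vz, D.F.el_z] at this)
  have hVy : V yC = 1 := hVf _ (by
    have := D.R_fix (u := k0) (by decide) (by decide) hy₀
    rw [Frame.ea, ePt_k0, show (![0, 0, 0, -1] : Four) = -![0, 0, 0, 1] by decide, D.F.el_neg, D.F.el_f] at this
    exact (inv_inv D.F.f ▸ (show Commute y₀ D.F.f⁻¹ from this).inv_right : Commute y₀ D.F.f).eq)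
  rw [conj_mul, show g * (c * (x₀ * y₀) * c⁻¹) * g⁻¹ = g * c * (x₀ * y₀) * (g * c)⁻¹ by group] at hg
  set g₁ := g * c
  have hd3 : (g₁ * D.F.r * g₁⁻¹) ^ 3 = 1 := by rw [conj_pow, D.F.r_cube, mul_one, mul_inv_cancel]
  have hds : g₁ * D.F.r * g₁⁻¹ * D.s = D.s * (g₁ * D.F.r * g₁⁻¹) := by
    rw [← hg]
    exact ((Commute.conj_iff g₁).2 ((show Commute x₀ D.F.r from hxr).mul_left hyr).symm).eq
  obtain ⟨c', hc's, v, hv2, hv⟩ := D.hs.three_conj D.hF hd3 hds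
  set g₂ := c' * g₁ with hg₂
  have hg2x : g₂ * (x₀ * y₀) * g₂⁻¹ = D.s := by
    rw [hg₂, show c' * g₁ * (x₀ * y₀) * (c' * g₁)⁻¹ = c' * (g₁ * (x₀ * y₀) * g₁⁻¹) * c'⁻¹ by group, hg, hc's,
      mul_inv_cancel_right]
  have hg2r : g₂ * D.F.el ![0, 0, 1, 0] * g₂⁻¹ = D.F.el v := by
    rw [D.F.el_r, ← hv, hg₂]; group
  have hqv : qf v = -1 := (D.hF.qf_conj hg2r).symm.trans qf_basic.2.2.1
  -- move `el v` onto `r`
  obtain ⟨m, φ, hm, hmv⟩ : ∃ m φ, D.F.Act m φ ∧ φ v = ![0, 0, 1, 0] := by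
    obtain ⟨k, φ, hk, hkv⟩ := D.hF.to_r hqv
    rw [hk, ← D.F.el_r, ← D.F.el_neg] at hkv
    rcases hkv with e | e
    · exact ⟨k, φ, hk, D.F.el_inj e⟩
    · obtain ⟨u₀, hu₀, -, -⟩ := D.hF.exists_neg
      exact ⟨u₀ * k, _, hu₀.mul hk, by rw [Function.comp_apply, D.F.el_inj e, neg_neg]⟩
  have hmr : m * g₂ ∈ D.F.Cr := D.F.mem_Cr.2 (mul_inv_eq_iff_eq_mul.1 (by
    rw [← D.F.el_r, show m * g₂ * D.F.el ![0, 0, 1, 0] * (m * g₂)⁻¹ =
      m * (g₂ * D.F.el ![0, 0, 1, 0] * g₂⁻¹) * m⁻¹ by group, hg2r, hm, hmv]))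
  set s' : D.F.Cr := ⟨m * g₂, hmr⟩ * (xC * yC) * ⟨m * g₂, hmr⟩⁻¹ with hs'
  have hVs : V s' = 1 := by rw [hs', map_mul, map_mul, map_mul, map_inv, hVx, hVy, one_mul, mul_one, mul_inv_cancel]
  have hs'v : (s' : G) = m * D.s * m⁻¹ := by
    rw [← hg2x]
    show m * g₂ * (x₀ * y₀) * (m * g₂)⁻¹ = _
    group
  -- its action
  set p := φ ![0, 0, 1, 0] with hp
  have hpq : qf p = -1 := (D.hF.isom hm _).trans qf_basic.2.2.1
  have hp2 : p 2 = 0 := by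
    have h := D.hF.bil_image hm ![0, 0, 1, 0] v
    rw [hmv, (perp_r.2 v).2 hv2] at h
    exact (perp_r.1 p).1 h
  have hact : D.F.Act (s' : G) (rneg p) := fun u => by
    obtain ⟨u, rfl⟩ := Finite.injective_iff_surjective.1 hm.injective u
    have e : rneg p (φ u) = φ (sR u) := by
      rw [← rneg_r, rneg, rneg, hp, D.hF.bil_image hm, hm.add, hm.smul]
    rw [e, ← hm, ← hm, ← D.hs.act, hs'v]
    group
  -- the decomposition
  obtain ⟨u, hur, -, hu⟩ := D.hF.exists_inv D.hs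
  have hVu : V ⟨u, hur⟩ ≠ 1 := hV3 _ (by
    rw [← D.F.el_z, hu, ← D.F.el_neg]
    congr 1
    decide)
  obtain ⟨q₁, q₂, hq₁, hq₂, h12, h22, hsplit⟩ : ∃ q₁ q₂ : Four, qf q₁ = 1 ∧ qf q₂ = 1 ∧ q₁ 2 = 0 ∧ q₂ 2 = 0 ∧
      ∀ v, rneg p v = negR (refl q₁ (refl q₂ v)) := by
    obtain ⟨⟨a1, a2⟩, ⟨b1, b2⟩, c1, c2⟩ := split_pts
    rcases rneg_split p hpq hp2 with e | e | e
    · exact ⟨_, _, a1, a2, rfl, rfl, e⟩
    · exact ⟨_, _, b1, b2, rfl, rfl, e⟩
    · exact ⟨_, _, c1, c2, rfl, rfl, e⟩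
  obtain ⟨a₁, hV₁, ha₁⟩ := D.hF.exists_refl_V hVz hVf hq₁ h12
  obtain ⟨a₂, hV₂, ha₂⟩ := D.hF.exists_refl_V hVz hVf hq₂ h22
  set W : D.F.Cr := ⟨u, hur⟩ * (a₁ * a₂) with hW
  have hWact : D.F.Act (W : G) (rneg p) := (hu.mul (ha₁.mul ha₂)).congr fun v => (hsplit v).symm
  obtain ⟨e0, he0⟩ := D.F.mem_E_iff.1 (D.hF.cent_E (c := ((W⁻¹ * s' : D.F.Cr) : G)) fun v => by
    refine mul_inv_eq_iff_eq_mul.1 ?_
    push_cast
    rw [show (W : G)⁻¹ * s' * D.F.el v * ((W : G)⁻¹ * s')⁻¹ = (W : G)⁻¹ * ((s' : G) * D.F.el v * (s' : G)⁻¹) * W by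
      group, hact, ← hWact]
    group)
  have hVE : V (W⁻¹ * s') = 1 := hVz _ (by rw [← he0, ← D.F.el_z]; exact D.F.el_comm _ _)
  rw [map_mul, map_inv, hVs, mul_one, inv_eq_one, hW, map_mul, map_mul, hV₁, hV₂, mul_one, mul_one] at hVE
  exact hVu hVE

end Dbl

end Loc

end Cfsg.Agent.Spor.OmegaEightThree
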