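import Cfsg.Agent.Lib.Spor.OmegaEightThree.XLevel
import Cfsg.Agent.Lib.Spor.OmegaEightThree.X.Signs
import Cfsg.Agent.Lib.Spor.OmegaEightThree.Double.Sigma

/-!
The axis with the signed cycle and the transposition: finite facts.
-/

set_option autoImplicit false
set_option maxRecDepth 100000

namespace Cfsg.Agent.Spor.OmegaEightThree

namespace Loc

open X (Vec wt mono dot hh)

/-- The transposition induced by `σ`. -/
def sV (v : Vec) : Vec := ![v 0, v 2, v 1]

theorem ePt_sV : ∀ v : Vec, ePt (sV v) = sR (ePt v) := by decide +kernel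

theorem dot_sV : ∀ u v : Vec, dot (sV u) (sV v) = dot u v := by decide +kernel

theorem dot_fV : ∀ u v : Vec, dot (fV u) (fV v) = dot u v := by decide +kernel

theorem dot_sign : ∀ (ε : X.Sgn) (u v : Vec), dot (mono 1 ε u) (mono 1 ε v) = dot u v := by decide +kernel

theorem dot_neg : ∀ u v : Vec, dot (-u) v = -dot u v := by decide +kernel

theorem dot_comm : ∀ u v : Vec, dot u v = dot v u := by decide +kernel

theorem dot_nondeg : ∀ v : Vec, (∀ u, dot v u = 0) → v = 0 := by decide +kernel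

theorem wt_three_iff : ∀ v : Vec, wt v = 3 ↔ v ≠ 0 ∧ dot v v = 0 := by decide +kernel

theorem dot_vz_iff : ∀ u : Vec, dot vz u = 0 ↔ (ePt u) 3 = 0 := by decide +kernel

theorem dot_k0_iff : ∀ u : Vec, dot k0 u = 0 ↔ (ePt u) 0 = 0 := by decide +kernel

theorem hh_three : hh 3 = vz ∧ hh 0 = k0 := by decide +kernel

theorem hh_sep : ∀ i j : Fin 4, i ≠ j → hh i ≠ hh j ∧ hh i ≠ -hh j := by decide +kernel

theorem hh_moved : ∀ i : Fin 4, ∃ u : Vec, dot (hh i) u ≠ 0 := by decide +kernel

theorem idx_neg : ∀ v : Vec, wt v = 3 → X.idx (-v) = X.idx v := by decide +kernel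

theorem idx_inj : ∀ u v : Vec, wt u = 3 → wt v = 3 → X.idx u = X.idx v → u = v ∨ u = -v := by decide +kernel

theorem dot_line : ∀ (h u v : Vec), dot h u ≠ 0 → ∃ c : ZMod 3, dot h (v + c • u) = 0 := by decide +kernel

theorem wt_pos : ∀ v : Vec, v ≠ 0 → wt v = 1 ∨ wt v = 2 ∨ wt v = 3 := by decide +kernel

end Loc

end Cfsg.Agent.Spor.OmegaEightThree
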