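import Cfsg.Agent.Lib.Spor.OmegaEightThree.Double.QuatZ
import Cfsg.Agent.Lib.Spor.OmegaEightThree.Double.PlaneData
import Cfsg.Agent.Lib.Spor.OmegaEightThree.Double.CentN

/-!
If `C/Q ≅ SL(2,3) × 2`: the four quaternion groups of `C_G(t)`, permuted by the sign changes, the translation
and `σ`, pairwise commute.
-/

set_option autoImplicit false
set_option linter.unusedSectionVars false
set_option linter.style.haveILetI false
set_option maxHeartbeats 1000000
set_option maxRecDepth 100000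

namespace Cfsg.Agent.Spor.OmegaEightThree

open X (Vec wt mono dot hh)

namespace Loc

variable {G : Type*} [Group G] [Finite G]

/-- The data of the case `C/Q ≅ SL(2,3) × 2`. -/
structure Dbl (T : Loc G) where
  F : Frame T
  hF : F.Classified
  s : G
  hs : F.IsSig s
  w : G
  wQ : w ∈ T.Q
  wt_comm : F.t * w = w * F.t
  wA : F.Act w Frame.mV
  sw : s * w * s⁻¹ = w⁻¹
  a : G
  aR : F.IsRefl a (pts 0)

variable {T : Loc G}

theorem exists_dbl {F : Frame T} (hF : F.Classified) (hD : ¬ T.Single) : Nonempty (Dbl T) := by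
  obtain ⟨s, hs⟩ := hF.exists_sig hD
  obtain ⟨w, h1, h2, h3, h4⟩ := hF.exists_w hs
  obtain ⟨a, ha⟩ := hF.exists_refl (pts_facts 0).1
  exact ⟨⟨F, hF, s, hs, w, h1, h2, h3, h4, a, ha⟩⟩

namespace Dbl

variable (D : Dbl T)

/-- An element commuting with `t` moving the axis isometrically. -/
structure Move (c : G) (f : Vec → Vec) : Prop where
  comm : c * D.F.t = D.F.t * c
  act : D.F.ActA c f
  dot_eq : ∀ u v, dot (f u) (f v) = dot u v

theorem Move.inj {c : G} {f : Vec → Vec} (h : D.Move c f) : Function.Injective f := fun u v e =>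
  Frame.ea_inj (F := D.F) (mul_left_cancel (mul_right_cancel ((h.act u).trans (e ▸ (h.act v).symm))))

theorem Move.surj {c : G} {f : Vec → Vec} (h : D.Move c f) : Function.Surjective f :=
  Finite.injective_iff_surjective.1 (h.inj D)

theorem Move.neg {c : G} {f : Vec → Vec} (h : D.Move c f) (v : Vec) : f (-v) = -f v := by
  refine Frame.ea_inj (F := D.F) ?_
  have e : ∀ u : Vec, D.F.ea (-u) = (D.F.ea u)⁻¹ := fun u => by rw [Frame.ea, Frame.ea, ePt_neg, D.F.el_neg]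
  rw [← h.act, e, e, ← conj_inv, h.act]

theorem Move.mul {c c' : G} {f f' : Vec → Vec} (h : D.Move c f) (h' : D.Move c' f') :
    D.Move (c * c') (f ∘ f') :=
  ⟨((show Commute c D.F.t from h.comm).mul_left h'.comm).eq, h.act.mul h'.act,
    fun u v => (h.dot_eq _ _).trans (h'.dot_eq u v)⟩

theorem Move.wt_three {c : G} {f : Vec → Vec} (h : D.Move c f) {v : Vec} (hv : wt v = 3) : wt (f v) = 3 := by
  rw [wt_three_iff] at hv ⊢
  refine ⟨fun e => hv.1 (dot_nondeg v fun u => ?_), by rw [h.dot_eq]; exact hv.2⟩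
  rw [← h.dot_eq v u, e]
  simp [dot]

theorem move_w : D.Move D.w fV :=
  ⟨D.wt_comm.symm, fun v => by
    show D.w * D.F.el (ePt v) * D.w⁻¹ = D.F.el (ePt (fV v))
    rw [D.wA, ePt_fV], dot_fV⟩

theorem move_s : D.Move D.s sV :=
  ⟨D.hs.comm, fun v => by
    show D.s * D.F.el (ePt v) * D.s⁻¹ = D.F.el (ePt (sV v))
    rw [D.hs.act, ePt_sV], dot_sV⟩

theorem move_ea (u : Vec) : D.Move (D.F.ea u) id :=
  ⟨(Frame.ea_comm_t u).symm, fun v => by
    rw [show D.F.ea u * D.F.ea v = D.F.ea v * D.F.ea u from D.F.el_comm _ _, mul_inv_cancel_right]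
    rfl, fun _ _ => rfl⟩

theorem exists_move_sign (ε : X.Sgn) : ∃ g, g * g = 1 ∧ D.Move g (mono 1 ε) := by
  obtain ⟨g, h1, h2, h3⟩ := D.hF.exists_sign ε
  exact ⟨g, h2, h1, h3, dot_sign ε⟩

theorem move_one : D.Move 1 id := ⟨by simp, fun v => by simp, fun _ _ => rfl⟩

theorem move_pow (i : ℕ) : D.Move (D.w ^ i) fV^[i] := by
  induction i with
  | zero => rw [pow_zero]; exact D.move_one
  | succ i ih => rw [pow_succ, Function.iterate_succ]; exact ih.mul D D.move_w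

/-- The elements generating the quaternion group of a functional. -/
def QR (v : Vec) : Set G :=
  {g | g * D.F.t = D.F.t * g ∧ (∀ u, dot v u = 0 → g * D.F.ea u = D.F.ea u * g) ∧ g ^ 4 = 1}

/-- The quaternion group of a functional. -/
def R (v : Vec) : Subgroup G := Subgroup.closure (D.QR v)

theorem Move.map_QR {c : G} {f : Vec → Vec} (h : D.Move c f) {v : Vec} {x : G} (hx : x ∈ D.QR v) :
    c * x * c⁻¹ ∈ D.QR (f v) := by
  refine ⟨?_, fun u hu => ?_, by rw [conj_pow, hx.2.2, mul_one, mul_inv_cancel]⟩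
  · have := (Commute.conj_iff c).2 (show Commute x D.F.t from hx.1)
    rwa [h.comm, mul_inv_cancel_right] at this
  · obtain ⟨u₀, rfl⟩ := h.surj D u
    rw [h.dot_eq] at hu
    have := (Commute.conj_iff c).2 (show Commute x (D.F.ea u₀) from hx.2.1 u₀ hu)
    rwa [h.act] at this

theorem QR_vz : D.QR vz = {g | D.F.Quat ![1, 0, 0, 0] g} := by
  ext g
  constructor
  · rintro ⟨h1, h2, h4⟩
    have hz := h2 vz (by decide)
    have hr := h2 vr (by decide)
    rw [Frame.ea, ePt_vz] at hz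
    rw [Frame.ea, ePt_vr, D.F.el_r] at hr
    exact ⟨h1, hz, hr, h4⟩
  · intro h
    refine ⟨h.comm_t, fun u hu => ?_, h.four⟩
    rw [dot_vz_iff] at hu
    have e : D.F.ea u = D.F.el ((ePt u) 0 • ![1, 0, 0, 0]) * D.F.el ((ePt u) 2 • ![0, 0, 1, 0]) := by
      rw [← D.F.el_mul, Frame.ea]
      congr 1
      funext i
      fin_cases i <;> simp [ePt_one u, hu]
    rw [e, D.F.el_smul, D.F.el_smul, D.F.el_r]
    exact (((show Commute g (D.F.el _) from h.comm_v).pow_right _).mul_right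
      ((show Commute g D.F.r from h.comm_r).pow_right _)).eq

theorem R_vz : D.R vz = D.hF.quatZ := by
  rw [R, D.QR_vz]
  exact Subgroup.closure_eq D.hF.quatZ

theorem QR_neg (v : Vec) : D.QR (-v) = D.QR v := by
  ext g
  simp only [QR, Set.mem_setOf_eq, dot_neg, neg_eq_zero]

theorem R_neg (v : Vec) : D.R (-v) = D.R v := by rw [R, R, D.QR_neg]

theorem exists_to_vz {v : Vec} (hv : wt v = 3) :
    ∃ g f, g * g = 1 ∧ D.Move g f ∧ f v = vz ∧ f vz = v := by
  obtain ⟨ε, hε⟩ := to_vz v hv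
  obtain ⟨g, hg, hm⟩ := D.exists_move_sign ε
  exact ⟨g, _, hg, hm, hε, by rw [← hε, sign_twice]⟩

theorem mem_R {v : Vec} (hv : wt v = 3) {x : G} : x ∈ D.R v ↔ x ∈ D.QR v := by
  refine ⟨fun hx => ?_, fun hx => Subgroup.subset_closure hx⟩
  obtain ⟨g, f, hg, hm, h1, h2⟩ := D.exists_to_vz hv
  have hle : (D.R v).map (MulAut.conj g).toMonoidHom ≤ D.hF.quatZ := by
    rw [← D.R_vz, R, MonoidHom.map_closure, Subgroup.closure_le]
    rintro _ ⟨y, hy, rfl⟩
    exact Subgroup.subset_closure (h1 ▸ hm.map_QR D hy)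
  have hgx : g * x * g⁻¹ ∈ D.QR vz := by rw [D.QR_vz]; exact hle ⟨x, hx, rfl⟩
  have h := h2 ▸ hm.map_QR D hgx
  rwa [inv_eq_of_mul_eq_one_right hg, show g * (g * x * g) * g = g * g * x * (g * g) by group, hg, one_mul,
    mul_one] at h

theorem Move.map_R {c : G} {f : Vec → Vec} (h : D.Move c f) {v : Vec} (hv : wt v = 3) {x : G} (hx : x ∈ D.R v) :
    c * x * c⁻¹ ∈ D.R (f v) :=
  (D.mem_R (h.wt_three D hv)).2 (h.map_QR D ((D.mem_R hv).1 hx))

theorem to_quat {v : Vec} (hv : wt v = 3) :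
    ∃ g f, g * g = 1 ∧ D.Move g f ∧ f v = vz ∧ ∀ x, x ∈ D.R v ↔ D.F.Quat ![1, 0, 0, 0] (g * x * g⁻¹) := by
  obtain ⟨g, f, hg, hm, h1, h2⟩ := D.exists_to_vz hv
  refine ⟨g, f, hg, hm, h1, fun x => ⟨fun hx => ?_, fun hx => ?_⟩⟩
  · have := (D.mem_R (by decide)).1 (h1 ▸ hm.map_R D hv hx : g * x * g⁻¹ ∈ D.R vz)
    rwa [D.QR_vz] at this
  · have hq : g * x * g⁻¹ ∈ D.R vz := by rw [D.R_vz]; exact hx
    have := h2 ▸ hm.map_R D (by decide) hq
    rwa [inv_eq_of_mul_eq_one_right hg, show g * (g * x * g) * g = g * g * x * (g * g) by group, hg, one_mul,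
      mul_one] at this

theorem card_R {v : Vec} (hv : wt v = 3) : Nat.card (D.R v) = 8 := by
  obtain ⟨g, f, -, -, -, h⟩ := D.to_quat hv
  rw [← D.hF.card_quatZ, ← Subgroup.card_map_of_injective (K := D.R v) (f := (MulAut.conj g).toMonoidHom)
    (MulAut.conj g).injective]
  refine congrArg (fun K : Subgroup G => Nat.card K) (le_antisymm ?_ fun y hy => ?_)
  · rintro _ ⟨x, hx, rfl⟩
    exact (h x).1 hx
  · exact ⟨g⁻¹ * y * g, (h _).2 (by rwa [show g * (g⁻¹ * y * g) * g⁻¹ = y by group]), by simp; group⟩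

theorem t_mem {v : Vec} (hv : wt v = 3) : D.F.t ∈ D.R v :=
  (D.mem_R hv).2 ⟨rfl, fun u _ => Frame.ea_comm_t u,
    by rw [show 4 = 2 * 2 from rfl, pow_mul, pow_two D.F.t, D.F.ht.sq, one_pow]⟩

theorem R_sq {v : Vec} (hv : wt v = 3) {x : G} (hx : x ∈ D.R v) : x * x = 1 ∨ x * x = D.F.t := by
  obtain ⟨g, f, -, hm, -, h⟩ := D.to_quat hv
  have h2 := ((h x).1 hx).sq D.hF
  rw [conj_mul] at h2
  refine h2.imp (fun e => conj_eq_one_iff.1 e) fun e => ?_
  rw [← mul_right_inj g, ← mul_left_inj g⁻¹, e, hm.comm, mul_inv_cancel_right]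

theorem R_invol {v : Vec} (hv : wt v = 3) {x : G} (hx : x ∈ D.R v) (h2 : x * x = 1) : x = 1 ∨ x = D.F.t := by
  obtain ⟨g, f, -, hm, -, h⟩ := D.to_quat hv
  refine (((h x).1 hx).invol D.hF (by rw [conj_mul, h2, mul_one, mul_inv_cancel])).imp
    (fun e => conj_eq_one_iff.1 e) fun e => ?_
  rw [← mul_right_inj g, ← mul_left_inj g⁻¹, e, hm.comm, mul_inv_cancel_right]

theorem R_fix {v u : Vec} (hv : wt v = 3) (hu : dot v u = 0) {x : G} (hx : x ∈ D.R v) :
    x * D.F.ea u = D.F.ea u * x :=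
  ((D.mem_R hv).1 hx).2.1 u hu

theorem R_norm {v : Vec} (u : Vec) (hv : wt v = 3) {x : G} (hx : x ∈ D.R v) :
    D.F.ea u * x * (D.F.ea u)⁻¹ ∈ D.R v :=
  (D.move_ea u).map_R D hv hx

theorem R_move {v u : Vec} (hv : wt v = 3) (hu : dot v u ≠ 0) {x : G} (hx : x ∈ D.R v)
    (hc : D.F.ea u * x = x * D.F.ea u) : x = 1 ∨ x = D.F.t := by
  obtain ⟨g, f, -, hm, h1, h⟩ := D.to_quat hv
  have hy : (ePt (f u)) 3 ≠ 0 := fun e => hu (by rw [← hm.dot_eq, h1]; exact (dot_vz_iff _).2 e)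
  have hc' := (Commute.conj_iff g).2 (show Commute (D.F.ea u) x from hc)
  rw [hm.act] at hc'
  refine (((h x).1 hx).move D.hF hy hc'.eq).imp (fun e => conj_eq_one_iff.1 e) fun e => ?_
  rw [← mul_right_inj g, ← mul_left_inj g⁻¹, e, hm.comm, mul_inv_cancel_right]

theorem base_comm {x y : G} (hx : x ∈ D.R vz) (hy : y ∈ D.R k0) : x * y = y * x := by
  obtain ⟨-, -, -, -, hcomm, -, -⟩ := D.hF.r_facts D.hs
  rw [D.R_vz] at hx
  obtain ⟨h1, h2, h4⟩ := (D.mem_R (by decide)).1 hy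
  have hk := h2 k0 (by decide)
  have hr := h2 vr (by decide)
  rw [Frame.ea, ePt_k0, show (![0, 0, 0, -1] : Four) = -![0, 0, 0, 1] by decide, D.F.el_neg] at hk
  rw [Frame.ea, ePt_vr, D.F.el_r] at hr
  have hk' : Commute y (D.F.el ![0, 0, 0, 1]) := inv_inv (D.F.el ![0, 0, 0, 1]) ▸
    (show Commute y (D.F.el ![0, 0, 0, 1])⁻¹ from hk).inv_right
  exact hcomm x y hx ⟨h1, hk'.eq, hr, h4⟩

theorem R_comm {h k : Vec} (hh3 : wt h = 3) (hk : wt k = 3) (h1 : h ≠ k) (h2 : h ≠ -k) {x y : G}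
    (hx : x ∈ D.R h) (hy : y ∈ D.R k) : x * y = y * x := by
  obtain ⟨i, ε, e1, e2⟩ := pair_orbit h k hh3 hk h1 h2
  obtain ⟨g, -, hg⟩ := D.exists_move_sign ε
  have hc := hg.mul D (D.move_pow i.1)
  set c := g * D.w ^ i.1
  have back : ∀ {h v : Vec}, wt v = 3 → (mono 1 ε (fV^[i.1] v) = h ∨ mono 1 ε (fV^[i.1] v) = -h) →
      ∀ {x : G}, x ∈ D.R h → ∃ x₀ ∈ D.R v, c * x₀ * c⁻¹ = x := by
    intro h v hv e x hx
    have hfx : x ∈ D.R ((mono 1 ε ∘ fV^[i.1]) v) := by
      rcases e with e | e <;> rw [Function.comp_apply, e]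
      · exact hx
      · rwa [D.R_neg]
    have hwt := hc.wt_three D hv
    have hsub : (D.R v).map (MulAut.conj c).toMonoidHom = D.R ((mono 1 ε ∘ fV^[i.1]) v) := by
      refine Subgroup.eq_of_le_of_card_ge ?_ ?_
      · rintro _ ⟨a, ha, rfl⟩
        exact hc.map_R D hv ha
      · rw [Subgroup.card_map_of_injective (MulAut.conj c).injective, D.card_R hv, D.card_R hwt]
    rw [← hsub] at hfx
    obtain ⟨a, ha, e'⟩ := hfx
    exact ⟨a, ha, e'⟩
  obtain ⟨x₀, hx₀, rfl⟩ := back (by decide) e1 hx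
  obtain ⟨y₀, hy₀, rfl⟩ := back (by decide) e2 hy
  rw [conj_mul, conj_mul, D.base_comm hx₀ hy₀]

/-- A plane meets the centraliser of itself in `⟨t⟩`. -/
theorem R_centre {v : Vec} (hv : wt v = 3) {x : G} (hx : x ∈ D.R v) (hc : ∀ y ∈ D.R v, x * y = y * x) :
    x = 1 ∨ x = D.F.t := by
  classical
  by_contra hne
  push Not at hne
  have hx2 : x * x = D.F.t := (D.R_sq hv hx).resolve_left fun e => by
    rcases D.R_invol hv hx e with e | e
    exacts [hne.1 e, hne.2 e]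
  have key : ∀ y : D.R v, (y : G) ∈ ({1, D.F.t, x⁻¹, x⁻¹ * D.F.t} : Finset G) := by
    rintro ⟨y, hy⟩
    simp only [Finset.mem_insert, Finset.mem_singleton]
    by_cases h2 : y * y = 1
    · exact (D.R_invol hv hy h2).imp_right Or.inl
    have e : x * y * (x * y) = 1 := by
      calc x * y * (x * y) = x * (y * x) * y := by group
        _ = x * x * (y * y) := by rw [← hc y hy]; group
        _ = 1 := by rw [hx2, (D.R_sq hv hy).resolve_left h2, D.F.ht.sq]
    rcases D.R_invol hv (mul_mem hx hy) e with e1 | e1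
    · exact Or.inr (Or.inr (Or.inl (by rw [← mul_one x⁻¹, ← e1, inv_mul_cancel_left])))
    · exact Or.inr (Or.inr (Or.inr (by rw [← e1, inv_mul_cancel_left])))
  have h4 := Nat.card_le_card_of_injective
    (fun y : D.R v => (⟨y, key y⟩ : ↥({1, D.F.t, x⁻¹, x⁻¹ * D.F.t} : Finset G)))
    (fun y y' e => Subtype.ext (congrArg Subtype.val e :))
  rw [D.card_R hv, Nat.card_eq_fintype_card, Fintype.card_coe] at h4
  have : ({1, D.F.t, x⁻¹, x⁻¹ * D.F.t} : Finset G).card ≤ 4 := Finset.card_le_four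
  omega

end Dbl

end Loc

end Cfsg.Agent.Spor.OmegaEightThree
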