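import Cfsg.Agent.Lib.Spor.OmegaEightThree.Double.Product
import Cfsg.Agent.Lib.Spor.OmegaEightThree.Double.CentNorm

/-!
`M = Y N(A)` contains the centralisers in `C_G(t)` of the nontrivial elements of the axis `A`.
-/

set_option autoImplicit false
set_option linter.unusedSectionVars false
set_option maxHeartbeats 1000000
set_option maxRecDepth 100000

namespace Cfsg.Agent.Spor.OmegaEightThree

open X (Vec wt mono dot hh hh_wt)

namespace Loc

theorem dot_of_qf : ∀ u v : Vec, bil (ePt v) (ePt u) = 2 * dot u v := Loc.dot_bil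

theorem wt_one_qf : ∀ u : Vec, wt u = 1 → qf (ePt u) = 1 := by decide +kernel

theorem half_eq : ∀ a b : ZMod 3, 2 * a = 2 * b → a = b := by decide

namespace Dbl

variable {G : Type*} [Group G] [Finite G] {T : Loc G} (D : Dbl T)

theorem ea_add (u v : Vec) : D.F.ea (u + v) = D.F.ea u * D.F.ea v := by
  rw [Frame.ea, ePt_add, D.F.el_mul]; rfl

theorem ea_zero : D.F.ea 0 = 1 := by rw [Frame.ea, show ePt 0 = 0 by simp [ePt], D.F.el_zero]

theorem ea_neg (u : Vec) : D.F.ea (-u) = (D.F.ea u)⁻¹ := by rw [Frame.ea, ePt_neg, D.F.el_neg]; rfl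

theorem ea_cube (u : Vec) : D.F.ea u ^ 3 = 1 := D.F.el_cube _

/-- The elements of `C_G(t)` normalising the axis. -/
def NA : Subgroup G where
  carrier := {k | k * D.F.t = D.F.t * k ∧ ∀ u, ∃ u', k * D.F.ea u * k⁻¹ = D.F.ea u'}
  one_mem' := ⟨by simp, fun u => ⟨u, by simp⟩⟩
  mul_mem' {k l} hk hl := ⟨((show Commute k D.F.t from hk.1).mul_left hl.1).eq, fun u => by
    obtain ⟨u₁, h₁⟩ := hl.2 u
    obtain ⟨u₂, h₂⟩ := hk.2 u₁
    exact ⟨u₂, by rw [← h₂, ← h₁]; group⟩⟩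
  inv_mem' {k} hk := ⟨(show Commute k D.F.t from hk.1).inv_left.eq, fun u => by
    choose f hf using hk.2
    have hinj : Function.Injective f := fun v v' e =>
      Frame.ea_inj (F := D.F) (mul_left_cancel (mul_right_cancel ((hf v).trans (e ▸ (hf v').symm))))
    obtain ⟨v, rfl⟩ := Finite.surjective_of_injective hinj u
    exact ⟨v, by rw [← hf]; group⟩⟩

theorem mem_NA {k : G} : k ∈ D.NA ↔ k * D.F.t = D.F.t * k ∧ ∀ u, ∃ u', k * D.F.ea u * k⁻¹ = D.F.ea u' := Iff.rfl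

theorem Move.mem {c : G} {f : Vec → Vec} (h : D.Move c f) : c ∈ D.NA := ⟨h.comm, fun u => ⟨f u, h.act u⟩⟩

/-- The normaliser of the axis moves it isometrically. -/
theorem exists_move_of_NA {k : G} (hk : k ∈ D.NA) : ∃ f, D.Move k f ∧ ∀ u v, f (u + v) = f u + f v := by
  choose f hf using hk.2
  have hadd : ∀ u v, f (u + v) = f u + f v := fun u v => Frame.ea_inj (F := D.F) (by
    rw [← hf, D.ea_add, D.ea_add, ← conj_mul, hf, hf])
  refine ⟨f, ⟨hk.1, hf, fun u v => ?_⟩, hadd⟩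
  have hq : ∀ u, qf (ePt (f u)) = qf (ePt u) := fun u => (D.hF.qf_conj (hf u)).symm
  refine half_eq _ _ ?_
  rw [← dot_of_qf, ← dot_of_qf, bil, bil, ← ePt_add, ← hadd, hq, hq, hq, ← ePt_add]

theorem norm_to_NA {k : G} (hN : k ∈ Subgroup.normalizer (D.F.E : Set G)) (hkt : k * D.F.t = D.F.t * k) :
    k ∈ D.NA := by
  refine ⟨hkt, fun u => ?_⟩
  obtain ⟨x, hx⟩ := D.F.mem_E_iff.1 ((Subgroup.mem_normalizer_iff.1 hN (D.F.ea u)).1 (D.F.el_mem _))
  have h : Commute (k * D.F.ea u * k⁻¹) D.F.t := by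
    have := (Commute.conj_iff k).2 (show Commute (D.F.ea u) D.F.t from (Frame.ea_comm_t u).symm)
    rwa [hkt, mul_inv_cancel_right] at this
  rw [← hx] at h
  have h2 := mul_inv_eq_iff_eq_mul.2 h.symm.eq
  rw [D.F.conj_t] at h2
  obtain ⟨v, rfl⟩ := ePt_surj x ((show ∀ a : ZMod 3, -a = a → a = 0 by decide) _
    (by simpa using congrFun (D.F.el_inj h2) 1))
  exact ⟨v, hx.symm⟩

theorem t_NA : D.F.t ∈ D.NA := ⟨rfl, fun u => ⟨u, by rw [Frame.ea_comm_t, mul_inv_cancel_right]⟩⟩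

theorem NA_conj_Y {k y : G} (hk : k ∈ D.NA) (hy : y ∈ D.Y) : k * y * k⁻¹ ∈ D.Y := by
  obtain ⟨f, hf, -⟩ := D.exists_move_of_NA hk
  exact hf.conj_Y D hy

/-- `M = Y N(A)`. -/
def M : Subgroup G where
  carrier := {g | ∃ y ∈ D.Y, ∃ k ∈ D.NA, g = y * k}
  one_mem' := ⟨1, one_mem _, 1, one_mem _, by simp⟩
  mul_mem' := by
    rintro _ _ ⟨y, hy, k, hk, rfl⟩ ⟨y', hy', k', hk', rfl⟩
    exact ⟨y * (k * y' * k⁻¹), mul_mem hy (D.NA_conj_Y hk hy'), k * k', mul_mem hk hk', by group⟩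
  inv_mem' := by
    rintro _ ⟨y, hy, k, hk, rfl⟩
    exact ⟨k⁻¹ * y⁻¹ * k⁻¹⁻¹, D.NA_conj_Y (inv_mem hk) (inv_mem hy), k⁻¹, inv_mem hk, by group⟩

theorem Y_le_M : D.Y ≤ D.M := fun y hy => ⟨y, hy, 1, one_mem _, by simp⟩

theorem NA_le_M : D.NA ≤ D.M := fun k hk => ⟨1, one_mem _, k, hk, by simp⟩

theorem M_comm_t {g : G} (hg : g ∈ D.M) : g * D.F.t = D.F.t * g := by
  obtain ⟨y, hy, k, hk, rfl⟩ := hg
  exact ((show Commute y D.F.t from D.Y_comm_t hy).mul_left hk.1).eq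

theorem Q_norm_E {q : G} (hq : q ∈ T.Q) : q ∈ Subgroup.normalizer (D.F.E : Set G) := by
  obtain ⟨q₁, h₁, hU⟩ := D.hF.exists_U
  obtain ⟨i, j, e, he, rfl⟩ := Frame.Q_gen h₁ hU D.wQ D.wA hq
  exact mul_mem (mul_mem (pow_mem hU.mem i) (pow_mem D.wA.mem j)) (Subgroup.le_normalizer he)

/-- The centraliser of the singular point. -/
theorem cent_vz {g : G} (hgt : g * D.F.t = D.F.t * g) (hgz : g * T.z = T.z * g) : g ∈ D.M := by
  have key : ∀ g, g * D.F.t = D.F.t * g → ∀ hg : g ∈ T.C, T.η ⟨g, hg⟩ = 1 → g ∈ D.M := by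
    intro g hgt hg hη
    obtain ⟨y, hy, e, hq⟩ := D.hF.cent_z_split hg hη
    have hft : Commute D.F.f D.F.t := D.F.f_t.symm
    have hqt : ((y * D.F.f ^ e)⁻¹ * g) * D.F.t = D.F.t * ((y * D.F.f ^ e)⁻¹ * g) :=
      ((((show Commute y D.F.t from hy.comm_t).mul_left (hft.pow_left e)).inv_left).mul_left hgt).eq
    have h1 : y ∈ D.M := by
      refine D.Y_le_M (D.R_le_Y 3 ?_)
      show y ∈ D.R (hh 3)
      rw [hh_three.1, D.R_vz]
      exact hy
    have h2 : D.F.f ^ e ∈ D.M := by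
      refine D.NA_le_M (D.norm_to_NA (pow_mem (Subgroup.le_normalizer D.F.f_mem_E) e) ?_)
      exact (hft.pow_left e).eq
    have h3 := D.NA_le_M (D.norm_to_NA (D.Q_norm_E hq) hqt)
    have := mul_mem (mul_mem h1 h2) h3
    rwa [mul_inv_cancel_left] at this
  have hg : g ∈ T.C := T.mem_C.2 hgz
  by_cases hη : T.η ⟨g, hg⟩ = 1
  · exact key g hgt hg hη
  · have h := key (D.s * g) ((show Commute D.s D.F.t from D.hs.comm).mul_left hgt).eq (mul_mem D.hs.mem hg) (by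
      show T.η (⟨D.s, D.hs.mem⟩ * ⟨g, hg⟩) = 1
      rw [map_mul]; exact mult_two_ne _ _ D.hs.eta hη)
    exact (Subgroup.mul_mem_cancel_left _ (D.NA_le_M D.move_s.mem)).1 h

/-- The centraliser of `r`. -/
theorem cent_vr {g : G} (hgt : g * D.F.t = D.F.t * g) (hgr : g * D.F.r = D.F.r * g) : g ∈ D.M := by
  obtain ⟨-, -, -, -, -, -, hsplit⟩ := D.hF.r_facts D.hs
  obtain ⟨a, b, k, ha, hb, rfl, hkt, hk⟩ := hsplit g hgt hgr
  refine mul_mem (mul_mem (D.Y_le_M (D.R_le_Y 3 ?_)) (D.Y_le_M (D.R_le_Y 0 ?_))) (D.NA_le_M ⟨hkt, fun u => ?_⟩)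
  · show a ∈ D.R (hh 3)
    rw [hh_three.1, D.R_vz]
    exact ha
  · show b ∈ D.R (hh 0)
    refine (D.mem_R (hh_wt 0)).2 ⟨hb.comm_t, fun u hu => ?_, hb.four⟩
    rw [hh_three.2, dot_k0_iff] at hu
    have e : D.F.ea u = D.F.el ((ePt u) 2 • ![0, 0, 1, 0]) * D.F.el ((ePt u) 3 • ![0, 0, 0, 1]) := by
      rw [← D.F.el_mul, Frame.ea]
      congr 1
      funext i
      fin_cases i <;> simp [ePt_one u, hu]
    rw [e, D.F.el_smul, D.F.el_smul, D.F.el_r]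
    exact (((show Commute b D.F.r from hb.comm_r).pow_right _).mul_right
      ((show Commute b (D.F.el _) from hb.comm_v).pow_right _)).eq
  · obtain ⟨v', hv', e⟩ := hk (ePt u) (ePt_one u)
    obtain ⟨u', rfl⟩ := ePt_surj v' hv'
    exact ⟨u', e⟩

/-- The centralisers of the nontrivial elements of the axis. -/
theorem cent_le_M {u : Vec} (hu : u ≠ 0) {g : G} (hgt : g * D.F.t = D.F.t * g)
    (hgu : g * D.F.ea u = D.F.ea u * g) : g ∈ D.M := by
  have key : ∀ (c : G) (f : Vec → Vec) (u₀ : Vec), D.Move c f → f u₀ = u →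
      (∀ g', g' * D.F.t = D.F.t * g' → g' * D.F.ea u₀ = D.F.ea u₀ * g' → g' ∈ D.M) → g ∈ D.M := by
    intro c f u₀ hc hfu hbase
    subst hfu
    have h := hbase (c⁻¹ * g * c) ?_ ?_
    · have hcM := D.NA_le_M hc.mem
      have := mul_mem (mul_mem hcM h) (inv_mem hcM)
      rwa [show c * (c⁻¹ * g * c) * c⁻¹ = g by group] at this
    · have hct : Commute c D.F.t := hc.comm
      exact ((hct.inv_left.mul_left hgt).mul_left hct).eq
    · refine (Commute.conj_iff c).1 ?_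
      rw [show c * (c⁻¹ * g * c) * c⁻¹ = g by group, hc.act]
      exact hgu
  rcases wt_pos u hu with h | h | h
  · exact D.NA_le_M (D.norm_to_NA
      (D.hF.cent_norm D.hs (wt_one_qf u h) (Subgroup.mem_centralizer_singleton_iff.2 hgu)) hgt)
  · obtain ⟨i, ε, hi⟩ := two_orbit u h
    obtain ⟨c, -, hc⟩ := D.exists_move_sign ε
    refine key _ _ vr (hc.mul D (D.move_pow i.1)) hi fun g' h1 h2 => D.cent_vr h1 ?_
    rwa [Frame.ea, ePt_vr, D.F.el_r] at h2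
  · obtain ⟨ε, he⟩ := three_orbit u h
    obtain ⟨c, -, hc⟩ := D.exists_move_sign ε
    refine key _ _ vz hc he fun g' h1 h2 => D.cent_vz h1 ?_
    rwa [Frame.ea, ePt_vz, D.F.el_z] at h2

/-- The centraliser of the axis. -/
theorem cent_axis {k : G} (hkt : k * D.F.t = D.F.t * k) (hk : ∀ u, k * D.F.ea u = D.F.ea u * k) :
    ∃ v, k = D.F.ea v ∨ k = D.F.ea v * D.F.t := by
  have hN : k ∈ Subgroup.normalizer (D.F.E : Set G) :=
    D.hF.cent_norm D.hs (wt_one_qf ![1, 0, 0] (by decide)) (Subgroup.mem_centralizer_singleton_iff.2 (hk _))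
  obtain ⟨ψ, hψ⟩ := D.F.exists_act hN
  have hfix : ∀ x : Four, x 1 = 0 → ψ x = x := by
    intro x hx
    obtain ⟨v, rfl⟩ := ePt_surj x hx
    refine hψ.apply_eq ?_
    show k * D.F.ea v * k⁻¹ = D.F.ea v
    rw [hk, mul_inv_cancel_right]
  have hn : ψ ![0, 1, 0, 0] = ![0, 1, 0, 0] ∨ ψ ![0, 1, 0, 0] = -![0, 1, 0, 0] := by
    have b : ∀ x : Four, x 1 = 0 → bil (ψ ![0, 1, 0, 0]) x = bil ![0, 1, 0, 0] x := fun x hx => by
      conv_lhs => rw [← hfix x hx]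
      exact D.hF.bil_image hψ _ _
    have b4 := D.hF.isom hψ ![0, 1, 0, 0]
    have b1 := b ![1, 0, 0, 0] rfl
    have b2 := b ![0, 0, 1, 0] rfl
    have b3 := b ![0, 0, 0, 1] rfl
    rw [four_eta (ψ ![0, 1, 0, 0])] at b1 b2 b3 b4 ⊢
    exact n_image _ _ _ _ (b1.trans (by simp [bil_eq])) (b2.trans (by simp [bil_eq])) (b3.trans (by simp [bil_eq]))
      (b4.trans qf_basic.2.1)
  have hdone : ∀ g', g' * D.F.t = D.F.t * g' → (∀ x, g' * D.F.el x = D.F.el x * g') → ∃ v, g' = D.F.ea v := by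
    intro g' ht hc
    obtain ⟨x, rfl⟩ := D.F.mem_E_iff.1 (D.hF.cent_E hc)
    have h := mul_inv_eq_iff_eq_mul.2 ht.symm
    rw [D.F.conj_t] at h
    obtain ⟨v, rfl⟩ := ePt_surj x ((show ∀ a : ZMod 3, -a = a → a = 0 by decide) _
      (by simpa using congrFun (D.F.el_inj h) 1))
    exact ⟨v, rfl⟩
  have hlin : ∀ x : Four, ψ x = ![x 0, 0, x 2, x 3] + x 1 • ψ ![0, 1, 0, 0] := by
    intro x
    have e : x = ![x 0, 0, x 2, x 3] + x 1 • ![0, 1, 0, 0] := by funext j; fin_cases j <;> simp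
    conv_lhs => rw [e, hψ.add, hψ.smul, hfix _ rfl]
  rcases hn with hn | hn
  · obtain ⟨v, hv⟩ := hdone k hkt fun x => by
      refine mul_inv_eq_iff_eq_mul.1 ?_
      rw [hψ, hlin, hn]
      congr 1
      funext j; fin_cases j <;> simp
    exact ⟨v, Or.inl hv⟩
  · obtain ⟨v, hv⟩ := hdone (k * D.F.t) ((show Commute k D.F.t from hkt).mul_left (Commute.refl _)).eq fun x => by
      refine mul_inv_eq_iff_eq_mul.1 ?_
      rw [show k * D.F.t * D.F.el x * (k * D.F.t)⁻¹ = k * (D.F.t * D.F.el x * D.F.t⁻¹) * k⁻¹ by group,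
        D.F.conj_t, hψ, hlin, hn]
      congr 1
      funext j; fin_cases j <;> simp
    refine ⟨v, Or.inr ?_⟩
    rw [← hv, mul_assoc, D.F.ht.sq, mul_one]

/-- `A ∩ Y = 1`. -/
theorem ea_mem_Y {u : Vec} (h : D.F.ea u ∈ D.Y) : u = 0 := by
  have h1 : D.F.ea u = 1 := by
    have e1 : orderOf (D.F.ea u) ∣ 512 := D.card_Y ▸ Subgroup.orderOf_dvd_natCard _ h
    exact orderOf_eq_one_iff.1 (Nat.eq_one_of_dvd_coprimes (by norm_num : Nat.Coprime 3 512)
      (orderOf_dvd_of_pow_eq_one (D.ea_cube u)) e1)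
  exact Frame.ea_inj (F := D.F) (h1.trans D.ea_zero.symm)

/-- `Y ∩ N(A) = ⟨t⟩`. -/
theorem Y_inf_NA {y : G} (hy : y ∈ D.Y) (hk : y ∈ D.NA) : y ∈ D.Zt := by
  obtain ⟨g, rfl⟩ := hy
  refine D.pr_Zt fun i => ?_
  obtain ⟨u, hu⟩ := hh_moved i
  obtain ⟨u', hu'⟩ := hk.2 u
  have hfix : u' = u := by
    refine eq_of_sub_eq_zero (D.ea_mem_Y ?_)
    rw [sub_eq_add_neg, D.ea_add, D.ea_neg, ← hu',
      show D.pr g * D.F.ea u * (D.pr g)⁻¹ * (D.F.ea u)⁻¹ = D.pr g * (D.F.ea u * (D.pr g)⁻¹ * (D.F.ea u)⁻¹) by group]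
    exact mul_mem (D.pr_mem g) ((D.move_ea u).conj_Y D (inv_mem (D.pr_mem g)))
  rw [hfix, mul_inv_eq_iff_eq_mul] at hu'
  obtain ⟨π, hπ, hmap⟩ := (D.move_ea u).exists_perm D
  obtain ⟨g', hg', hcomp⟩ := D.conj_pr hmap g
  rw [← hu', mul_inv_cancel_right] at hg'
  have e := D.comp_congr (f := g) (f' := g') (by rw [hg', inv_mul_cancel]; exact one_mem _) i
  have hi : π i = i := (hπ i).trans (X.idx_hh i)
  have hc := hcomp i
  rw [hi] at hc
  rw [hc] at e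
  exact D.R_move_mod (hh_wt i) hu (g i).2 e

end Dbl

end Loc

end Cfsg.Agent.Spor.OmegaEightThree
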