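import Cfsg.Agent.Lib.Spor.OmegaEightThree.Double.Planes

/-!
The product `Y` of the four quaternion groups: a group of order `512`, abelian modulo `⟨t⟩`, whose components
are unique modulo `⟨t⟩`.
-/

set_option autoImplicit false
set_option linter.unusedSectionVars false
set_option maxHeartbeats 1000000

namespace Cfsg.Agent.Spor.OmegaEightThree

open X (Vec wt mono dot hh hh_wt)

namespace Loc.Dbl

variable {G : Type*} [Group G] [Finite G] {T : Loc G} (D : Dbl T)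

/-- `⟨t⟩`. -/
def Zt : Subgroup G := Subgroup.zpowers D.F.t

theorem mem_Zt {g : G} : g ∈ D.Zt ↔ g = 1 ∨ g = D.F.t := by
  rw [Zt, Subgroup.mem_zpowers_iff]
  constructor
  · rintro ⟨n, rfl⟩
    rcases Int.even_or_odd n with ⟨k, rfl⟩ | ⟨k, rfl⟩
    · refine Or.inl ?_
      rw [← two_mul, zpow_mul, zpow_two, D.F.ht.sq, one_zpow]
    · refine Or.inr ?_
      rw [zpow_add, zpow_mul, zpow_two, D.F.ht.sq, one_zpow, one_mul, zpow_one]
  · rintro (rfl | rfl)
    · exact ⟨0, zpow_zero _⟩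
    · exact ⟨1, zpow_one _⟩

theorem t_ne : D.F.t ≠ 1 := fun e => by
  have hρ := D.F.ht.rho
  rw [show (⟨D.F.t, D.F.ht.mem⟩ : T.C) = 1 from Subtype.ext e, map_one] at hρ
  exact absurd hρ.symm (by decide +kernel)

theorem card_Zt : Nat.card D.Zt = 2 := by
  rw [Zt, Nat.card_zpowers]
  exact orderOf_eq_prime (by rw [pow_two, D.F.ht.sq]) D.t_ne

theorem t_Zt : D.F.t ∈ D.Zt := Subgroup.mem_zpowers _

theorem Zt_comm {z g : G} (hz : z ∈ D.Zt) (hg : g * D.F.t = D.F.t * g) : g * z = z * g := by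
  rcases D.mem_Zt.1 hz with rfl | rfl
  · simp
  · exact hg

theorem Zt_sq {z : G} (hz : z ∈ D.Zt) : z * z = 1 := by
  rcases D.mem_Zt.1 hz with rfl | rfl
  · exact one_mul 1
  · exact D.F.ht.sq

/-- The four quaternion groups. -/
abbrev Rh (i : Fin 4) : Subgroup G := D.R (hh i)

theorem Rh_comm_t {i : Fin 4} {x : G} (hx : x ∈ D.Rh i) : x * D.F.t = D.F.t * x :=
  ((D.mem_R (hh_wt i)).1 hx).1

theorem Zt_le_R (i : Fin 4) : D.Zt ≤ D.Rh i := Subgroup.zpowers_le.2 (D.t_mem (hh_wt i))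

theorem R_cube_fix {v : Vec} (hv : wt v = 3) {u : Vec} {x : G} (hx : x ∈ D.R v)
    (h : x⁻¹ * (D.F.ea u * x * (D.F.ea u)⁻¹) ∈ D.Zt) : D.F.ea u * x * (D.F.ea u)⁻¹ = x := by
  set z := x⁻¹ * (D.F.ea u * x * (D.F.ea u)⁻¹) with hz
  have e : D.F.ea u * x * (D.F.ea u)⁻¹ = x * z := by rw [hz, mul_inv_cancel_left]
  clear_value z
  have hzu : D.F.ea u * z * (D.F.ea u)⁻¹ = z := by
    rw [D.Zt_comm h (Frame.ea_comm_t u).symm, mul_inv_cancel_right]
  have h3 : x = x * (z * z * z) := by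
    calc x = D.F.ea u ^ 3 * x * (D.F.ea u ^ 3)⁻¹ := by rw [Frame.ea, D.F.el_cube]; simp
      _ = D.F.ea u * (D.F.ea u * (D.F.ea u * x * (D.F.ea u)⁻¹) * (D.F.ea u)⁻¹) * (D.F.ea u)⁻¹ := by
          simp [pow_succ, mul_assoc]
      _ = x * (z * z * z) := by
          have e2 : D.F.ea u * (x * z) * (D.F.ea u)⁻¹ = x * z * z := by rw [← conj_mul, e, hzu]
          have e3 : D.F.ea u * (x * z * z) * (D.F.ea u)⁻¹ = x * z * z * z := by rw [← conj_mul, e2, hzu]
          rw [e, e2, e3, mul_assoc, mul_assoc, mul_assoc]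
  rw [D.Zt_sq h, one_mul, left_eq_mul] at h3
  rw [e, h3, mul_one]

/-- The components of a point moving a quaternion group. -/
theorem R_move_mod {v : Vec} (hv : wt v = 3) {u : Vec} (hu : dot v u ≠ 0) {x : G} (hx : x ∈ D.R v)
    (h : x⁻¹ * (D.F.ea u * x * (D.F.ea u)⁻¹) ∈ D.Zt) : x ∈ D.Zt :=
  D.mem_Zt.2 (D.R_move hv hu hx (mul_inv_eq_iff_eq_mul.1 (D.R_cube_fix hv hx h)))

theorem commute_R : Pairwise fun i j => ∀ x y : G, x ∈ D.Rh i → y ∈ D.Rh j → Commute x y :=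
  fun i j hij _ _ hx hy => D.R_comm (hh_wt i) (hh_wt j) (hh_sep i j hij).1 (hh_sep i j hij).2 hx hy

/-- The product of the components. -/
def pr : (∀ i, D.Rh i) →* G := Subgroup.noncommPiCoprod D.commute_R

theorem pr_single (i : Fin 4) (x : D.Rh i) : D.pr (Pi.mulSingle i x) = x :=
  Subgroup.noncommPiCoprod_mulSingle i x

theorem pr_eq (f : ∀ i, D.Rh i) : D.pr f = f 0 * f 1 * f 2 * f 3 := by
  have hsplit : f = Pi.mulSingle 0 (f 0) * Pi.mulSingle 1 (f 1) * Pi.mulSingle 2 (f 2) * Pi.mulSingle 3 (f 3) := by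
    funext i
    fin_cases i <;> simp
  conv_lhs => rw [hsplit]
  simp only [map_mul, D.pr_single]

/-- The group `Y`. -/
def Y : Subgroup G := D.pr.range

theorem pr_mem (f : ∀ i, D.Rh i) : D.pr f ∈ D.Y := ⟨f, rfl⟩

theorem mem_Y {y : G} : y ∈ D.Y ↔ ∃ f, D.pr f = y := Iff.rfl

theorem R_le_Y (i : Fin 4) : D.Rh i ≤ D.Y := fun x hx => ⟨_, D.pr_single i ⟨x, hx⟩⟩

theorem Zt_le_Y : D.Zt ≤ D.Y := (D.Zt_le_R 0).trans (D.R_le_Y 0)

theorem Y_comm_t {y : G} (hy : y ∈ D.Y) : y * D.F.t = D.F.t * y := by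
  obtain ⟨f, rfl⟩ := hy
  rw [D.pr_eq]
  have h : ∀ i, Commute (f i : G) D.F.t := fun i => D.Rh_comm_t (f i).2
  exact ((((h 0).mul_left (h 1)).mul_left (h 2)).mul_left (h 3)).eq

/-- Components of an element of `⟨t⟩`. -/
theorem pr_Zt_comp {f : ∀ i, D.Rh i} (h : D.pr f ∈ D.Zt) (i : Fin 4) : (f i : G) ∈ D.Zt := by
  refine D.mem_Zt.2 (D.R_centre (hh_wt i) (f i).2 fun w hw => ?_)
  have c : ∀ j, j ≠ i → Commute (f j : G) w := fun j hj => D.commute_R hj _ _ (f j).2 hw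
  have e : Commute (D.pr f) w := (D.Zt_comm h (D.Rh_comm_t hw)).symm
  rw [D.pr_eq] at e
  fin_cases i
  · have := e.mul_left (((c 1 (by decide)).mul_left (c 2 (by decide))).mul_left (c 3 (by decide))).inv_left
    rwa [show (f 0 : G) * f 1 * f 2 * f 3 * ((f 1 : G) * f 2 * f 3)⁻¹ = f 0 by group] at this
  · have := ((c 0 (by decide)).inv_left.mul_left e).mul_left ((c 2 (by decide)).mul_left (c 3 (by decide))).inv_left
    rwa [show (f 0 : G)⁻¹ * ((f 0 : G) * f 1 * f 2 * f 3) * ((f 2 : G) * f 3)⁻¹ = f 1 by group] at this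
  · have := (((c 0 (by decide)).mul_left (c 1 (by decide))).inv_left.mul_left e).mul_left (c 3 (by decide)).inv_left
    rwa [show ((f 0 : G) * f 1)⁻¹ * ((f 0 : G) * f 1 * f 2 * f 3) * (f 3 : G)⁻¹ = f 2 by group] at this
  · have := (((c 0 (by decide)).mul_left (c 1 (by decide))).mul_left (c 2 (by decide))).inv_left.mul_left e
    rwa [show ((f 0 : G) * f 1 * f 2)⁻¹ * ((f 0 : G) * f 1 * f 2 * f 3) = f 3 by group] at this

/-- Congruent elements of `Y` have congruent components. -/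
theorem comp_congr {f f' : ∀ i, D.Rh i} (h : (D.pr f)⁻¹ * D.pr f' ∈ D.Zt) (i : Fin 4) :
    ((f i : G))⁻¹ * f' i ∈ D.Zt := by
  rw [← map_inv, ← map_mul] at h
  exact D.pr_Zt_comp h i

theorem pr_Zt {f : ∀ i, D.Rh i} (h : ∀ i, (f i : G) ∈ D.Zt) : D.pr f ∈ D.Zt := by
  rw [D.pr_eq]
  exact mul_mem (mul_mem (mul_mem (h 0) (h 1)) (h 2)) (h 3)

theorem R_sq_Zt {i : Fin 4} {x : G} (hx : x ∈ D.Rh i) : x * x ∈ D.Zt := D.mem_Zt.2 (D.R_sq (hh_wt i) hx)

theorem Y_sq {y : G} (hy : y ∈ D.Y) : y * y ∈ D.Zt := by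
  obtain ⟨f, rfl⟩ := hy
  rw [← map_mul]
  exact D.pr_Zt fun i => D.R_sq_Zt (f i).2

theorem Y_com {x y : G} (hx : x ∈ D.Y) (hy : y ∈ D.Y) : x * y * x⁻¹ * y⁻¹ ∈ D.Zt := by
  rw [show x * y * x⁻¹ * y⁻¹ = x * y * (x * y) * ((y⁻¹ * (x * x)⁻¹ * y) * (y * y)⁻¹) by group,
    show y⁻¹ * (x * x)⁻¹ * y = (x * x)⁻¹ by
      rw [D.Zt_comm (inv_mem (D.Y_sq hx)) ((show Commute y D.F.t from D.Y_comm_t hy).inv_left).eq,
        inv_mul_cancel_right]]
  exact mul_mem (D.Y_sq (mul_mem hx hy)) (mul_mem (inv_mem (D.Y_sq hx)) (inv_mem (D.Y_sq hy)))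

theorem Y_comm_mod {x y : G} (hx : x ∈ D.Y) (hy : y ∈ D.Y) : y⁻¹ * (x * y * x⁻¹) ∈ D.Zt := by
  have h := D.Y_com hx hy
  have e : y⁻¹ * (x * y * x⁻¹) = y⁻¹ * (x * y * x⁻¹ * y⁻¹) * y := by group
  rw [e, D.Zt_comm h ((show Commute y D.F.t from D.Y_comm_t hy).inv_left).eq, inv_mul_cancel_right]
  exact h

/-- The kernel of the product map. -/
theorem card_ker_pr : Nat.card D.pr.ker = 8 := by
  have hc : ∀ (z : G), z ∈ D.Zt → ∀ i, z ∈ D.Rh i := fun z hz i => D.Zt_le_R i hz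
  let mk : (Fin 3 → D.Zt) → D.pr.ker := fun u => ⟨fun i =>
      ⟨![(u 0 : G), u 1, u 2, ((u 0 : G) * u 1 * u 2)⁻¹] i, by
        fin_cases i <;> first | exact hc _ (u _).2 _ | exact hc _ (inv_mem (mul_mem (mul_mem (u 0).2 (u 1).2) (u 2).2)) _⟩,
      by
        rw [MonoidHom.mem_ker, D.pr_eq]
        show (u 0 : G) * u 1 * u 2 * ((u 0 : G) * u 1 * u 2)⁻¹ = 1
        exact mul_inv_cancel _⟩
  have hbij : Function.Bijective mk := by
    refine ⟨fun u v e => funext fun k => Subtype.ext ?_, fun x => ?_⟩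
    · have h : ∀ i, ((mk u).1 i : G) = (mk v).1 i := fun i => by rw [e]
      fin_cases k
      · exact h 0
      · exact h 1
      · exact h 2
    · have h1 : D.pr x.1 = 1 := x.2
      have hx : ∀ i, (x.1 i : G) ∈ D.Zt := D.pr_Zt_comp (h1 ▸ one_mem _)
      rw [D.pr_eq] at h1
      refine ⟨![⟨_, hx 0⟩, ⟨_, hx 1⟩, ⟨_, hx 2⟩], Subtype.ext (funext fun i => Subtype.ext ?_)⟩
      fin_cases i
      · rfl
      · rfl
      · rfl
      · exact (eq_inv_of_mul_eq_one_right h1).symm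
  rw [← Nat.card_congr (Equiv.ofBijective mk hbij), Nat.card_fun, Nat.card_fin, D.card_Zt]
  rfl

/-- Counting with the product map. -/
theorem card_preimage {K : Subgroup G} (hK : K ≤ D.Y) : Nat.card (K.comap D.pr) = Nat.card K * 8 := by
  have h := (D.pr.comp (K.comap D.pr).subtype).ker.card_eq_card_quotient_mul_card_subgroup
  have hr : (D.pr.comp (K.comap D.pr).subtype).range = K := by
    rw [MonoidHom.range_comp, Subgroup.range_subtype, Subgroup.map_comap_eq]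
    exact inf_eq_right.2 hK
  rw [Nat.card_congr (QuotientGroup.quotientKerEquivRange _).toEquiv, hr] at h
  rw [h]
  congr 1
  rw [← D.card_ker_pr]
  exact Nat.card_congr
    { toFun := fun x => ⟨x.1.1, x.2⟩
      invFun := fun x => ⟨⟨x.1, Subgroup.mem_comap.2 (by rw [MonoidHom.mem_ker.1 x.2]; exact one_mem _)⟩,
        by rw [MonoidHom.mem_ker]; exact MonoidHom.mem_ker.1 x.2⟩
      left_inv := fun _ => rfl
      right_inv := fun _ => rfl }

theorem card_Y : Nat.card D.Y = 512 := by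
  have h := D.card_preimage (le_refl D.Y)
  rw [show D.Y.comap D.pr = ⊤ from eq_top_iff.2 fun f _ => D.pr_mem f, Subgroup.card_top, Nat.card_pi] at h
  simp [D.card_R (hh_wt _)] at h
  omega

/-- The permutation of the four groups by a move. -/
theorem Move.exists_perm {c : G} {f : Vec → Vec} (h : D.Move c f) :
    ∃ π : Equiv.Perm (Fin 4), (∀ i, π i = X.idx (f (hh i))) ∧ ∀ i, ∀ x ∈ D.Rh i, c * x * c⁻¹ ∈ D.Rh (π i) := by
  have hinj : Function.Injective fun i => X.idx (f (hh i)) := by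
    intro i j e
    by_contra hne
    rcases idx_inj _ _ (h.wt_three D (hh_wt i)) (h.wt_three D (hh_wt j)) e with e | e
    · exact (hh_sep i j hne).1 (h.inj D e)
    · exact (hh_sep i j hne).2 (h.inj D (e.trans (h.neg D _).symm))
  refine ⟨Equiv.ofBijective _ (Finite.injective_iff_bijective.1 hinj), fun i => rfl, fun i x hx => ?_⟩
  have hm := h.map_R D (hh_wt i) hx
  show c * x * c⁻¹ ∈ D.R (hh (X.idx (f (hh i))))
  rcases X.hh_idx _ (h.wt_three D (hh_wt i)) with e | e <;> rw [e]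
  · exact hm
  · rwa [D.R_neg]

/-- Conjugation by an element permuting the groups. -/
theorem conj_pr {c : G} {π : Equiv.Perm (Fin 4)} (h : ∀ i, ∀ x ∈ D.Rh i, c * x * c⁻¹ ∈ D.Rh (π i))
    (f : ∀ i, D.Rh i) : ∃ f' : ∀ i, D.Rh i, D.pr f' = c * D.pr f * c⁻¹ ∧ ∀ i, (f' (π i) : G) = c * f i * c⁻¹ := by
  classical
  have hmem : ∀ (g : ∀ i, D.Rh i) j, c * (g (π.symm j) : G) * c⁻¹ ∈ D.Rh j := fun g j => by
    have := h (π.symm j) _ (g (π.symm j)).2
    rwa [Equiv.apply_symm_apply] at this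
  let F : (∀ i, D.Rh i) →* (∀ i, D.Rh i) :=
    { toFun := fun g j => ⟨c * (g (π.symm j) : G) * c⁻¹, hmem g j⟩
      map_one' := funext fun i => Subtype.ext (by simp)
      map_mul' := fun g g' => funext fun i => Subtype.ext (by simp [mul_assoc]) }
  refine ⟨F f, ?_, fun i => by show c * (f (π.symm (π i)) : G) * c⁻¹ = _; rw [Equiv.symm_apply_apply]⟩
  suffices D.pr.comp F = (MulAut.conj c).toMonoidHom.comp D.pr from DFunLike.congr_fun this f
  refine MonoidHom.ext fun g => ?_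
  show g ∈ MonoidHom.eqLocus (D.pr.comp F) ((MulAut.conj c).toMonoidHom.comp D.pr)
  refine Subgroup.pi_mem_of_mulSingle_mem g fun i => ?_
  generalize g i = x
  show D.pr.comp F (Pi.mulSingle i x) = (MulAut.conj c).toMonoidHom.comp D.pr (Pi.mulSingle i x)
  have hF : F (Pi.mulSingle i x) = Pi.mulSingle (π i) ⟨c * (x : G) * c⁻¹, h i _ x.2⟩ := by
    funext j
    apply Subtype.ext
    show c * ((Pi.mulSingle i x : ∀ i, D.Rh i) (π.symm j) : G) * c⁻¹ = _
    by_cases hj : j = π i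
    · subst hj
      have e : ∀ k, k = i → ((Pi.mulSingle i x : ∀ i, D.Rh i) k : G) = x := by
        rintro k rfl; rw [Pi.mulSingle_eq_same]
      rw [e _ (Equiv.symm_apply_apply _ _), Pi.mulSingle_eq_same]
    · rw [Pi.mulSingle_eq_of_ne (fun e : π.symm j = i => hj (by rw [← e, Equiv.apply_symm_apply])),
        Pi.mulSingle_eq_of_ne hj]
      simp
  rw [MonoidHom.comp_apply, MonoidHom.comp_apply, hF, pr_single, pr_single]
  rfl

theorem Move.conj_Y {c : G} {f : Vec → Vec} (h : D.Move c f) {y : G} (hy : y ∈ D.Y) : c * y * c⁻¹ ∈ D.Y := by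
  obtain ⟨π, -, hπ⟩ := h.exists_perm D
  obtain ⟨g, rfl⟩ := hy
  obtain ⟨g', hg', -⟩ := D.conj_pr hπ g
  exact hg' ▸ D.pr_mem g'

end Loc.Dbl

end Cfsg.Agent.Spor.OmegaEightThree
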