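import Cfsg.Agent.Lib.Spor.OmegaEightThree.Double.CentRFacts
import Cfsg.Agent.Lib.Spor.OmegaEightThree.QuatGroup
import Cfsg.Agent.Lib.Spor.OmegaEightThree.IndexThree

/-!
If `C/Q ≅ SL(2,3) × 2`, the elements of exponent four of `C_G(t) ∩ C_G(z) ∩ C_G(r)` form a quaternion group,
centralising the fixed points of `t` in `Q`.
-/

set_option autoImplicit false
set_option linter.unusedSectionVars false
set_option maxHeartbeats 800000

namespace Cfsg.Agent.Spor.OmegaEightThree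

open Cfsg.Agent.Spor.PSLFourThree (com)

local notation "SL2" => Matrix.SpecialLinearGroup (Fin 2) (ZMod 3)

namespace Loc

variable {G : Type*} [Group G] [Finite G] {T : Loc G}

namespace Frame

variable {F : Frame T} (hF : F.Classified)

theorem Quat.memC {g : G} (h : F.Quat ![1, 0, 0, 0] g) : g ∈ T.C :=
  T.mem_C.2 (F.el_z ▸ h.comm_v)

theorem quat_t : F.Quat ![1, 0, 0, 0] F.t :=
  ⟨rfl, by rw [F.el_z, F.t_z], F.comps.cent,
    by rw [show 4 = 2 * 2 from rfl, pow_mul, pow_two F.t, F.ht.sq, one_pow]⟩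

theorem quat_one : F.Quat ![1, 0, 0, 0] (1 : G) := ⟨by simp, by simp, by simp, one_pow _⟩

theorem Quat.inv {v : Four} {g : G} (h : F.Quat v g) : F.Quat v g⁻¹ :=
  ⟨(show Commute g F.t from h.comm_t).inv_left.eq, (show Commute g (F.el v) from h.comm_v).inv_left.eq,
    (show Commute g F.r from h.comm_r).inv_left.eq, by rw [inv_pow, h.four, inv_one]⟩

include hF

theorem Quat.eta {g : G} (h : F.Quat ![1, 0, 0, 0] g) : T.η ⟨g, h.memC⟩ = 1 :=
  hF.η_of_fix_r ⟨g, h.memC⟩ h.comm_r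

/-- The fixed points of `t` in `Q` are centralised. -/
theorem Quat.fix_Q {g : G} (h : F.Quat ![1, 0, 0, 0] g) {q : G} (hq : q ∈ T.Q) (hqt : F.t * q = q * F.t) :
    g * q = q * g :=
  fixed_comm F.ht (F.el_z ▸ h.comm_v) h.four (h.eta hF) hq hqt

theorem Quat.inj {a b : G} (ha : F.Quat ![1, 0, 0, 0] a) (hb : F.Quat ![1, 0, 0, 0] b)
    (h : T.ρ ⟨a, ha.memC⟩ = T.ρ ⟨b, hb.memC⟩) : a = b := by
  have hq : a⁻¹ * b ∈ T.Q := (T.ρker (⟨a, ha.memC⟩⁻¹ * ⟨b, hb.memC⟩)).1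
    ⟨by rw [map_mul, map_inv, h, inv_mul_cancel], by rw [map_mul, map_inv, ha.eta hF, hb.eta hF, inv_one, one_mul]⟩
  have hqt : F.t * (a⁻¹ * b) = a⁻¹ * b * F.t :=
    ((show Commute F.t a from ha.comm_t.symm).inv_right.mul_right (show Commute F.t b from hb.comm_t.symm)).eq
  have hc : Commute a (a⁻¹ * b) := ha.fix_Q hF hq hqt
  have h4 : (a⁻¹ * b) ^ 4 = 1 := by
    have e := hc.mul_pow 4
    rw [mul_inv_cancel_left, ha.four, hb.four, one_mul] at e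
    exact e.symm
  rw [pow_succ, T.exp _ hq, one_mul, inv_mul_eq_one] at h4
  exact h4

theorem Quat.lift {γ : SL2} (hγ : γ ^ 4 = 1) : ∃ a, ∃ ha : F.Quat ![1, 0, 0, 0] a, T.ρ ⟨a, ha.memC⟩ = γ := by
  obtain ⟨c, hc, hη, hct⟩ := F.ht.exists_lift γ
  have h4Q : (c : G) ^ 4 ∈ T.Q := (T.ρker (c ^ 4)).1 ⟨by rw [map_pow, hc, hγ], by rw [map_pow, hη, one_pow]⟩
  have h12 : (c : G) ^ (4 * 3) = 1 := by rw [pow_mul, T.exp _ h4Q]
  have hz : (c : G) ^ 9 * T.z = T.z * (c : G) ^ 9 := ((show Commute (c : G) T.z from T.mem_C.1 c.2).pow_left 9).eq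
  have h4 : ((c : G) ^ 9) ^ 4 = 1 := by
    rw [← pow_mul, show 9 * 4 = 4 * 3 * 3 from rfl, pow_mul, h12, one_pow]
  have hη9 : T.η ⟨(c : G) ^ 9, T.mem_C.2 hz⟩ = 1 := by
    show T.η (c ^ 9) = 1
    rw [map_pow, hη, one_pow]
  refine ⟨(c : G) ^ 9, ⟨((show Commute (c : G) F.t from hct).pow_left 9).eq, by rw [F.el_z]; exact hz,
    fixed_comm F.ht hz h4 hη9 F.r_mem F.comps.cent, h4⟩, ?_⟩
  show T.ρ (c ^ 9) = γ
  rw [map_pow, hc, show 9 = 4 * 2 + 1 from rfl, pow_succ, pow_mul, hγ, one_pow, one_mul]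

theorem Quat.sq {a : G} (ha : F.Quat ![1, 0, 0, 0] a) : a * a = 1 ∨ a * a = F.t := by
  have h4 : T.ρ ⟨a, ha.memC⟩ * T.ρ ⟨a, ha.memC⟩ * (T.ρ ⟨a, ha.memC⟩ * T.ρ ⟨a, ha.memC⟩) = 1 := by
    rw [← pow_four_eq, ← map_pow, show (⟨a, ha.memC⟩ : T.C) ^ 4 = 1 from Subtype.ext ha.four, map_one]
  have hsq : F.Quat ![1, 0, 0, 0] (a * a) :=
    ⟨((show Commute a F.t from ha.comm_t).mul_left ha.comm_t).eq,
      ((show Commute a (F.el _) from ha.comm_v).mul_left ha.comm_v).eq,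
      ((show Commute a F.r from ha.comm_r).mul_left ha.comm_r).eq,
      by rw [← pow_two a, ← pow_mul, mul_comm, pow_mul, ha.four, one_pow]⟩
  rcases (four_facts _ _ h4 h4).2 with e | e
  · refine Or.inl (hsq.inj hF quat_one ?_)
    rw [show (⟨a * a, _⟩ : T.C) = ⟨a, ha.memC⟩ * ⟨a, ha.memC⟩ from rfl, map_mul, e]
    exact (map_one T.ρ).symm
  · refine Or.inr (hsq.inj hF quat_t ?_)
    rw [show (⟨a * a, _⟩ : T.C) = ⟨a, ha.memC⟩ * ⟨a, ha.memC⟩ from rfl, map_mul, e]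
    exact F.ht.rho.symm

theorem Quat.mul {a b : G} (ha : F.Quat ![1, 0, 0, 0] a) (hb : F.Quat ![1, 0, 0, 0] b) :
    F.Quat ![1, 0, 0, 0] (a * b) := by
  refine ⟨((show Commute a F.t from ha.comm_t).mul_left hb.comm_t).eq,
    ((show Commute a (F.el _) from ha.comm_v).mul_left hb.comm_v).eq,
    ((show Commute a F.r from ha.comm_r).mul_left hb.comm_r).eq, ?_⟩
  have key : ∀ x : G, ∀ hx : F.Quat ![1, 0, 0, 0] x, T.ρ ⟨x, hx.memC⟩ * T.ρ ⟨x, hx.memC⟩ *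
      (T.ρ ⟨x, hx.memC⟩ * T.ρ ⟨x, hx.memC⟩) = 1 := fun x hx => by
    rw [← pow_four_eq, ← map_pow, show (⟨x, hx.memC⟩ : T.C) ^ 4 = 1 from Subtype.ext hx.four, map_one]
  have hconj : F.Quat ![1, 0, 0, 0] (b * a * b⁻¹) :=
    ⟨(((show Commute b F.t from hb.comm_t).mul_left ha.comm_t).mul_left (show Commute b F.t from hb.comm_t).inv_left).eq,
      (((show Commute b (F.el _) from hb.comm_v).mul_left ha.comm_v).mul_left
        (show Commute b (F.el _) from hb.comm_v).inv_left).eq,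
      (((show Commute b F.r from hb.comm_r).mul_left ha.comm_r).mul_left (show Commute b F.r from hb.comm_r).inv_left).eq,
      by rw [conj_pow, ha.four, mul_one, mul_inv_cancel]⟩
  have hba : b * a * b⁻¹ = a ∨ b * a * b⁻¹ = a⁻¹ := by
    rcases (four_facts _ _ (key a ha) (key b hb)).1 with e | e
    · left
      refine hconj.inj hF ha (Eq.trans ?_ e)
      rw [← map_inv, ← map_mul, ← map_mul]
      rfl
    · right
      refine hconj.inj hF ha.inv (Eq.trans ?_ (e.trans ?_))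
      · rw [← map_inv, ← map_mul, ← map_mul]
        rfl
      · rw [← map_inv]
        rfl
  have hsq : a * b * (a * b) = 1 ∨ a * b * (a * b) = F.t := by
    rw [show a * b * (a * b) = a * (b * a * b⁻¹) * (b * b) by group]
    rcases hba with e | e <;> rw [e]
    · rcases ha.sq hF with f | f <;> rcases hb.sq hF with g | g <;> rw [f, g] <;> simp [F.ht.sq]
    · rw [mul_inv_cancel, one_mul]
      exact hb.sq hF
  rw [pow_four_eq]
  rcases hsq with e | e <;> rw [e]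
  · simp
  · exact F.ht.sq

/-- The quaternion group at `z`. -/
def Classified.quatZ : Subgroup G where
  carrier := {g | F.Quat ![1, 0, 0, 0] g}
  one_mem' := quat_one
  inv_mem' h := h.inv
  mul_mem' ha hb := ha.mul hF hb

theorem Classified.card_quatZ : Nat.card hF.quatZ = 8 := by
  rw [← four_card, ← Fintype.card_subtype, ← Nat.card_eq_fintype_card]
  refine Nat.card_congr (Equiv.ofBijective
    (fun a => ⟨T.ρ ⟨a.1, a.2.memC⟩, by
      rw [← map_pow, show (⟨a.1, a.2.memC⟩ : T.C) ^ 4 = 1 from Subtype.ext a.2.four, map_one]⟩)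
    ⟨fun a b h => Subtype.ext (a.2.inj hF b.2 (congrArg Subtype.val h)), fun γ => ?_⟩)
  obtain ⟨a, ha, h⟩ := Quat.lift hF γ.2
  exact ⟨⟨a, ha⟩, Subtype.ext h⟩

/-- An involution of the quaternion group is `t`. -/
theorem Quat.invol {a : G} (ha : F.Quat ![1, 0, 0, 0] a) (h : a * a = 1) : a = 1 ∨ a = F.t := by
  have e : T.ρ ⟨a, ha.memC⟩ * T.ρ ⟨a, ha.memC⟩ = 1 := by
    rw [← map_mul, show (⟨a, ha.memC⟩ : T.C) * ⟨a, ha.memC⟩ = 1 from Subtype.ext h, map_one]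
  rcases sq_one_cases _ e with e | e
  · refine Or.inl (ha.inj hF quat_one ?_)
    rw [e]; exact (map_one T.ρ).symm
  · exact Or.inr (ha.inj hF quat_t (by rw [e]; exact F.ht.rho.symm))

/-- A point outside `Q` centralises only `⟨t⟩` in it. -/
theorem Quat.move {a : G} (ha : F.Quat ![1, 0, 0, 0] a) {y : Four} (hy : y 3 ≠ 0)
    (hc : F.el y * a = a * F.el y) : a = 1 ∨ a = F.t := by
  set σ := T.ρ ⟨F.el y, F.el_C y⟩ with hσdef
  have hy3 : (⟨F.el y, F.el_C y⟩ : T.C) ^ 3 = 1 := Subtype.ext (F.el_cube y)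
  have hσ3 : σ ^ 3 = 1 := by rw [hσdef, ← map_pow, hy3, map_one]
  have hσ1 : σ ≠ 1 := fun h => hy (F.el_mem_Q_iff.1 ((T.ρker ⟨_, F.el_C y⟩).1
    ⟨h, T.η_cube (n := 1) (by rw [pow_one]; exact hy3)⟩))
  have h4 : T.ρ ⟨a, ha.memC⟩ ^ 4 = 1 := by
    rw [← map_pow, show (⟨a, ha.memC⟩ : T.C) ^ 4 = 1 from Subtype.ext ha.four, map_one]
  have hcomm : T.ρ ⟨a, ha.memC⟩ * σ = σ * T.ρ ⟨a, ha.memC⟩ := by
    rw [hσdef, ← map_mul, ← map_mul]
    exact congrArg T.ρ (Subtype.ext hc.symm)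
  rcases four_comm_three σ _ hσ3 hσ1 h4 hcomm with e | e
  · refine Or.inl (ha.inj hF quat_one ?_)
    rw [e]; exact (map_one T.ρ).symm
  · exact Or.inr (ha.inj hF quat_t (by rw [e]; exact F.ht.rho.symm))

/-- An element of `C ∩ C(t)` in `O^2(C)` is a quaternion, a power of `f` and an element of `Q`. -/
theorem Classified.cent_z_split {g : G} (hg : g ∈ T.C) (hη : T.η ⟨g, hg⟩ = 1) :
    ∃ y, F.Quat ![1, 0, 0, 0] y ∧ ∃ e : ℕ, (y * F.f ^ e)⁻¹ * g ∈ T.Q := by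
  have hσ3 : T.ρ ⟨F.f, F.f_C⟩ ^ 3 = 1 := by
    rw [← map_pow, show (⟨F.f, F.f_C⟩ : T.C) ^ 3 = 1 from Subtype.ext F.f_cube, map_one]
  have hηf : T.η ⟨F.f, F.f_C⟩ = 1 := T.η_cube (n := 1) (by rw [pow_one]; exact Subtype.ext F.f_cube)
  obtain ⟨δ, hδ, hcase⟩ := four_mul_three _ (T.ρ ⟨g, hg⟩) hσ3 F.ρ_f_ne
  obtain ⟨y, hy, hyρ⟩ := Quat.lift hF hδ
  obtain ⟨e, he⟩ : ∃ e : ℕ, T.ρ ⟨g, hg⟩ = δ * T.ρ ⟨F.f, F.f_C⟩ ^ e := by
    rcases hcase with h | h | h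
    · exact ⟨0, by rw [h, pow_zero, mul_one]⟩
    · exact ⟨1, by rw [h, pow_one]⟩
    · exact ⟨2, by rw [h, pow_two]⟩
  refine ⟨y, hy, e, (T.ρker ((⟨y, hy.memC⟩ * ⟨F.f, F.f_C⟩ ^ e)⁻¹ * ⟨g, hg⟩)).1 ⟨?_, ?_⟩⟩
  · rw [map_mul, map_inv, map_mul, map_pow, hyρ, he, inv_mul_cancel]
  · rw [map_mul, map_inv, map_mul, map_pow, hy.eta hF, hηf, hη]
    simp

end Frame

end Loc

end Cfsg.Agent.Spor.OmegaEightThree
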