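import Cfsg.Agent.Lib.Spor.OmegaEightThree.Double.Sylow
import Cfsg.Agent.Lib.Spor.OmegaEightThree.Double.NotE

/-!
The elements of `P₀` outside `Y` are not conjugate to `σ`.
-/

set_option autoImplicit false
set_option linter.unusedSectionVars false
set_option maxHeartbeats 1000000
set_option maxRecDepth 100000

namespace Cfsg.Agent.Spor.OmegaEightThree

open X (Vec wt mono dot hh hh_wt Sgn)

namespace Loc

/-- The action of `t` on the coordinates. -/
def tA (v : Four) : Four := ![v 0, -v 1, v 2, v 3]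

/-- The fixed points of value `1`. -/
def fixOne (φ : Four → Four) : Finset Four := Finset.univ.filter fun v => φ v = v ∧ qf v = 1

theorem sgA_count : ∀ ε : Sgn,
    sgA ε ![0, 1, 0, 0] = ![0, 1, 0, 0] ∧ (fixOne (sgA ε)).card ≠ (fixOne sR).card := by decide +kernel

theorem tA_count : ∀ ε : Sgn, ε ≠ -1 →
    (∃ v : Four, qf v = 1 ∧ tA (sgA ε v) = v) ∧
      (fixOne fun v => tA (sgA ε v)).card ≠ (fixOne sR).card := by decide +kernel

theorem cyc_neg : cyc (-1) = -1 := by decide +kernel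

variable {G : Type*} [Group G] [Finite G] {T : Loc G}

namespace Frame

/-- A conjugation between two points of value `1` normalises `E`. -/
theorem Classified.conj_norm {F : Frame T} (hF : F.Classified) {s : G} (hs : F.IsSig s) {v v' : Four}
    (hv : qf v = 1) {g : G} (hg : g * F.el v * g⁻¹ = F.el v') : g ∈ Subgroup.normalizer (F.E : Set G) := by
  obtain ⟨m, _, hm, hmv⟩ := hF.to_n hv
  obtain ⟨m', _, hm', hmv'⟩ := hF.to_n ((hF.qf_conj hg).symm.trans hv)
  set l := m' * g * m⁻¹ with hl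
  have e : l * (m * F.el v * m⁻¹) * l⁻¹ = m' * F.el v' * m'⁻¹ := by rw [hl, ← hg]; group
  have hln : l * F.n * l⁻¹ = F.n ∨ l * F.n * l⁻¹ = F.n⁻¹ := by
    rcases hmv with a | a <;> rw [a] at e <;> rcases hmv' with b | b <;> rw [b] at e
    · exact Or.inl e
    · exact Or.inr e
    · exact Or.inr (inv_injective (by rw [conj_inv, inv_inv]; exact e))
    · exact Or.inl (inv_injective (by rw [conj_inv]; exact e))
  have hlN : l ∈ Subgroup.normalizer (F.E : Set G) := by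
    rcases hln with a | a
    · exact hF.cent_n_norm hs (Subgroup.mem_centralizer_singleton_iff.2 (mul_inv_eq_iff_eq_mul.1 a))
    · have h : F.t * l ∈ Subgroup.normalizer (F.E : Set G) :=
        hF.cent_n_norm hs (Subgroup.mem_centralizer_singleton_iff.2 (mul_inv_eq_iff_eq_mul.1 (by
          rw [show F.t * l * F.n * (F.t * l)⁻¹ = F.t * (l * F.n * l⁻¹) * F.t⁻¹ by group, a, ← F.el_n, ← F.el_neg,
            F.conj_t]
          congr 1)))
      exact (Subgroup.mul_mem_cancel_left _ F.act_t.mem).1 h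
  have := mul_mem (mul_mem (inv_mem hm'.mem) hlN) hm.mem
  rwa [show m'⁻¹ * l * m = g by rw [hl]; group] at this

/-- An element of `N(E)` with too few fixed points of value `1` is not conjugate to `σ`. -/
theorem Classified.count_not_conj {F : Frame T} (hF : F.Classified) {s : G} (hs : F.IsSig s) {x : G}
    {φ : Four → Four} (hx : F.Act x φ) {v : Four} (hv : qf v = 1) (hfix : φ v = v)
    (hne : (fixOne φ).card ≠ (fixOne sR).card) (g : G) : g * x * g⁻¹ ≠ s := by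
  classical
  intro hg
  have hc : Commute x (F.el v) := mul_inv_eq_iff_eq_mul.1 (by rw [hx, hfix])
  have hds : g * F.el v * g⁻¹ * s = s * (g * F.el v * g⁻¹) := by
    rw [← hg]
    exact ((Commute.conj_iff g).2 hc.symm).eq
  obtain ⟨c, hcs, v', -, hcv⟩ := hs.three_conj hF (by rw [conj_pow, F.el_cube, mul_one, mul_inv_cancel]) hds
  have hk : c * g * F.el v * (c * g)⁻¹ = F.el v' := by rw [← hcv]; group
  have hkx : c * g * x * (c * g)⁻¹ = s := by
    rw [show c * g * x * (c * g)⁻¹ = c * (g * x * g⁻¹) * c⁻¹ by group, hg, hcs, mul_inv_cancel_right]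
  set k := c * g
  obtain ⟨ψ, hψ⟩ := F.exists_act (hF.conj_norm hs hv hk)
  have hcomp : ∀ u, ψ (φ u) = sR (ψ u) := fun u => F.el_inj (by
    rw [← hψ, ← hx, ← hs.act, ← hψ, ← hkx]; group)
  refine hne (Finset.card_bij (fun u _ => ψ u) (fun u hu => ?_) (fun u _ u' _ e => hψ.injective e) fun w hw => ?_)
  · rw [fixOne, Finset.mem_filter] at hu ⊢
    exact ⟨Finset.mem_univ _, by rw [← hcomp, hu.2.1], by rw [hF.isom hψ, hu.2.2]⟩
  · obtain ⟨u, rfl⟩ := Finite.injective_iff_surjective.1 hψ.injective w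
    rw [fixOne, Finset.mem_filter] at hw
    refine ⟨u, Finset.mem_filter.2 ⟨Finset.mem_univ _, hψ.injective (by rw [hcomp, hw.2.1]), ?_⟩, rfl⟩
    rw [← hF.isom hψ]
    exact hw.2.2

end Frame

namespace Dbl

variable (D : Dbl T)

/-- An involution centralising `w` is not conjugate to `σ`. -/
theorem w_not_conj {x : G} (hxw : D.w * x = x * D.w) (g : G) : g * x * g⁻¹ ≠ D.s := by
  intro hg
  have hds : g * D.w * g⁻¹ * D.s = D.s * (g * D.w * g⁻¹) := by
    rw [← hg]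
    exact ((Commute.conj_iff g).2 hxw).eq
  obtain ⟨c, -, v, -, hv⟩ := D.hs.three_conj D.hF (by rw [conj_pow, T.exp _ D.wQ, mul_one, mul_inv_cancel]) hds
  exact D.hF.not_conj_E D.wQ D.wt_comm (Frame.com_mV D.wA) (c * g) v (by rw [← hv]; group)

/-- The sign changes, times `⟨t⟩`, are not conjugate to `σ`. -/
theorem sign_not_conj {z : G} (hz : z ∈ D.Zt) (ε : Sgn) (g : G) : g * (z * D.sg ε) * g⁻¹ ≠ D.s := by
  rcases D.mem_Zt.1 hz with rfl | rfl
  · rw [one_mul]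
    exact D.hF.count_not_conj D.hs (D.sg_act ε) qf_basic.2.1 (sgA_count ε).1 (sgA_count ε).2 g
  · by_cases hε : ε = -1
    · subst hε
      refine D.w_not_conj ?_ g
      have h : D.w * D.sg (-1) = D.sg (-1) * D.w := mul_inv_eq_iff_eq_mul.1 (by rw [D.w_sg, cyc_neg])
      exact ((show Commute D.w D.F.t from D.wt_comm.symm).mul_right h).eq
    · obtain ⟨⟨v, hv, hfix⟩, hne⟩ := tA_count ε hε
      exact D.hF.count_not_conj D.hs ((D.F.act_t.mul (D.sg_act ε)).congr fun u => rfl) hv hfix hne g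

/-- An involution in `Y sg ε` is conjugate under `Y` to an element of `⟨t⟩ sg ε`. -/
theorem to_sign {ε : Sgn} (hε : ε ≠ 1) {y : G} (hy : y ∈ D.Y) (h2 : y * D.sg ε * (y * D.sg ε) = 1) :
    ∃ v ∈ D.Y, ∃ z ∈ D.Zt, v * (y * D.sg ε) * v⁻¹ = z * D.sg ε := by
  classical
  set γ := D.sg ε with hγ
  have hγi : γ⁻¹ = γ := D.sg_inv ε
  haveI hN : (D.Zt.subgroupOf D.Y).Normal := ⟨fun n hn g => by
    rw [Subgroup.mem_subgroupOf] at hn ⊢
    push_cast
    rw [D.NT_Zt (D.Y_le_NT g.2) hn]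
    exact hn⟩
  let mk := QuotientGroup.mk' (D.Zt.subgroupOf D.Y)
  have hmk : ∀ {a b : D.Y}, mk a = mk b ↔ (a : G)⁻¹ * b ∈ D.Zt := fun {a b} =>
    QuotientGroup.eq.trans Subgroup.mem_subgroupOf
  have hcomm : ∀ a b : D.Y, mk a * mk b = mk b * mk a := fun a b => by
    rw [← map_mul, ← map_mul, hmk]
    push_cast
    have := D.Y_com (inv_mem b.2) (inv_mem a.2)
    rw [inv_inv, inv_inv] at this
    rw [show ((a : G) * b)⁻¹ * (b * a) = (b : G)⁻¹ * (a : G)⁻¹ * b * a by group]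
    exact this
  let cg : D.Y →* D.Y := MonoidHom.mk' (fun v => ⟨γ * v * γ⁻¹, D.NT_conj (D.sg_NT ε) v.2⟩)
    fun a b => Subtype.ext (by push_cast; group)
  let Φ : D.Y →* ↥D.Y ⧸ D.Zt.subgroupOf D.Y := MonoidHom.mk' (fun v => (mk v)⁻¹ * mk (cg v)) fun a b => by
    rw [map_mul, map_mul, map_mul, mul_inv_rev]
    calc _ = mk b⁻¹ * mk (a⁻¹ * cg a) * mk (cg b) := by rw [map_mul, map_inv, map_inv]; group
      _ = _ := by rw [hcomm, map_mul, map_inv, map_inv]; group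
  have hker : Φ.ker = (D.CV γ).subgroupOf D.Y := by
    ext v
    rw [MonoidHom.mem_ker, Subgroup.mem_subgroupOf, D.mem_CV]
    show (mk v)⁻¹ * mk (cg v) = 1 ↔ _
    rw [inv_mul_eq_one, hmk]
    exact ⟨fun h => ⟨v.2, h⟩, fun h => h.2⟩
  set R' := Φ.range.comap mk with hR'
  have hle : R' ≤ (D.CV γ).subgroupOf D.Y := by
    rintro v ⟨u, hu⟩
    rw [← hker, MonoidHom.mem_ker]
    show (mk v)⁻¹ * mk (cg v) = 1
    have e : (u : G)⁻¹ * cg u * (v : G)⁻¹ ∈ D.Zt := by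
      have h1 : (mk u)⁻¹ * mk (cg u) = mk v := hu
      rw [← map_inv, ← map_mul, hmk] at h1
      have h2 := D.Zt_comm h1 (D.Y_comm_t v.2)
      have h3 : (v : G)⁻¹ * ((u : G)⁻¹ * cg u) ∈ D.Zt := by
        have := inv_mem h1
        push_cast at this
        rwa [show ((((u : G)⁻¹) * (cg u : G))⁻¹ * v)⁻¹ = (v : G)⁻¹ * ((u : G)⁻¹ * cg u) by group] at this
      rw [show (u : G)⁻¹ * cg u * (v : G)⁻¹ = (v : G) * ((v : G)⁻¹ * ((u : G)⁻¹ * cg u)) * (v : G)⁻¹ by group,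
        D.NT_Zt (D.Y_le_NT v.2) h3]
      exact h3
    set z := (u : G)⁻¹ * cg u * (v : G)⁻¹ with hz
    have hv : (v : G) = z⁻¹ * ((u : G)⁻¹ * (γ * u * γ⁻¹)) := by rw [hz]; show _ = _; simp [cg, mul_assoc]
    rw [inv_mul_eq_one, hmk]
    show (v : G)⁻¹ * (γ * v * γ⁻¹) ∈ D.Zt
    have hzγ : γ * z⁻¹ * γ⁻¹ = z⁻¹ := D.NT_Zt (D.sg_NT ε) (inv_mem e)
    have e2 : γ * (v : G) * γ⁻¹ = z⁻¹ * (γ * (u : G)⁻¹ * γ⁻¹ * (γ * (γ * u * γ⁻¹) * γ⁻¹)) := by
      rw [hv, show γ * (z⁻¹ * ((u : G)⁻¹ * (γ * u * γ⁻¹))) * γ⁻¹ =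
        γ * z⁻¹ * γ⁻¹ * (γ * (u : G)⁻¹ * γ⁻¹ * (γ * (γ * u * γ⁻¹) * γ⁻¹)) by group, hzγ]
    have e3 : γ * (γ * (u : G) * γ⁻¹) * γ⁻¹ = u := by
      rw [show γ * (γ * (u : G) * γ⁻¹) * γ⁻¹ = γ * γ * u * (γ * γ)⁻¹ by group, D.sg_sq]; group
    set a := (u : G)⁻¹ * (γ * u * γ⁻¹) with ha
    have haY : a ∈ D.Y := mul_mem (inv_mem u.2) (D.NT_conj (D.sg_NT ε) u.2)
    rw [e2, e3, show γ * (u : G)⁻¹ * γ⁻¹ * u = a⁻¹ by rw [ha]; group, hv]
    rw [show (z⁻¹ * a)⁻¹ * (z⁻¹ * a⁻¹) = (a * a)⁻¹ by group]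
    exact inv_mem (D.Y_sq haY)
  have hcard : Nat.card Φ.range * Nat.card Φ.ker = 512 := by
    have := Φ.ker.card_eq_card_quotient_mul_card_subgroup
    rw [Nat.card_congr (QuotientGroup.quotientKerEquivRange Φ).toEquiv, D.card_Y] at this
    exact this.symm
  have hk : Nat.card Φ.ker = Nat.card (D.CV γ) := by
    rw [hker, Nat.card_congr (Subgroup.subgroupOfEquivOfLe (D.CV_le γ)).toEquiv]
  have hV : Nat.card (↥D.Y ⧸ D.Zt.subgroupOf D.Y) * 2 = 512 := by
    have := (D.Zt.subgroupOf D.Y).card_eq_card_quotient_mul_card_subgroup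
    rw [Nat.card_congr (Subgroup.subgroupOfEquivOfLe D.Zt_le_Y).toEquiv, D.card_Zt, D.card_Y] at this
    exact this.symm
  have hidx : R'.index = Φ.range.index := Subgroup.index_comap_of_surjective _ (QuotientGroup.mk'_surjective _)
  have h1 : Nat.card R' * R'.index = 512 := R'.card_mul_index.trans D.card_Y
  have h2' := Φ.range.card_mul_index
  rw [hidx] at h1
  have hb := D.card_CV_sg hε
  rw [← hγ, ← hk] at hb
  have heq : R' = (D.CV γ).subgroupOf D.Y := by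
    refine Subgroup.eq_of_le_of_card_ge hle ?_
    rw [← hker]
    have hpos : 0 < Φ.range.index := Nat.pos_of_ne_zero fun e => by rw [e, mul_zero] at h1; omega
    have e : Nat.card R' = Nat.card Φ.range * 2 := by
      refine Nat.eq_of_mul_eq_mul_right hpos ?_
      rw [mul_right_comm, h2', hV, h1]
    rw [e]
    nlinarith
  -- `y` is fixed modulo `⟨t⟩`
  have hyCV : (⟨y, hy⟩ : D.Y) ∈ R' := by
    rw [heq, Subgroup.mem_subgroupOf]
    refine ⟨hy, ?_⟩
    have e : γ * y * γ⁻¹ = y⁻¹ := by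
      rw [hγi]
      refine (inv_eq_of_mul_eq_one_right ?_).symm
      rw [← h2]
      group
    rw [e, ← mul_inv_rev]
    exact inv_mem (D.Y_sq hy)
  obtain ⟨v, hv⟩ := hyCV
  have h1' : (mk v)⁻¹ * mk (cg v) = mk ⟨y, hy⟩ := hv
  rw [← map_inv, ← map_mul, hmk] at h1'
  set z := ((v⁻¹ * cg v : D.Y) : G)⁻¹ * y with hz
  refine ⟨v, v.2, z, h1', ?_⟩
  have e : y = (v : G)⁻¹ * (γ * v * γ⁻¹) * z := by
    rw [hz]
    show y = _
    simp [cg, mul_assoc]
  rw [e, show (v : G) * ((v : G)⁻¹ * (γ * v * γ⁻¹) * z * γ) * (v : G)⁻¹ = γ * v * γ⁻¹ * (z * γ) * (v : G)⁻¹ by group,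
    ← D.Zt_comm h1' (D.sg_t ε), show γ * (v : G) * γ⁻¹ * (γ * z) * (v : G)⁻¹ = γ * ((v : G) * z * (v : G)⁻¹) by group,
    D.NT_Zt (D.Y_le_NT v.2) h1']

/-- The elements of `P₀` outside `Y` are not conjugate to `σ`. -/
theorem outer_not_conj {ε : Sgn} (hε : ε ≠ 1) {y : G} (hy : y ∈ D.Y) (g : G) :
    g * (y * D.sg ε) * g⁻¹ ≠ D.s := by
  intro hg
  have h2 : y * D.sg ε * (y * D.sg ε) = 1 := by
    have := congrArg (fun u => g⁻¹ * (u * u) * g) hg
    simp only [D.hs.sq, mul_one, inv_mul_cancel] at this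
    rw [← this]
    group
  obtain ⟨v, -, z, hz, e⟩ := D.to_sign hε hy h2
  refine D.sign_not_conj hz ε (g * v⁻¹) ?_
  rw [← e, ← hg]
  group

end Dbl

end Loc

end Cfsg.Agent.Spor.OmegaEightThree
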