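import Cfsg.Agent.Lib.Spor.OmegaEightThree.Quot

/-!
The subgroups of order prime to three of `C_G(n)/⟨n⟩` normalised by the image of `E` are trivial.
-/

set_option autoImplicit false
set_option linter.unusedSectionVars false
set_option linter.style.haveILetI false
set_option maxHeartbeats 1000000
set_option maxRecDepth 100000

namespace Cfsg.Agent.Spor.OmegaEightThree

namespace Loc

variable {G : Type*} [Group G] [Finite G] {T : Loc G}

namespace Frame

variable (F : Frame T)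

/-- `C_G(n)`. -/
abbrev Cn : Subgroup G := Subgroup.centralizer ({F.n} : Set G)

/-- `⟨n⟩` inside `C_G(n)`. -/
abbrev Zn : Subgroup F.Cn := (Subgroup.zpowers F.n).subgroupOf F.Cn

instance Zn_normal : F.Zn.Normal where
  conj_mem x hx g := by
    rw [Subgroup.mem_subgroupOf] at hx ⊢
    obtain ⟨i, hi⟩ := Subgroup.mem_zpowers_iff.1 hx
    refine Subgroup.mem_zpowers_iff.2 ⟨i, ?_⟩
    push_cast
    rw [← hi, ((show Commute (g : G) F.n from Subgroup.mem_centralizer_singleton_iff.1 g.2).zpow_right i).eq,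
      mul_inv_cancel_right]

/-- `C_G(n)/⟨n⟩`. -/
abbrev Ln : Type _ := ↥F.Cn ⧸ F.Zn

/-- The projection. -/
def qn : F.Cn →* F.Ln := QuotientGroup.mk' F.Zn

theorem qn_surj : Function.Surjective F.qn := QuotientGroup.mk'_surjective _

theorem mem_Cn {g : G} : g ∈ F.Cn ↔ g * F.n = F.n * g := Subgroup.mem_centralizer_singleton_iff

theorem el_Cn (v : Four) : F.el v ∈ F.Cn := F.mem_Cn.2 (by rw [← F.el_n]; exact F.el_comm _ _)

theorem n_cube : F.n ^ 3 = 1 := T.exp _ F.n_mem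

theorem qn_eq_one {x : F.Cn} : F.qn x = 1 ↔ ∃ c : ZMod 3, (x : G) = F.n ^ c.val := by
  rw [qn, QuotientGroup.mk'_apply, QuotientGroup.eq_one_iff, Subgroup.mem_subgroupOf, Subgroup.mem_zpowers_iff]
  refine ⟨fun ⟨i, hi⟩ => ⟨(i : ZMod 3), by rw [pow_val_intCast F.n_cube, hi]⟩, fun ⟨c, hc⟩ => ⟨(c.val : ℤ), ?_⟩⟩
  rw [zpow_natCast, hc]

theorem n_pow (c : ZMod 3) : F.n ^ c.val = F.el (c • ![0, 1, 0, 0]) := by rw [F.el_smul, F.el_n]

theorem qn_el_eq {v w : Four} :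
    F.qn ⟨F.el v, F.el_Cn v⟩ = F.qn ⟨F.el w, F.el_Cn w⟩ ↔ v 0 = w 0 ∧ v 2 = w 2 ∧ v 3 = w 3 := by
  rw [← inv_mul_eq_one, ← map_inv, ← map_mul, F.qn_eq_one]
  push_cast
  simp only [← F.el_neg, ← F.el_mul, F.n_pow, F.el_inj.eq_iff]
  constructor
  · rintro ⟨c, hc⟩
    refine ⟨?_, ?_, ?_⟩
    · simpa [neg_add_eq_zero] using congrFun hc 0
    · simpa [neg_add_eq_zero] using congrFun hc 2
    · simpa [neg_add_eq_zero] using congrFun hc 3
  · rintro ⟨h0, h2, h3⟩
    refine ⟨-v 1 + w 1, ?_⟩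
    funext i
    fin_cases i <;> simp [h0, h2, h3]

/-- The image of `E`. -/
def Jn : Subgroup F.Ln := (F.E.subgroupOf F.Cn).map F.qn

theorem Jn_facts : IsMulCommutative F.Jn ∧ ∀ j ∈ F.Jn, j ^ 3 = 1 := by
  refine ⟨⟨⟨fun a b => Subtype.ext ?_⟩⟩, ?_⟩
  · obtain ⟨x, hx, hxa⟩ := a.2
    obtain ⟨y, hy, hyb⟩ := b.2
    push_cast
    rw [← hxa, ← hyb, ← map_mul, ← map_mul]
    exact congrArg F.qn (Subtype.ext (F.E_comm hx hy))
  · rintro _ ⟨x, hx, rfl⟩
    obtain ⟨v, hv⟩ := F.mem_E_iff.1 hx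
    rw [← map_pow, show x ^ 3 = 1 from Subtype.ext (by
      show (x : G) ^ 3 = 1
      rw [show (x : G) = F.el v from hv.symm, F.el_cube]), map_one]

variable {F} (hF : F.Classified)
include hF

omit hF in
/-- The part of order prime to three of a subgroup containing `r` centrally. -/
theorem coprime_part_n (W₀ : Subgroup F.Cn) (h : (Nat.card (W₀.map F.qn)).Coprime 3) :
    ∃ W : Subgroup G, (∀ w, w ∈ W ↔ ∃ hw : w ∈ F.Cn, (⟨w, hw⟩ : F.Cn) ∈ W₀ ∧ (orderOf w).Coprime 3) ∧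
      (Nat.card W).Coprime 3 ∧ ∀ w : F.Cn, w ∈ W₀ → ∃ w' : F.Cn, (w' : G) ∈ W ∧ F.qn w' = F.qn w := by
  classical
  let f : W₀ →* F.Ln := F.qn.comp W₀.subtype
  have hi : f.ker.index = Nat.card (W₀.map F.qn) := by
    rw [Subgroup.index_ker, MonoidHom.range_comp, Subgroup.range_subtype]
  have h3 : ∀ x ∈ f.ker, x ^ 3 = 1 ∧ ∀ y : W₀, x * y = y * x := by
    intro x hx
    obtain ⟨c, hc⟩ := F.qn_eq_one.1 (show F.qn (x : F.Cn) = 1 from hx)
    refine ⟨Subtype.ext (Subtype.ext ?_), fun y => Subtype.ext (Subtype.ext ?_)⟩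
    · push_cast
      rw [hc, ← pow_mul, mul_comm, pow_mul, F.n_cube, one_pow]
    · push_cast
      rw [hc]
      exact ((show Commute ((y : F.Cn) : G) F.n from F.mem_Cn.1 y.1.2).pow_right _).symm.eq
  haveI : Fact (Nat.Prime 3) := ⟨Nat.prime_three⟩
  obtain ⟨m, hm⟩ := IsPGroup.iff_card.1 (fun x => ⟨1, Subtype.ext (by simpa using (h3 x x.2).1)⟩ : IsPGroup 3 f.ker)
  obtain ⟨H, hH⟩ := Subgroup.exists_right_complement'_of_coprime (N := f.ker)
    (by rw [hm, hi]; exact h.symm.pow_left m)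
  have hHcard : Nat.card H = f.ker.index := hH.symm.index_eq_card.symm
  refine ⟨(H.map W₀.subtype).map F.Cn.subtype, fun w => ⟨?_, ?_⟩, ?_, fun w hw => ?_⟩
  · rintro ⟨_, ⟨y, hy, rfl⟩, rfl⟩
    refine ⟨(y : F.Cn).2, y.2, ?_⟩
    show (orderOf ((y : F.Cn) : G)).Coprime 3
    rw [orderOf_submonoid, orderOf_submonoid]
    exact (h.coprime_dvd_left (hi ▸ hHcard ▸ Subgroup.orderOf_dvd_natCard H hy))
  · rintro ⟨hw, hw0, hwo⟩
    obtain ⟨⟨⟨n, hn⟩, ⟨y, hy⟩⟩, e⟩ := hH.2 ⟨⟨w, hw⟩, hw0⟩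
    simp only at e
    have hc : Commute n y := (h3 n hn).2 y
    have hn1 : n = 1 := by
      have h1 := hc.mul_pow (Nat.card H)
      rw [show y ^ Nat.card H = 1 from orderOf_dvd_iff_pow_eq_one.1 (Subgroup.orderOf_dvd_natCard H hy), mul_one] at h1
      have h2 : orderOf (n ^ Nat.card H) ∣ 3 := orderOf_dvd_of_pow_eq_one (by
        rw [← pow_mul, mul_comm, pow_mul, (h3 n hn).1, one_pow])
      have h4 : orderOf (n ^ Nat.card H) ∣ orderOf w := by
        rw [← h1, e]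
        refine (orderOf_pow_dvd _).trans ?_
        rw [← orderOf_submonoid, ← orderOf_submonoid]
      have h5 := Nat.dvd_gcd h4 h2
      rw [hwo.gcd_eq_one, Nat.dvd_one, orderOf_eq_one_iff] at h5
      have h6 := Nat.dvd_gcd (orderOf_dvd_of_pow_eq_one h5) (orderOf_dvd_of_pow_eq_one (h3 n hn).1)
      rw [hHcard, hi, h.gcd_eq_one, Nat.dvd_one, orderOf_eq_one_iff] at h6
      exact h6
    rw [hn1, one_mul] at e
    exact ⟨_, ⟨y, hy, rfl⟩, congrArg (fun x : W₀ => ((x : F.Cn) : G)) e⟩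
  · rw [Subgroup.card_map_of_injective F.Cn.subtype_injective, Subgroup.card_map_of_injective W₀.subtype_injective,
      hHcard, hi]
    exact h
  · obtain ⟨⟨⟨n, hn⟩, ⟨y, hy⟩⟩, e⟩ := hH.2 ⟨w, hw⟩
    simp only at e
    refine ⟨y, ⟨_, ⟨y, hy, rfl⟩, rfl⟩, ?_⟩
    rw [show w = ((n * y : W₀) : F.Cn) from (congrArg Subtype.val e).symm]
    push_cast
    rw [map_mul, show F.qn (n : F.Cn) = 1 from hn, one_mul]

theorem Classified.J_signalizer_n (K : Subgroup F.Ln) (hK : (Nat.card K).Coprime 3)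
    (hKJ : ∀ j ∈ F.Jn, K.map (MulAut.conj j).toMonoidHom = K) : K = ⊥ := by
  classical
  have hnorm : F.Jn ≤ Subgroup.normalizer (K : Set F.Ln) := fun j hj => by
    rw [Subgroup.mem_normalizer_iff]
    intro x
    refine ⟨fun hx => (hKJ j hj) ▸ ⟨x, hx, rfl⟩, fun hx => ?_⟩
    rw [← hKJ j hj] at hx
    obtain ⟨y, hy, e⟩ := hx
    simp at e
    rwa [e] at hy
  -- the plane generated by the images of `z` and `n`
  let ι : (Fin 2 → ZMod 3) → Four := fun u => ![u 0, 0, u 1, 0]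
  let P : Subgroup F.Ln :=
    { carrier := {j | ∃ u, j = F.qn ⟨F.el (ι u), F.el_Cn _⟩}
      one_mem' := ⟨0, by
        rw [← map_one F.qn]
        exact congrArg F.qn (Subtype.ext (by
          show 1 = F.el (ι 0)
          rw [show ι 0 = 0 by funext i; fin_cases i <;> rfl, F.el_zero]))⟩
      mul_mem' := by
        rintro _ _ ⟨u, rfl⟩ ⟨u', rfl⟩
        exact ⟨u + u', by
          rw [← map_mul]
          exact congrArg F.qn (Subtype.ext (by
            push_cast; rw [← F.el_mul]; congr 1; funext i; fin_cases i <;> simp [ι]))⟩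
      inv_mem' := by
        rintro _ ⟨u, rfl⟩
        exact ⟨-u, by
          rw [← map_inv]
          exact congrArg F.qn (Subtype.ext (by
            push_cast; rw [← F.el_neg]; congr 1; funext i; fin_cases i <;> simp [ι]))⟩ }
  have hPJ : P ≤ F.Jn := by
    rintro _ ⟨u, rfl⟩
    exact Subgroup.mem_map_of_mem _ (F.el_mem _)
  have hP9 : Nat.card P = 9 := by
    let κ : (Fin 2 → ZMod 3) → P := fun u => ⟨_, u, rfl⟩
    have hκ : Function.Bijective κ := by
      refine ⟨fun u u' e => ?_, fun ⟨j, u, hu⟩ => ⟨u, Subtype.ext hu.symm⟩⟩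
      have h := congrArg Subtype.val e
      simp only [κ] at h
      obtain ⟨a, b, -⟩ := F.qn_el_eq.1 h
      funext i
      fin_cases i
      · simpa [ι] using a
      · simpa [ι] using b
    rw [← Nat.card_congr (Equiv.ofBijective κ hκ)]
    simp
  haveI : IsMulCommutative P := ⟨⟨fun a b => Subtype.ext (congrArg Subtype.val
    (F.Jn_facts.1.is_comm.comm ⟨a, hPJ a.2⟩ ⟨b, hPJ b.2⟩) :)⟩⟩
  have hPc : ¬ IsCyclic P := fun h => by
    obtain ⟨g, hg⟩ := h.exists_generator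
    have h1 := orderOf_eq_card_of_forall_mem_zpowers hg
    have h2 : orderOf g ∣ 3 := orderOf_dvd_iff_pow_eq_one.2 (Subtype.ext (F.Jn_facts.2 _ (hPJ g.2)))
    rw [h1, hP9] at h2
    norm_num at h2
  rw [← Cfsg.Agent.S0058.result P K hPc (hPJ.trans hnorm)
    (by rw [hP9, show (9 : ℕ) = 3 ^ 2 from rfl]; exact hK.symm.pow_left 2), ← le_bot_iff]
  refine iSup₂_le fun j hj => ?_
  obtain ⟨⟨u, rfl⟩, hj1⟩ := hj
  -- a singular point over `j`
  set x : Four := ![u 0, u 1, u 1, 0] with hxdef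
  have hxj : F.qn ⟨F.el x, F.el_Cn _⟩ = F.qn ⟨F.el (ι u), F.el_Cn _⟩ := by
    exact F.qn_el_eq.2 (by simp [hxdef, ι])
  have hx0 : x ≠ 0 := by
    intro e
    refine hj1 ?_
    rw [← hxj, show (⟨F.el x, F.el_Cn _⟩ : F.Cn) = 1 from Subtype.ext (by
      show F.el x = 1
      rw [e, F.el_zero]), map_one]
  have hxq : qf x = 0 := by simp [hxdef, qf]
  -- the preimage
  set W₀ : Subgroup F.Cn := (K ⊓ Subgroup.centralizer {F.qn ⟨F.el (ι u), F.el_Cn _⟩}).comap F.qn with hW₀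
  -- its part of order prime to three
  obtain ⟨W, hWmem, hW3, hone⟩ := coprime_part_n (F := F) W₀ (hK.coprime_dvd_left (by
    refine Subgroup.card_dvd_of_le ?_
    exact (Subgroup.map_comap_le _ _).trans inf_le_left))
  -- it is trivial
  have hfix : ∀ w ∈ W, w * F.el x = F.el x * w := by
    intro w hw
    have hset : {w | ∃ hw : w ∈ F.Cn, (⟨w, hw⟩ : F.Cn) ∈ W₀ ∧ (orderOf w).Coprime 3} ⊆
        (Subgroup.centralizer ({F.el x} : Set G) : Set G) := by
      rintro w ⟨hwC, hw0, hwo⟩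
      refine Subgroup.mem_centralizer_singleton_iff.2 ?_
      have h1 := Subgroup.mem_centralizer_singleton_iff.1 hw0.2
      rw [← hxj] at h1
      have h2 : F.qn (⟨F.el x, F.el_Cn _⟩⁻¹ * (⟨w, hwC⟩ * ⟨F.el x, F.el_Cn _⟩ * ⟨w, hwC⟩⁻¹)) = 1 := by
        rw [map_mul, map_mul, map_mul, map_inv, map_inv, h1, mul_inv_cancel_right, inv_mul_cancel]
      obtain ⟨c, hc⟩ := F.qn_eq_one.1 h2
      push_cast at hc
      have h3 : w * F.el x * w⁻¹ = F.el x * F.n ^ c.val := by rw [← hc, mul_inv_cancel_left]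
      have hr : Commute w (F.n ^ c.val) := (show Commute w F.n from F.mem_Cn.1 hwC).pow_right _
      have hrx : Commute (F.el x) (F.n ^ c.val) :=
        (show Commute (F.el x) F.n from F.mem_Cn.1 (F.el_Cn x)).pow_right _
      have hiter : ∀ m : ℕ, w ^ m * F.el x * (w ^ m)⁻¹ = F.el x * (F.n ^ c.val) ^ m := by
        intro m
        induction m with
        | zero => simp
        | succ m ih =>
          rw [pow_succ', show w * w ^ m * F.el x * (w * w ^ m)⁻¹ = w * (w ^ m * F.el x * (w ^ m)⁻¹) * w⁻¹ by group,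
            ih, show w * (F.el x * (F.n ^ c.val) ^ m) * w⁻¹ = (w * F.el x * w⁻¹) * (w * (F.n ^ c.val) ^ m * w⁻¹) by group,
            h3, (hr.pow_right m).eq, mul_inv_cancel_right, mul_assoc, ← pow_succ']
      have h4 := hiter (orderOf w)
      rw [pow_orderOf_eq_one, one_mul, inv_one, mul_one, left_eq_mul, ← pow_mul] at h4
      have h5 : 3 ∣ c.val * orderOf w := by
        haveI : Fact (Nat.Prime 3) := ⟨Nat.prime_three⟩
        have hd := orderOf_dvd_of_pow_eq_one h4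
        rwa [orderOf_eq_prime F.n_cube fun e => F.n_notZ (by rw [e]; exact one_mem _)] at hd
      rcases (Nat.Prime.dvd_mul Nat.prime_three).1 h5 with h | h
      · rw [Nat.eq_zero_of_dvd_of_lt h (ZMod.val_lt c), pow_zero, mul_one] at h3
        exact mul_inv_eq_iff_eq_mul.1 h3
      · have := Nat.dvd_gcd h (dvd_refl 3)
        rw [hwo.gcd_eq_one] at this
        norm_num at this
    exact Subgroup.mem_centralizer_singleton_iff.1 (hset ((hWmem w).1 hw))
  have hEn : F.E ≤ Subgroup.normalizer (W : Set G) := by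
    intro a ha
    obtain ⟨v, rfl⟩ := F.mem_E_iff.1 ha
    have key : ∀ v, W.map (MulAut.conj (F.el v)).toMonoidHom ≤ W := by
      intro v
      rintro _ ⟨w, hw, rfl⟩
      obtain ⟨hwC, hw0, hwo⟩ := (hWmem w).1 hw
      refine (hWmem _).2 ⟨mul_mem (mul_mem (F.el_Cn v) hwC) (inv_mem (F.el_Cn v)), ?_, ?_⟩
      · have e : F.qn ⟨F.el v * w * (F.el v)⁻¹, mul_mem (mul_mem (F.el_Cn v) hwC) (inv_mem (F.el_Cn v))⟩ =
            F.qn ⟨F.el v, F.el_Cn v⟩ * F.qn ⟨w, hwC⟩ * (F.qn ⟨F.el v, F.el_Cn v⟩)⁻¹ := by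
          rw [← map_inv, ← map_mul, ← map_mul]; rfl
        have hj : F.qn ⟨F.el v, F.el_Cn v⟩ ∈ F.Jn := Subgroup.mem_map_of_mem _ (F.el_mem v)
        refine Subgroup.mem_comap.2 ⟨?_, Subgroup.mem_centralizer_singleton_iff.2 ?_⟩
        · show F.qn ⟨F.el v * w * (F.el v)⁻¹, mul_mem (mul_mem (F.el_Cn v) hwC) (inv_mem (F.el_Cn v))⟩ ∈ K
          exact e ▸ (hKJ _ hj ▸ ⟨_, hw0.1, rfl⟩ : _ ∈ K)
        · show F.qn ⟨F.el v * w * (F.el v)⁻¹, mul_mem (mul_mem (F.el_Cn v) hwC) (inv_mem (F.el_Cn v))⟩ * _ = _ * F.qn ⟨F.el v * w * (F.el v)⁻¹, mul_mem (mul_mem (F.el_Cn v) hwC) (inv_mem (F.el_Cn v))⟩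
          rw [e]
          have c1 : Commute (F.qn ⟨w, hwC⟩) (F.qn ⟨F.el (ι u), F.el_Cn _⟩) :=
            Subgroup.mem_centralizer_singleton_iff.1 hw0.2
          have c2 : Commute (F.qn ⟨F.el v, F.el_Cn v⟩) (F.qn ⟨F.el (ι u), F.el_Cn _⟩) := by
            show _ * _ = _ * _
            rw [← map_mul, ← map_mul]
            exact congrArg F.qn (Subtype.ext (F.el_comm _ _))
          exact ((c2.mul_left c1).mul_left c2.inv_left).eq
      · rwa [orderOf_injective (MulAut.conj (F.el v)).toMonoidHom (MulAut.conj (F.el v)).injective w]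
    rw [Subgroup.mem_normalizer_iff]
    intro w
    refine ⟨fun hw => key v ⟨w, hw, rfl⟩, fun hw => ?_⟩
    have h := key (-v) ⟨_, hw, rfl⟩
    rw [F.el_neg] at h
    simpa [mul_assoc] using h
  have hWbot := hF.no_signalizer_point hx0 hxq (fun w hw => Subgroup.mem_centralizer_singleton_iff.2 (hfix w hw))
    hW3 hEn
  intro y hy
  obtain ⟨w, rfl⟩ := F.qn_surj y
  obtain ⟨w', hw', e⟩ := hone w hy
  rw [hWbot, Subgroup.mem_bot] at hw'
  rw [Subgroup.mem_bot, ← e, show w' = 1 from Subtype.ext hw', map_one]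

omit hF in
theorem map_conj_of_norm {L : Type*} [Group L] [Finite L] {A K : Subgroup L} (h : A ≤ Subgroup.normalizer (K : Set L)) :
    ∀ j ∈ A, K.map (MulAut.conj j).toMonoidHom = K := fun j hj => by
  refine Subgroup.eq_of_le_of_card_ge ?_ (Subgroup.card_map_of_injective (MulAut.conj j).injective).ge
  rintro _ ⟨x, hx, rfl⟩
  exact (Subgroup.mem_normalizer_iff.1 (h hj) x).1 hx

end Frame

end Loc

end Cfsg.Agent.Spor.OmegaEightThree
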