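import Cfsg.Agent.Lib.Spor.OmegaEightThree.Double.Local

/-!
The three reflections of the axis permuted by the translation and `σ`: the group of sign changes.
-/

set_option autoImplicit false
set_option linter.unusedSectionVars false
set_option maxHeartbeats 1000000
set_option maxRecDepth 100000

namespace Cfsg.Agent.Spor.OmegaEightThree

open X (Vec wt mono dot hh Sgn)

namespace Loc

variable {G : Type*} [Group G] [Finite G] {T : Loc G}

/-- A conjugate of a reflection. -/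
theorem Frame.Classified.refl_map {F : Frame T} (hF : F.Classified) {k : G} {φ : Four → Four} (hk : F.Act k φ)
    {a : G} {p : Four} (ha : F.IsRefl a p) : F.IsRefl (k * a * k⁻¹) (φ p) where
  sq := by rw [conj_mul, ha.sq, mul_one, mul_inv_cancel]
  act v := by
    obtain ⟨u, rfl⟩ := Finite.injective_iff_surjective.1 hk.injective v
    have e : refl (φ p) (φ u) = φ (refl p u) := by
      rw [refl, refl, hF.bil_image hk, sub_eq_add_neg, sub_eq_add_neg, hk.add, hk.neg, hk.smul]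
    rw [e, ← hk u, show k * a * k⁻¹ * (k * F.el u * k⁻¹) * (k * a * k⁻¹)⁻¹ = k * (a * F.el u * a⁻¹) * k⁻¹ by group,
      ha.act, hk]
  qp := (hF.isom hk p).trans ha.qp
  conj := by
    obtain ⟨g, rfl⟩ := ha.conj
    exact ⟨k * g, by group⟩

/-- A choice between `1` and `x`. -/
def pw {H : Type*} [Group H] (x : H) (u : (ZMod 3)ˣ) : H := if u = 1 then 1 else x

theorem pw_one {H : Type*} [Group H] (x : H) : pw x 1 = 1 := if_pos rfl

theorem pw_neg {H : Type*} [Group H] (x : H) : pw x (-1) = x := if_neg (by decide)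

theorem pw_mul {H : Type*} [Group H] {x : H} (hx : x * x = 1) (u u' : (ZMod 3)ˣ) :
    pw x u * pw x u' = pw x (u * u') := by
  rcases unit_cases u with rfl | rfl <;> rcases unit_cases u' with rfl | rfl <;> simp [pw_one, pw_neg, hx]

theorem pw_comm {H : Type*} [Group H] {x y : H} (h : x * y = y * x) (u u' : (ZMod 3)ˣ) :
    Commute (pw x u) (pw y u') := by
  rcases unit_cases u with rfl | rfl <;> rcases unit_cases u' with rfl | rfl <;>
    simp only [pw_one, pw_neg] <;>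
    first | exact Commute.one_left _ | exact Commute.one_right _ | exact h

theorem pw_conj {H : Type*} [Group H] (k x : H) (u : (ZMod 3)ˣ) : k * pw x u * k⁻¹ = pw (k * x * k⁻¹) u := by
  rcases unit_cases u with rfl | rfl <;> simp [pw_one, pw_neg]

/-- The sign changes on the coordinates of `E`. -/
def flipF (u : (ZMod 3)ˣ) (p : Four) (v : Four) : Four := if u = 1 then v else refl p v

/-- The action of a sign change on `E`. -/
def sgA (ε : Sgn) (v : Four) : Four := flipF (ε 0) (pts 0) (flipF (ε 1) (pts 1) (flipF (ε 2) (pts 2) v))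

/-- The exchange of the last two coordinates. -/
def swp (ε : Sgn) : Sgn := ![ε 0, ε 2, ε 1]

/-- The cyclic shift. -/
def cyc (ε : Sgn) : Sgn := ![ε 2, ε 0, ε 1]

theorem sR_smul : ∀ (j : ZMod 3) (v : Four), sR (j • v) = j • sR v := by decide +kernel

theorem mV_pts : Frame.mV (pts 0) = -pts 1 ∧ Frame.mV (pts 1) = pts 2 ∧ sR (pts 0) = pts 0 := by decide +kernel

theorem mono_sep : ∀ ε : Sgn, (∀ v : Vec, mono 1 ε v = v) → ε = 1 := by decide +kernel

namespace Dbl

variable (D : Dbl T)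

/-- The reflection at the second point. -/
def b : G := D.w * D.a * D.w⁻¹

/-- The reflection at the third point. -/
def c : G := D.w⁻¹ * D.a * D.w

theorem w_cube : D.w * D.w * D.w = 1 := T.cube_iff D.wQ

theorem w_sq : D.w * D.w = D.w⁻¹ := (T.inv_eq_sq D.wQ).symm

theorem w_b : D.w * D.b * D.w⁻¹ = D.c := by
  rw [b, c, show D.w * (D.w * D.a * D.w⁻¹) * D.w⁻¹ = D.w * D.w * D.a * (D.w * D.w)⁻¹ by group, D.w_sq, inv_inv]

theorem w_c : D.w * D.c * D.w⁻¹ = D.a := by rw [c]; group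

theorem bR : D.F.IsRefl D.b (pts 1) := by
  have h := D.hF.refl_map D.wA D.aR
  rw [mV_pts.1] at h
  exact ⟨h.sq, h.act.congr fun v => refl_neg _ v, (pts_facts 1).1, h.conj⟩

theorem cR : D.F.IsRefl D.c (pts 2) := by
  have h := D.hF.refl_map D.wA D.bR
  rw [mV_pts.2.1, D.w_b] at h
  exact h

theorem ta : D.F.t * D.a = D.a * D.F.t := D.hF.refl_commute D.F.t_refl D.aR (pts_facts 0).2.2.1 (pts_facts 0).2.1

theorem tb : D.F.t * D.b = D.b * D.F.t := D.hF.refl_commute D.F.t_refl D.bR (pts_facts 1).2.2.1 (pts_facts 1).2.1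

theorem tc : D.F.t * D.c = D.c * D.F.t := D.hF.refl_commute D.F.t_refl D.cR (pts_facts 2).2.2.1 (pts_facts 2).2.1

theorem ab : D.a * D.b = D.b * D.a :=
  D.hF.refl_commute D.aR D.bR ((pts_facts 0).2.2.2 1 (by decide)) ((pts_facts 1).2.2.2 0 (by decide))

theorem ac : D.a * D.c = D.c * D.a :=
  D.hF.refl_commute D.aR D.cR ((pts_facts 0).2.2.2 2 (by decide)) ((pts_facts 2).2.2.2 0 (by decide))

theorem bc : D.b * D.c = D.c * D.b :=
  D.hF.refl_commute D.bR D.cR ((pts_facts 1).2.2.2 2 (by decide)) ((pts_facts 2).2.2.2 1 (by decide))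

theorem s_a : D.s * D.a * D.s⁻¹ = D.a := by
  set a' := D.s * D.a * D.s⁻¹ with ha'
  have hR := D.hF.refl_map D.hs.act D.aR
  rw [mV_pts.2.2, ← ha'] at hR
  have hq := (pts_facts 0).1
  have hai : D.a⁻¹ = D.a := inv_eq_of_mul_eq_one_right D.aR.sq
  have ha'i : a'⁻¹ = a' := inv_eq_of_mul_eq_one_right hR.sq
  obtain ⟨w, hw⟩ := D.F.mem_E_iff.1 (D.hF.cent_E (c := D.a * a') fun v => mul_inv_eq_iff_eq_mul.1 (by
    rw [(D.aR.act.mul hR.act) v, Function.comp_apply, refl_refl _ _ hq]))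
  have hinv : D.a * (D.a * a') * D.a⁻¹ = (D.a * a')⁻¹ := by
    rw [mul_inv_rev, ha'i, hai, ← mul_assoc D.a, D.aR.sq, one_mul]
  rw [← hw, D.aR.act, ← D.F.el_neg] at hinv
  obtain ⟨j, rfl⟩ := refl_inverted _ _ hq (D.F.el_inj hinv)
  have hs : D.s * (D.a * a') * D.s⁻¹ = (D.a * a')⁻¹ := by
    rw [mul_inv_rev, ha'i, hai, ha', D.s_inv, show D.s * (D.a * (D.s * D.a * D.s)) * D.s =
      D.s * D.a * D.s * D.a * (D.s * D.s) by group, D.hs.sq, mul_one]
  rw [← hw, D.hs.act, show sR (j • pts 0) = j • pts 0 by rw [sR_smul, mV_pts.2.2], ← D.F.el_neg] at hs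
  have h0 : j • pts 0 = 0 := (show ∀ x : Four, x = -x → x = 0 by decide +kernel) _ (D.F.el_inj hs)
  rw [h0, D.F.el_zero] at hw
  exact (eq_inv_of_mul_eq_one_right hw.symm).trans hai

theorem s_b : D.s * D.b * D.s⁻¹ = D.c := by
  rw [b, c, show D.s * (D.w * D.a * D.w⁻¹) * D.s⁻¹ =
    D.s * D.w * D.s⁻¹ * (D.s * D.a * D.s⁻¹) * (D.s * D.w * D.s⁻¹)⁻¹ by group, D.s_a, D.sw, inv_inv]

theorem s_c : D.s * D.c * D.s⁻¹ = D.b := by
  rw [b, c, show D.s * (D.w⁻¹ * D.a * D.w) * D.s⁻¹ =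
    (D.s * D.w * D.s⁻¹)⁻¹ * (D.s * D.a * D.s⁻¹) * (D.s * D.w * D.s⁻¹) by group, D.s_a, D.sw, inv_inv]

/-- The group of sign changes. -/
def sg : Sgn →* G := MonoidHom.mk' (fun ε => pw D.a (ε 0) * pw D.b (ε 1) * pw D.c (ε 2)) fun ε δ => by
  simp only [Pi.mul_apply]
  rw [← pw_mul D.aR.sq, ← pw_mul D.bR.sq, ← pw_mul D.cR.sq]
  have h1 : Commute (pw D.c (ε 2)) (pw D.a (δ 0) * pw D.b (δ 1)) :=
    (pw_comm D.ac.symm _ _).mul_right (pw_comm D.bc.symm _ _)
  rw [h1.mul_mul_mul_comm, (pw_comm D.ab.symm (ε 1) (δ 0)).mul_mul_mul_comm]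

theorem sg_apply (ε : Sgn) : D.sg ε = pw D.a (ε 0) * pw D.b (ε 1) * pw D.c (ε 2) := rfl

theorem sg_neg : D.sg (-1) = D.a * D.b * D.c := by
  rw [sg_apply]
  simp only [Pi.neg_apply, Pi.one_apply, pw_neg]

theorem sg_sq (ε : Sgn) : D.sg ε * D.sg ε = 1 := by rw [← map_mul, X.sgn_sq, map_one]

theorem sg_inv (ε : Sgn) : (D.sg ε)⁻¹ = D.sg ε := inv_eq_of_mul_eq_one_right (D.sg_sq ε)

theorem sg_comm (ε δ : Sgn) : D.sg ε * D.sg δ = D.sg δ * D.sg ε := by rw [← map_mul, ← map_mul, mul_comm]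

theorem sg_t (ε : Sgn) : D.sg ε * D.F.t = D.F.t * D.sg ε := by
  have h : ∀ {x : G}, D.F.t * x = x * D.F.t → ∀ u, Commute (pw x u) D.F.t := fun {x} hx u => by
    rcases unit_cases u with rfl | rfl
    · rw [pw_one]; exact Commute.one_left _
    · rw [pw_neg]; exact hx.symm
  exact (((h D.ta _).mul_left (h D.tb _)).mul_left (h D.tc _)).eq

theorem sg_act (ε : Sgn) : D.F.Act (D.sg ε) (sgA ε) := by
  have h : ∀ {x : G} {p : Four}, D.F.IsRefl x p → ∀ u, D.F.Act (pw x u) (flipF u p) := fun {x p} hx u => by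
    rcases unit_cases u with rfl | rfl
    · rw [pw_one]
      exact fun v => by simp [flipF]
    · rw [pw_neg]
      exact hx.act.congr fun v => (if_neg (by decide)).symm
  exact ((h D.aR _).mul (h D.bR _)).mul (h D.cR _)

theorem move_sg (ε : Sgn) : D.Move (D.sg ε) (mono 1 ε) := by
  have h : ∀ {x : G} (i : Fin 3), D.F.IsRefl x (pts i) → ∀ u,
      D.F.ActA (pw x u) (mono 1 fun j => if j = i then u else 1) := fun {x} i hx u => by
    rcases unit_cases u with rfl | rfl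
    · intro v
      rw [pw_one, one_mul, inv_one, mul_one, Loc.mono_one v _ fun j => by simp]
    · intro v
      rw [pw_neg, Frame.ea, hx.act, refl_ePt]
      rfl
  refine ⟨D.sg_t ε, fun v => ?_, dot_sign ε⟩
  rw [sg_apply, (((h 0 D.aR (ε 0)).mul (h 1 D.bR (ε 1))).mul (h 2 D.cR (ε 2))) v]
  simp only [Function.comp_apply]
  rw [sign_prod]

theorem s_sg (ε : Sgn) : D.s * D.sg ε * D.s⁻¹ = D.sg (swp ε) := by
  rw [sg_apply, sg_apply, ← conj_mul, ← conj_mul, pw_conj, pw_conj, pw_conj, D.s_a, D.s_b, D.s_c, mul_assoc,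
    (pw_comm D.bc.symm (ε 1) (ε 2)).eq, ← mul_assoc]
  rfl

theorem w_sg (ε : Sgn) : D.w * D.sg ε * D.w⁻¹ = D.sg (cyc ε) := by
  rw [sg_apply, sg_apply, ← conj_mul, ← conj_mul, pw_conj, pw_conj, pw_conj, ← b, D.w_b, D.w_c,
    ((pw_comm D.ab.symm _ _).mul_left (pw_comm D.ac.symm _ _) :
      Commute (pw D.b (ε 0) * pw D.c (ε 1)) (pw D.a (ε 2))).eq, ← mul_assoc]
  rfl

theorem sg_mem_Y {ε : Sgn} (h : D.sg ε ∈ D.Y) : ε = 1 := by
  refine mono_sep ε fun v => ?_
  rcases D.mem_Zt.1 (D.Y_inf_NA h (D.move_sg ε).mem) with e | e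
  · exact Frame.ea_inj (F := D.F) (by rw [← (D.move_sg ε).act, e, one_mul, inv_one, mul_one])
  · exact Frame.ea_inj (F := D.F) (by
      rw [← (D.move_sg ε).act, e, Frame.ea_comm_t, mul_inv_cancel_right])

theorem sg_inj : Function.Injective D.sg := by
  rw [injective_iff_map_eq_one]
  exact fun ε h => D.sg_mem_Y (h ▸ one_mem _)

end Dbl

end Loc

end Cfsg.Agent.Spor.OmegaEightThree
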