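import Cfsg.Agent.Lib.Spor.OmegaEightThree.Double.Groups

/-!
`P` is a Sylow `2`-subgroup.
-/

set_option autoImplicit false
set_option linter.unusedSectionVars false
set_option linter.style.haveILetI false
set_option maxHeartbeats 1000000
set_option maxRecDepth 100000

namespace Cfsg.Agent.Spor.OmegaEightThree

open X (Vec wt mono dot hh hh_wt Sgn)

namespace Loc

theorem swp_cases : ∀ ε : Sgn, ε * swp ε = 1 →
    ε = 1 ∨ ε = ![1, -1, -1] ∨ ε = ![-1, 1, 1] ∨ ε = -1 := by decide +kernel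

theorem sign_corr : ∀ σ₀ σ₁ σ₂ : (ZMod 3)ˣ, ∃ δ : Sgn,
    (mono 1 δ ![1, 0, 0] = (σ₀ : ZMod 3) • (![1, 0, 0] : Vec) ∧
      mono 1 δ ![0, 1, 1] = (σ₁ : ZMod 3) • (![0, 1, 1] : Vec) ∧
      mono 1 δ ![0, 1, -1] = (σ₂ : ZMod 3) • (![0, 1, -1] : Vec)) ∨
    (mono 1 δ (sV ![1, 0, 0]) = (σ₀ : ZMod 3) • (![1, 0, 0] : Vec) ∧
      mono 1 δ (sV ![0, 1, 1]) = (σ₁ : ZMod 3) • (![0, 1, 1] : Vec) ∧
      mono 1 δ (sV ![0, 1, -1]) = (σ₂ : ZMod 3) • (![0, 1, -1] : Vec)) := by decide +kernel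

theorem sign_of {w v : Vec} (h : w = v ∨ w = -v) : ∃ σ : (ZMod 3)ˣ, w = (σ : ZMod 3) • v := by
  rcases h with h | h
  · exact ⟨1, by rw [h, Units.val_one, one_smul]⟩
  · exact ⟨-1, by rw [h, Units.val_neg, Units.val_one, neg_smul, one_smul]⟩

theorem mono_add' (δ : Sgn) (u v : Vec) : mono 1 δ (u + v) = mono 1 δ u + mono 1 δ v := X.mono_add δ u v

theorem sV_add : ∀ u v : Vec, sV (u + v) = sV u + sV v := by decide +kernel

namespace Dbl

variable {G : Type*} [Group G] [Finite G] {T : Loc G} (D : Dbl T)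

/-- Conjugating an element outside `P₀` by a sign change. -/
theorem conj_outer {y : G} (hy : y ∈ D.Y) (ε β : Sgn) : ∃ y' ∈ D.Y,
    D.sg β * (y * (D.sg ε * D.s)) * (D.sg β)⁻¹ = y' * (D.sg (β * ε * swp β) * D.s) := by
  refine ⟨D.sg β * y * (D.sg β)⁻¹, D.NT_conj (D.sg_NT β) hy, ?_⟩
  have e : D.sg (β * ε * swp β) * D.s = D.sg β * D.sg ε * (D.s * D.sg β) := by
    rw [map_mul, map_mul, ← D.s_sg]; group
  rw [e, D.sg_inv]
  calc _ = D.sg β * y * (D.sg β * D.sg β) * D.sg ε * D.s * D.sg β := by rw [D.sg_sq]; group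
    _ = _ := by group

theorem move_add {k : G} (hk : k ∈ D.NA) {f : Vec → Vec} (hf : D.Move k f) :
    ∀ u v, f (u + v) = f u + f v := by
  obtain ⟨f', hf', hadd⟩ := D.exists_move_of_NA hk
  intro u v
  have e : ∀ w, f w = f' w := fun w => Frame.ea_inj (F := D.F) ((hf.act w).symm.trans (hf'.act w))
  rw [e, e, e, hadd]

/-- An element of a `2`-group containing `P` that normalises `P` and fixes `σ` modulo `Y` lies in `P`. -/
theorem mem_P_of_fix {S' : Subgroup G} (hS' : IsPGroup 2 S') (hle : D.P ≤ S') {g : G} (hgS : g ∈ S')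
    (hgN : g ∈ D.NT) (hs : g * D.s * g⁻¹ * D.s⁻¹ ∈ D.Y) : g ∈ D.P := by
  have hH : g ∈ D.HS := ⟨(D.mem_NT.1 hgN).2, (D.mem_NT.1 hgN).1, hs⟩
  obtain ⟨y, hy, k, hk, f, he, hf, hadd, hfs⟩ := D.shape (g := ⟨g, hH⟩) (D.HS_le_M hH)
  obtain ⟨h1, h2, h3⟩ := D.basis_images hf hfs
  obtain ⟨σ₀, e0⟩ := sign_of h1
  obtain ⟨σ₁, e1⟩ := sign_of h2
  obtain ⟨σ₂, e2⟩ := sign_of h3
  obtain ⟨δ, hδ⟩ := sign_corr σ₀ σ₁ σ₂
  obtain ⟨c, hc, h, hmv, hhadd, b0, b1, b2⟩ : ∃ c ∈ D.P, ∃ h : Vec → Vec, D.Move c h ∧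
      (∀ u v, h (u + v) = h u + h v) ∧ h ![1, 0, 0] = (σ₀ : ZMod 3) • (![1, 0, 0] : Vec) ∧
      h ![0, 1, 1] = (σ₁ : ZMod 3) • (![0, 1, 1] : Vec) ∧ h ![0, 1, -1] = (σ₂ : ZMod 3) • (![0, 1, -1] : Vec) := by
    rcases hδ with ⟨a, b, c⟩ | ⟨a, b, c⟩
    · exact ⟨_, D.P₀_le_P (D.sg_P₀ δ), _, D.move_sg δ, mono_add' δ, a, b, c⟩
    · exact ⟨_, mul_mem (D.P₀_le_P (D.sg_P₀ δ)) D.s_P, _, (D.move_sg δ).mul D D.move_s, fun u v => by
        simp only [Function.comp_apply, sV_add, mono_add'], a, b, c⟩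
  have hm := hf.mul D hmv
  have hadd' : ∀ u v, (f ∘ h) (u + v) = (f ∘ h) u + (f ∘ h) v := fun u v => by
    simp only [Function.comp_apply, hhadd, hadd]
  have fix : ∀ {σ : (ZMod 3)ˣ} {v : Vec}, f v = (σ : ZMod 3) • v → h v = (σ : ZMod 3) • v → (f ∘ h) v = v := by
    intro σ v hfv hhv
    rw [Function.comp_apply, hhv]
    rcases unit_cases σ with rfl | rfl
    · simpa using hfv
    · simp only [Units.val_neg, Units.val_one, neg_smul, one_smul] at hfv ⊢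
      rw [hf.neg D, hfv, neg_neg]
  obtain ⟨v, hv⟩ := D.cent_axis hm.comm fun u => mul_inv_eq_iff_eq_mul.1 (by
    rw [hm.act, D.eq_id_of_basis hm hadd' (fix e0 b0) (fix e1 b1) (fix e2 b2)])
  have hkS : k * c ∈ S' := by
    rw [show k * c = y⁻¹ * g * c by rw [show g = y * k from he]; group]
    exact mul_mem (mul_mem (inv_mem (hle (D.Y_le_P hy))) hgS) (hle hc)
  have hvS : D.F.ea v ∈ S' := by
    rcases hv with e | e
    · exact e ▸ hkS
    · have := mul_mem hkS (inv_mem (hle (D.Zt_le_P D.t_Zt)))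
      rwa [e, mul_inv_cancel_right] at this
  obtain ⟨n, hn⟩ := hS' ⟨_, hvS⟩
  have hn' : D.F.ea v ^ 2 ^ n = 1 := congrArg Subtype.val hn
  have h1' : D.F.ea v = 1 := orderOf_eq_one_iff.1 (Nat.eq_one_of_dvd_coprimes
    (Nat.Coprime.pow_right n (by norm_num : Nat.Coprime 3 2)) (orderOf_dvd_of_pow_eq_one (D.ea_cube v))
    (orderOf_dvd_of_pow_eq_one hn'))
  have hkc : k * c ∈ D.P := by
    rcases hv with e | e <;> rw [e, h1']
    · exact one_mem _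
    · rw [one_mul]; exact D.Zt_le_P D.t_Zt
  have hkP : k ∈ D.P := (Subgroup.mul_mem_cancel_right _ hc).1 hkc
  rw [show g = y * k from he]
  exact mul_mem (D.Y_le_P hy) hkP

/-- `P` is self-normalising in a `2`-group. -/
theorem norm_mem {S' : Subgroup G} (hS' : IsPGroup 2 S') (hle : D.P ≤ S') {g : G} (hgS : g ∈ S')
    (hg : g ∈ Subgroup.normalizer (D.P : Set G)) : g ∈ D.P := by
  have hgN := D.norm_NT hg
  have hsP := (Subgroup.mem_normalizer_iff.1 hg _).1 D.s_P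
  have hsq : g * D.s * g⁻¹ * (g * D.s * g⁻¹) = 1 := by rw [conj_mul, D.hs.sq, mul_one, mul_inv_cancel]
  have hCV := (D.CV_conj hgN D.s).ge.trans' D.card_CV_s
  have hns : g * D.s * g⁻¹ ∉ D.Y := fun h => D.s_notY ((Subgroup.mem_normalizer_iff.1 (D.mem_NT.1 hgN).1 _).2 h)
  obtain ⟨y, hy, ε, e | e⟩ := D.P_cases hsP
  · exfalso
    rw [e, D.CV_mul hy (D.sg_NT ε)] at hCV
    refine absurd (hCV.trans (D.card_CV_sg fun h1 => hns ?_)) (by norm_num)
    rw [e, h1, map_one, mul_one]; exact hy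
  have hswp : ε * swp ε = 1 := by
    refine D.sg_mem_Y ?_
    rw [e] at hsq
    have h1 : D.sg ε * D.s * (D.sg ε * D.s) = D.sg (ε * swp ε) := by
      rw [map_mul, ← D.s_sg, D.s_inv]; group
    have h2 : D.sg (ε * swp ε) = (D.sg ε * D.s * y * (D.sg ε * D.s)⁻¹)⁻¹ * y⁻¹ := by
      rw [← h1]
      calc _ = (D.sg ε * D.s * y * (D.sg ε * D.s)⁻¹)⁻¹ * y⁻¹ *
            (y * (D.sg ε * D.s) * (y * (D.sg ε * D.s))) := by group
        _ = _ := by rw [hsq, mul_one]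
    rw [h2]
    exact mul_mem (inv_mem (D.NT_conj (mul_mem (D.sg_NT ε) D.s_NT) hy)) (inv_mem hy)
  obtain ⟨y', hy', e'⟩ := D.conj_outer hy ε ![1, -1, 1]
  have e'' : D.sg ![1, -1, 1] * g * D.s * (D.sg ![1, -1, 1] * g)⁻¹ =
      y' * (D.sg ((![1, -1, 1] : Sgn) * ε * swp ![1, -1, 1]) * D.s) := by
    rw [← e', ← e]; group
  have hbP := D.P₀_le_P (D.sg_P₀ ![1, -1, 1])
  have hneg : ∀ {h y₁ : G}, h ∈ D.NT → y₁ ∈ D.Y → h * D.s * h⁻¹ ≠ y₁ * (D.sg (-1) * D.s) := by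
    intro h y₁ hh₁ hy₁ eh
    have := (D.CV_conj hh₁ D.s).ge.trans' D.card_CV_s
    rw [eh, D.CV_mul hy₁ (mul_mem (D.sg_NT _) D.s_NT)] at this
    exact absurd (this.trans D.card_CV_neg_s) (by norm_num)
  rcases swp_cases ε hswp with rfl | rfl | rfl | rfl
  · refine D.mem_P_of_fix hS' hle hgS hgN ?_
    rw [e, map_one, one_mul, mul_assoc, mul_inv_cancel, mul_one]
    exact hy
  · refine (Subgroup.mul_mem_cancel_left _ hbP).1
      (D.mem_P_of_fix hS' hle (mul_mem (hle hbP) hgS) (mul_mem (D.sg_NT _) hgN) ?_)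
    rw [e'', show (![1, -1, 1] : Sgn) * ![1, -1, -1] * swp ![1, -1, 1] = 1 by decide, map_one, one_mul,
      mul_assoc, mul_inv_cancel, mul_one]
    exact hy'
  · rw [show (![1, -1, 1] : Sgn) * ![-1, 1, 1] * swp ![1, -1, 1] = -1 by decide] at e''
    exact absurd e'' (hneg (mul_mem (D.sg_NT _) hgN) hy')
  · exact absurd e (hneg hgN hy)

/-- `P` is a Sylow `2`-subgroup. -/
theorem exists_sylow : ∃ S : Sylow 2 G, (S : Subgroup G) = D.P := by
  haveI : Fact (Nat.Prime 2) := ⟨Nat.prime_two⟩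
  obtain ⟨S, hS⟩ := IsPGroup.exists_le_sylow (IsPGroup.of_card (n := 13) (by rw [D.card_P]; norm_num) : IsPGroup 2 D.P)
  refine ⟨S, ?_⟩
  by_contra hne
  haveI := S.isPGroup'.isNilpotent
  have hlt : D.P < S := lt_of_le_of_ne hS (Ne.symm hne)
  obtain ⟨x, hx, hxn⟩ := SetLike.exists_of_lt ((Group.normalizerCondition_of_isNilpotent (G := S))
    (D.P.subgroupOf S) (lt_top_iff_ne_top.2 fun h => hne (le_antisymm (Subgroup.subgroupOf_eq_top.1 h) hS)))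
  refine hxn (D.norm_mem S.isPGroup' hS x.2 ?_)
  refine Subgroup.mem_normalizer_fintype fun a ha => ?_
  exact (Subgroup.mem_normalizer_iff.1 hx ⟨a, hS ha⟩).1 ha

end Dbl

end Loc

end Cfsg.Agent.Spor.OmegaEightThree
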