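import Cfsg.Agent.Lib.Spor.OmegaEightThree.Double.PairCase
import Cfsg.Agent.Lib.Spor.OmegaEightThree.Double.SignCase

/-!
The involutions of `Y` are not conjugate to `σ`.
-/

set_option autoImplicit false
set_option linter.unusedSectionVars false
set_option maxHeartbeats 1000000
set_option maxRecDepth 100000

namespace Cfsg.Agent.Spor.OmegaEightThree

open X (Vec wt mono dot hh hh_wt Sgn)

namespace Loc

theorem pair_rest : ∀ i j : Fin 4, i ≠ j → ∃ k l : Fin 4, k ≠ l ∧ ∀ m, m = i ∨ m = j ∨ m = k ∨ m = l := by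
  decide +kernel

theorem cycle_facts : (∀ i : Fin 4, X.idx (fV (hh i)) = ![1, 2, 0, 3] i) ∧
    (∀ i : Fin 4, i ≠ 1 → i ≠ 3 → dot (hh i) ![1, 0, -1] = 0) ∧ dot (hh 1) ![1, 0, -1] ≠ 0 ∧
    (∀ i : Fin 4, i ≠ 2 → i ≠ 3 → dot (hh i) ![1, -1, 0] = 0) ∧ dot (hh 2) ![1, -1, 0] ≠ 0 := by decide +kernel

theorem dot_smul : ∀ (c : ZMod 3) (h v : Vec), dot h (c • v) = c * dot h v := by decide +kernel

theorem dot_diff : ∀ (c c' : ZMod 3) (h v : Vec), dot h v ≠ 0 → c ≠ c' → dot h (c • v - c' • v) ≠ 0 := by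
  decide +kernel

namespace Dbl

variable {G : Type*} [Group G] [Finite G] {T : Loc G} (D : Dbl T)

/-- The points of the axis move a nontrivial class of a component onto every other one. -/
theorem move_onto {i : Fin 4} {u : Vec} (hu : dot (hh i) u ≠ 0) {x x' : G} (hx : x ∈ D.Rh i) (hx0 : x ∉ D.Zt)
    (hx' : x' ∈ D.Rh i) (hx'0 : x' ∉ D.Zt) :
    ∃ c : ZMod 3, ∃ z ∈ D.Zt, D.F.ea (c • u) * x * (D.F.ea (c • u))⁻¹ = x' * z := by
  classical
  set N : Subgroup (D.Rh i) := D.Zt.subgroupOf (D.Rh i)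
  have hq : ∀ {a b : D.Rh i}, (QuotientGroup.mk a : D.Rh i ⧸ N) = QuotientGroup.mk b ↔
      (a : G)⁻¹ * b ∈ D.Zt := fun {a b} => QuotientGroup.eq.trans Subgroup.mem_subgroupOf
  have hc4 : Nat.card (D.Rh i ⧸ N) = 4 := by
    have := N.card_eq_card_quotient_mul_card_subgroup
    rw [Nat.card_congr (Subgroup.subgroupOfEquivOfLe (D.Zt_le_R i)).toEquiv, D.card_Zt, D.card_R (hh_wt i)] at this
    omega
  let m : Option (ZMod 3) → D.Rh i ⧸ N := fun o => o.elim (QuotientGroup.mk 1)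
    fun c => QuotientGroup.mk ⟨_, D.R_norm (c • u) (hh_wt i) hx⟩
  have hne : ∀ c : ZMod 3, D.F.ea (c • u) * x * (D.F.ea (c • u))⁻¹ ∉ D.Zt := fun c h => hx0 (by
    have h' := D.Zt_comm h ((show Commute (D.F.ea (c • u)) D.F.t from (Frame.ea_comm_t _).symm).inv_left).eq
    have e : x = D.F.ea (c • u) * x * (D.F.ea (c • u))⁻¹ := by
      have := congrArg (· * D.F.ea (c • u)) h'
      simpa [mul_assoc] using this
    exact e ▸ h)
  have hinj : Function.Injective m := by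
    intro a b e
    cases a with
    | none =>
      cases b with
      | none => rfl
      | some c =>
        have := hq.1 e
        rw [OneMemClass.coe_one, inv_one, one_mul] at this
        exact absurd this (hne c)
    | some c =>
      cases b with
      | none =>
        have := hq.1 e
        rw [OneMemClass.coe_one, mul_one] at this
        exact absurd (inv_mem_iff.1 this) (hne c)
      | some c' =>
        by_contra hcc
        refine hx0 (D.R_move_mod (hh_wt i) (dot_diff c' c _ _ hu fun h => hcc (by rw [h])) hx ?_)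
        have h1 : (D.F.ea (c • u) * x * (D.F.ea (c • u))⁻¹)⁻¹ *
            (D.F.ea (c' • u) * x * (D.F.ea (c' • u))⁻¹) ∈ D.Zt := hq.1 e
        set z := (D.F.ea (c • u) * x * (D.F.ea (c • u))⁻¹)⁻¹ * (D.F.ea (c' • u) * x * (D.F.ea (c' • u))⁻¹) with hz
        rw [sub_eq_add_neg, add_comm, D.ea_add, D.ea_neg]
        have e2 : x⁻¹ * ((D.F.ea (c • u))⁻¹ * D.F.ea (c' • u) * x * ((D.F.ea (c • u))⁻¹ * D.F.ea (c' • u))⁻¹) =
            (D.F.ea (c • u))⁻¹ * z * D.F.ea (c • u) := by rw [hz]; group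
        rw [e2, D.Zt_comm h1 ((show Commute (D.F.ea (c • u)) D.F.t from (Frame.ea_comm_t _).symm).inv_left).eq,
          inv_mul_cancel_right]
        exact h1
  haveI := Fintype.ofFinite (D.Rh i ⧸ N)
  have hsurj : Function.Surjective m := (hinj.bijective_of_nat_card_le (by
    rw [hc4, Nat.card_eq_fintype_card, Fintype.card_option, ZMod.card])).2
  obtain ⟨o, ho⟩ := hsurj (QuotientGroup.mk ⟨x', hx'⟩)
  cases o with
  | none =>
    have := hq.1 ho
    rw [OneMemClass.coe_one, inv_one, one_mul] at this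
    exact absurd this hx'0
  | some c =>
    refine ⟨c, x'⁻¹ * (D.F.ea (c • u) * x * (D.F.ea (c • u))⁻¹), hq.1 ho.symm, ?_⟩
    rw [mul_inv_cancel_left]

/-- An element with nontrivial components is conjugate to a fixed point of `w`. -/
theorem full_not_conj (f : ∀ i, D.Rh i) (hf : ∀ i, (f i : G) ∉ D.Zt) (g : G) :
    g * D.pr f * g⁻¹ ≠ D.s := by
  obtain ⟨π, hp, hπ⟩ := D.perm_of D.move_w (p := ![1, 2, 0, 3]) cycle_facts.1
  obtain ⟨-, k1, n1, k2, n2⟩ := cycle_facts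
  have w0 : ∀ {i : Fin 4} {x : G}, x ∈ D.Rh i → x ∉ D.Zt → D.w * x * D.w⁻¹ ∉ D.Zt := fun {i x} _ h hm => h (by
    have h' := D.Zt_comm hm ((show Commute D.w D.F.t from D.wt_comm.symm).inv_left).eq
    have e : x = D.w * x * D.w⁻¹ := by
      have := congrArg (· * D.w) h'
      simpa [mul_assoc] using this
    exact e ▸ hm)
  set x₀ : G := (f 0 : G)
  set x₁ := D.w * x₀ * D.w⁻¹ with hx₁
  set x₂ := D.w * x₁ * D.w⁻¹ with hx₂
  have m₁ : x₁ ∈ D.Rh 1 := by have := hπ 0 _ (f 0).2; rwa [hp 0] at this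
  have m₂ : x₂ ∈ D.Rh 2 := by have := hπ 1 _ m₁; rwa [hp 1] at this
  have z₁ := w0 (f 0).2 (hf 0)
  have z₂ := w0 m₁ z₁
  have back : D.w * x₂ * D.w⁻¹ = x₀ := by
    rw [hx₂, hx₁, show D.w * (D.w * (D.w * x₀ * D.w⁻¹) * D.w⁻¹) * D.w⁻¹ =
      D.w * D.w * D.w * x₀ * (D.w * D.w * D.w)⁻¹ by group, D.w_cube, one_mul, inv_one, mul_one]
  obtain ⟨c₁, u₁, hu₁, e₁⟩ := D.move_onto n1 (f 1).2 (hf 1) m₁ z₁
  obtain ⟨c₂, u₂, hu₂, e₂⟩ := D.move_onto n2 (f 2).2 (hf 2) m₂ z₂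
  have fix : ∀ (c : ZMod 3) (v : Vec) (i : Fin 4), dot (hh i) v = 0 → ∀ x ∈ D.Rh i,
      D.F.ea (c • v) * x * (D.F.ea (c • v))⁻¹ = x := fun c v i hd x hx => by
    rw [← D.R_fix (hh_wt i) (show dot (hh i) (c • v) = 0 by rw [dot_smul, hd, mul_zero]) hx, mul_inv_cancel_right]
  set A := D.F.ea (c₁ • ![1, 0, -1])
  set B := D.F.ea (c₂ • ![1, -1, 0])
  set x₃ := A * B * (f 3 : G) * (A * B)⁻¹ with hx₃
  have m₃ : x₃ ∈ D.Rh 3 := by
    rw [hx₃, show A * B * (f 3 : G) * (A * B)⁻¹ = A * (B * (f 3 : G) * B⁻¹) * A⁻¹ by group]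
    exact D.R_norm _ (hh_wt 3) (D.R_norm _ (hh_wt 3) (f 3).2)
  have conj2 : ∀ x : G, A * B * x * (A * B)⁻¹ = A * (B * x * B⁻¹) * A⁻¹ := fun x => by group
  have p0 : A * B * x₀ * (A * B)⁻¹ = x₀ := by
    rw [conj2, fix c₂ _ 0 (k2 0 (by decide) (by decide)) _ (f 0).2, fix c₁ _ 0 (k1 0 (by decide) (by decide)) _ (f 0).2]
  have p1 : A * B * (f 1 : G) * (A * B)⁻¹ = x₁ * u₁ := by
    rw [conj2, fix c₂ _ 1 (k2 1 (by decide) (by decide)) _ (f 1).2, e₁]
  have p2 : A * B * (f 2 : G) * (A * B)⁻¹ = x₂ * u₂ := by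
    rw [conj2, e₂, fix c₁ _ 2 (k1 2 (by decide) (by decide)) _ (mul_mem m₂ (D.Zt_le_R 2 hu₂))]
  set z := u₁ * u₂
  have hz : z ∈ D.Zt := mul_mem hu₁ hu₂
  have ey : A * B * D.pr f * (A * B)⁻¹ = x₀ * x₁ * x₂ * x₃ * z := by
    rw [D.pr_eq, ← conj_mul, ← conj_mul, ← conj_mul, p0, p1, p2, ← hx₃]
    have c1 : Commute u₁ x₂ := (D.Zt_comm hu₁ (D.Rh_comm_t m₂)).symm
    have c2 : Commute u₁ x₃ := (D.Zt_comm hu₁ (D.Rh_comm_t m₃)).symm
    have c3 : Commute u₂ x₃ := (D.Zt_comm hu₂ (D.Rh_comm_t m₃)).symm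
    calc x₀ * (x₁ * u₁) * (x₂ * u₂) * x₃ = x₀ * x₁ * (u₁ * x₂) * (u₂ * x₃) := by group
      _ = x₀ * x₁ * x₂ * (u₁ * x₃) * u₂ := by rw [c1.eq, c3.eq]; group
      _ = x₀ * x₁ * x₂ * x₃ * (u₁ * u₂) := by rw [c2.eq]; group
  have hwy : D.w * (x₀ * x₁ * x₂ * x₃ * z) = x₀ * x₁ * x₂ * x₃ * z * D.w := by
    refine mul_inv_eq_iff_eq_mul.1 ?_
    have e3 : D.w * x₃ * D.w⁻¹ = x₃ := by rw [D.w_R_three m₃, mul_inv_cancel_right]
    have e4 : D.w * z * D.w⁻¹ = z := by rw [D.Zt_comm hz D.wt_comm.symm, mul_inv_cancel_right]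
    rw [← conj_mul, ← conj_mul, ← conj_mul, ← conj_mul, e3, e4, back, ← hx₁, ← hx₂]
    have h : Commute (x₁ * x₂) x₀ := (D.commute_R (by decide) _ _ m₁ (f 0).2).mul_left
      (D.commute_R (by decide) _ _ m₂ (f 0).2)
    rw [h.eq]
    group
  intro hg
  refine D.w_not_conj hwy (g * (A * B)⁻¹) ?_
  rw [← ey, ← hg]
  group

/-- The elements of `Y` are not conjugate to `σ`. -/
theorem Y_not_conj {y : G} (hy : y ∈ D.Y) (g : G) : g * y * g⁻¹ ≠ D.s := by
  classical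
  obtain ⟨f, rfl⟩ := hy
  intro hg
  by_cases h2 : ∃ i j, i ≠ j ∧ (f i : G) ∈ D.Zt ∧ (f j : G) ∈ D.Zt
  · obtain ⟨i, j, hij, hi, hj⟩ := h2
    obtain ⟨k, l, hkl, hcov⟩ := pair_rest i j hij
    set p : ∀ i, D.Rh i := Pi.mulSingle k (f k) * Pi.mulSingle l (f l) with hp
    have hz : D.pr (p⁻¹ * f) ∈ D.Zt := by
      refine D.pr_Zt fun m => ?_
      rw [hp]
      simp only [Pi.mul_apply, Pi.inv_apply]
      rcases eq_or_ne m k with rfl | hmk
      · rw [Pi.mulSingle_eq_same, Pi.mulSingle_eq_of_ne hkl, mul_one, inv_mul_cancel]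
        exact one_mem _
      rcases eq_or_ne m l with rfl | hml
      · rw [Pi.mulSingle_eq_same, Pi.mulSingle_eq_of_ne hmk, one_mul, inv_mul_cancel]
        exact one_mem _
      rw [Pi.mulSingle_eq_of_ne hmk, Pi.mulSingle_eq_of_ne hml, one_mul, inv_one, one_mul]
      rcases hcov m with rfl | rfl | rfl | rfl
      exacts [hi, hj, absurd rfl hmk, absurd rfl hml]
    have e : D.pr f = (f k : G) * ((f l : G) * D.pr (p⁻¹ * f)) := by
      rw [map_mul, map_inv, hp, map_mul, D.pr_single, D.pr_single]; group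
    exact D.pair_not_conj (hh_wt k) (hh_wt l) (hh_sep k l hkl).1 (hh_sep k l hkl).2 (f k).2
      (mul_mem (f l).2 (D.Zt_le_R l hz)) g (e ▸ hg)
  by_cases h1 : ∃ i, (f i : G) ∈ D.Zt
  · obtain ⟨i, hi⟩ := h1
    have hsq : ∀ m, m ≠ i → (f m : G) * f m = D.F.t := fun m hm =>
      (D.R_sq (hh_wt m) (f m).2).resolve_left fun e =>
        h2 ⟨m, i, hm, D.mem_Zt.2 (D.R_invol (hh_wt m) (f m).2 e), hi⟩
    have hy2 : D.pr (f * f) = 1 := by
      rw [map_mul]
      have := congrArg (fun u => g⁻¹ * (u * u) * g) hg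
      simp only [D.hs.sq, mul_one, inv_mul_cancel] at this
      rw [← this]
      group
    rw [D.pr_eq] at hy2
    simp only [Pi.mul_apply, Subgroup.coe_mul] at hy2
    have hi2 := D.Zt_sq hi
    refine D.t_ne ?_
    fin_cases i <;> simp only [Fin.zero_eta, Fin.mk_one, Fin.reduceFinMk] at hi2 hsq
    · rwa [hi2, hsq 1 (by decide), hsq 2 (by decide), hsq 3 (by decide), one_mul, D.F.ht.sq, one_mul] at hy2
    · rwa [hi2, hsq 0 (by decide), hsq 2 (by decide), hsq 3 (by decide), mul_one, D.F.ht.sq, one_mul] at hy2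
    · rwa [hi2, hsq 0 (by decide), hsq 1 (by decide), hsq 3 (by decide), mul_one, D.F.ht.sq, one_mul] at hy2
    · rwa [hi2, hsq 0 (by decide), hsq 1 (by decide), hsq 2 (by decide), mul_one, D.F.ht.sq, one_mul] at hy2
  push Not at h1
  exact D.full_not_conj f h1 g hg

/-- No element of `P₀` is conjugate to `σ`. -/
theorem P₀_not_conj {x : G} (hx : x ∈ D.P₀) (g : G) : g * x * g⁻¹ ≠ D.s := by
  obtain ⟨y, hy, ε, rfl⟩ := hx
  by_cases h : ε = 1
  · rw [h, map_one, mul_one]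
    exact D.Y_not_conj hy g
  · exact D.outer_not_conj h hy g

end Dbl

end Loc

end Cfsg.Agent.Spor.OmegaEightThree
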